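import Cfsg.Agent.Stn.McL
import Cfsg.Agent.S0404
import Cfsg.Agent.S1580
import Cfsg.Agent.S1581
import Cfsg.Prelude.Def_Spor_Conway

set_option autoImplicit false

namespace Cfsg.Agent.Stn
open Finset Cfsg MulAction Cfsg.Agent.Lee Cfsg.Agent.Gol

/-- the norm six vector -/
def mcU : Λ := -Spor.leechV

theorem mc_u : sqNorm (mcU : V) = 48 := by decide +kernel
theorem mc_v : sqNorm (Spor.leechU : V) = 32 := by decide +kernel
theorem mc_w : sqNorm ((mcU : V) - (Spor.leechU : V)) = 32 := by decide +kernel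
theorem mc_vw : dotInt (Spor.leechU : V) ((mcU - Spor.leechU : Λ) : V) = -8 := by decide +kernel

/-- the McLaughlin group inside `Co0` -/
abbrev Mc0 : Subgroup Co0 := stabilizer Co0 Spor.leechU ⊓ stabilizer Co0 (mcU - Spor.leechU)

theorem mem_Mc0 {g : Co0} : g ∈ Mc0 ↔ g • mcU = mcU ∧ g • Spor.leechU = Spor.leechU :=
  ⟨fun h => ⟨(fix_sub h.1).1 h.2, h.1⟩, fun h => ⟨h.2, (fix_sub h.2).2 h.1⟩⟩

theorem McL_eq : Spor.McL = Mc0.map Co0.subtype := by
  ext g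
  simp only [Spor.McL, Spor.Co3, Subgroup.mem_inf, mem_stabilizer_iff, Subgroup.mem_map]
  have k : ∀ g : Co0, g • mcU = mcU ↔ g • Spor.leechV = Spor.leechV :=
    fun g => by rw [mcU, co_neg, neg_inj]
  exact ⟨fun h => ⟨⟨g, h.1.1⟩, mem_Mc0.2 ⟨(k ⟨g, h.1.1⟩).2 h.1.2, h.2⟩, rfl⟩,
    fun ⟨x, h, e⟩ => e ▸ ⟨⟨x.2, (k x).1 (mem_Mc0.1 h).1⟩, h.1⟩⟩

theorem McL_iso : Nonempty (Mc0 ≃* Spor.McL) :=
  ⟨(Mc0.equivMapOfInjective _ Subtype.val_injective).trans (MulEquiv.subgroupCongr McL_eq.symm)⟩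

theorem isMc0 : IsMcL Mc0 := S0404.result _ _ mc_v mc_w mc_vw

/-- the 275 points -/
def X275 : SubMulAction Mc0 Λ where
  carrier := {x | sqNorm (x : V) = 32 ∧ sqNorm ((mcU : V) - (x : V)) = 32 ∧
    dotInt (Spor.leechU : V) (x : V) = 16}
  smul_mem' g x hx := by
    obtain ⟨h1, h2⟩ := mem_Mc0.1 g.2
    refine ⟨(nm_smul g x).trans hx.1, ?_, ?_⟩
    · have := nm_smul g (mcU - x)
      rw [co_sub, h1] at this
      exact this.trans hx.2.1
    · rw [← h2]; exact (dt_smul g _ x).trans hx.2.2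

/-- the graph on the 275 points -/
def G275 : SimpleGraph X275 where
  Adj x y := dotInt (x.1 : V) (y.1 : V) = 8
  symm := ⟨fun x y h => (dot_comm _ _).trans h⟩
  loopless := ⟨fun x h => by
    rw [← sqNorm_eq_dot, x.2.1] at h
    norm_num at h⟩

theorem exists_mc_emb {W : Type*} [Fintype W] {G : SimpleGraph W} [DecidableRel G.Adj]
    (hG : G.IsSRGWith 275 112 30 56) : ∃ f : Mc0 →* (G ≃g G), Function.Injective f := by
  classical
  obtain ⟨c, tr⟩ := S1580.result _ _ mc_u ⟨mc_v, mc_w⟩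
  have c' : Nat.card X275 = 275 := c
  have : Finite X275 := Nat.finite_of_card_ne_zero (by omega)
  have := Fintype.ofFinite X275
  have : IsPretransitive Mc0 X275 := ⟨fun x y => by
    obtain ⟨g, a, b, h⟩ := tr x x.2 y y.2
    exact ⟨⟨g, mem_Mc0.2 ⟨a, b⟩⟩, Subtype.ext h⟩⟩
  have inv : ∀ (g : Mc0) x y, G275.Adj (g • x) (g • y) ↔ G275.Adj x y := fun g x y =>
    iff_of_eq (congrArg (· = 8) (dt_smul g x y))
  have : Nontrivial X275 := Finite.one_lt_card_iff_nontrivial.1 (by omega)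
  obtain ⟨a, a', ha⟩ := exists_pair_ne X275
  obtain ⟨n1, n2, t⟩ := S1581.result _ _ a mc_u ⟨mc_v, mc_w⟩ a.2
  obtain ⟨b, hb⟩ := Set.nonempty_of_ncard_ne_zero (n1.trans_ne (by norm_num))
  obtain ⟨d, hd⟩ := Set.nonempty_of_ncard_ne_zero (n2.trans_ne (by norm_num))
  have ne8 : ∀ y : Λ, dotInt (a.1 : V) (y : V) = 8 → y ≠ a := fun y h e => by
    rw [e, ← sqNorm_eq_dot, a.2.1] at h
    norm_num at h
  have e : {y | G275.Adj a y}.ncard = 112 := by
    rw [← n1, ← Set.ncard_image_of_injective _ Subtype.val_injective]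
    congr 1
    ext y
    exact ⟨fun ⟨x, h, e⟩ => e ▸ ⟨x.2, h⟩, fun h => ⟨⟨y, h.1⟩, h.2, rfl⟩⟩
  have e' : {y : X275 | y ≠ a ∧ dotInt (a.1 : V) (y.1 : V) = 16}.ncard = 162 := by
    rw [← n2, ← Set.ncard_image_of_injective _ Subtype.val_injective]
    congr 1
    ext y
    exact ⟨fun ⟨x, h, e⟩ => e ▸ ⟨x.2, fun e => h.1 (Subtype.ext e), h.2⟩,
      fun h => ⟨⟨y, h.1⟩, ⟨fun e => h.2.1 (congrArg Subtype.val e), h.2.2⟩, rfl⟩⟩
  have all : insert a ({y | G275.Adj a y} ∪ {y : X275 | y ≠ a ∧ dotInt (a.1 : V) (y.1 : V) = 16}) =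
      Set.univ := by
    apply Set.eq_of_subset_of_ncard_le (Set.subset_univ _)
    rw [Set.ncard_insert_of_notMem (fun h => h.elim (fun h => G275.irrefl h) fun h => h.1 rfl),
      Set.ncard_union_eq (Set.disjoint_left.2 fun y h h' => by
        have : dotInt (a.1 : V) (y.1 : V) = 8 := h
        rw [h'.2] at this
        norm_num at this), e, e', Set.ncard_univ, c']
  obtain ⟨l, m, h⟩ := srg_of_rank3 inv a ⟨b, hb.1⟩ ⟨d, hd.1⟩ (fun y hy => by
      obtain ⟨g, p, q, r, s⟩ := t b hb.1 y y.2 (ne8 _ hb.2) (ne8 _ hy) (hb.2.trans (Eq.symm hy))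
      exact ⟨⟨g, mem_Mc0.2 ⟨p, q⟩⟩, Subtype.ext r, Subtype.ext s⟩) (fun y hy hy' => by
      have : y ∈ insert a ({y | G275.Adj a y} ∪
        {y : X275 | y ≠ a ∧ dotInt (a.1 : V) (y.1 : V) = 16}) := all ▸ trivial
      obtain ⟨g, p, q, r, s⟩ := t d hd.1 y y.2 hd.2.1 (fun e => hy (Subtype.ext e))
        (hd.2.2.trans ((this.resolve_left hy).resolve_left hy').2.symm)
      exact ⟨⟨g, mem_Mc0.2 ⟨p, q⟩⟩, Subtype.ext r, Subtype.ext s⟩)
  rw [e, ← Nat.card_eq_fintype_card, c'] at h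
  obtain ⟨φ⟩ := srg275_iso (par275 h) hG
  refine ⟨(autCongr φ).toMonoidHom.comp (toAut inv), (autCongr φ).injective.comp ?_⟩
  have := isMc0.1
  rcases (toAut inv).normal_ker.eq_bot_or_eq_top with h | h
  · exact (MonoidHom.ker_eq_bot_iff _).1 h
  · obtain ⟨g, hg⟩ := exists_smul_eq Mc0 a a'
    have : toAut inv g = 1 := (h ▸ Subgroup.mem_top g : g ∈ (toAut inv).ker)
    rw [← toAut_apply inv, this] at hg
    exact absurd hg ha

end Cfsg.Agent.Stn
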