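/-
Steiner systems: counting lemmas.
-/
import Mathlib
import Cfsg.Prelude.Def_Sporadic_a

set_option autoImplicit false

namespace Cfsg.Agent.Stn

open Finset

section
variable {α : Type*} [Fintype α] [DecidableEq α] {t k : ℕ} {B : Set (Finset α)}

open Classical in
/-- the blocks as a finite set -/
noncomputable def bl (B : Set (Finset α)) : Finset (Finset α) := univ.filter (· ∈ B)

omit [DecidableEq α] in
@[simp] theorem mem_bl {b : Finset α} : b ∈ bl B ↔ b ∈ B := by simp [bl]

omit [DecidableEq α] in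
theorem ncard_bl (P : Finset α → Prop) [DecidablePred P] :
    {c | c ∈ B ∧ P c}.ncard = ((bl B).filter P).card := by
  rw [← Set.ncard_coe_finset]
  congr 1
  ext c
  simp

omit [DecidableEq α] in
theorem ncard_bl' : B.ncard = (bl B).card := by
  rw [← Set.ncard_coe_finset]
  congr 1
  ext c
  simp

omit [Fintype α] in
theorem blk_eq (hB : IsSteinerSystem t k B) {b c : Finset α} (hb : b ∈ B) (hc : c ∈ B)
    (h : t ≤ (b ∩ c).card) : b = c := by
  obtain ⟨s, hs, hs'⟩ := exists_subset_card_eq h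
  exact (hB.2 s hs').unique ⟨hb, hs.trans inter_subset_left⟩ ⟨hc, hs.trans inter_subset_right⟩

/-- number of blocks containing `s` -/
noncomputable def lam (B : Set (Finset α)) (s : Finset α) : ℕ := ((bl B).filter (s ⊆ ·)).card

/-- number of blocks meeting `b` exactly in `s` -/
noncomputable def cnt (B : Set (Finset α)) (b s : Finset α) : ℕ :=
  ((bl B).filter (b ∩ · = s)).card

theorem lam_mul (hB : IsSteinerSystem t k B) (s : Finset α) (hs : s.card ≤ t) :
    lam B s * (k - s.card).choose (t - s.card) = (Fintype.card α - s.card).choose (t - s.card) := by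
  have := Finset.card_mul_eq_card_mul (s := (bl B).filter (s ⊆ ·))
    (t := powersetCard (t - s.card) sᶜ) (fun b u => u ⊆ b)
    (m := (k - s.card).choose (t - s.card)) (n := 1) (fun b hb => by
      obtain ⟨hb, hsb⟩ := mem_filter.1 hb
      have e : bipartiteAbove (fun b u : Finset α => u ⊆ b) (powersetCard (t - s.card) sᶜ) b =
          powersetCard (t - s.card) (b \ s) := by
        ext u
        simp only [mem_bipartiteAbove, mem_powersetCard, subset_sdiff]
        constructor
        · rintro ⟨⟨h1, h2⟩, h3⟩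
          exact ⟨⟨h3, subset_compl_iff_disjoint_right.1 h1⟩, h2⟩
        · rintro ⟨⟨h1, h2⟩, h3⟩
          exact ⟨⟨subset_compl_iff_disjoint_right.2 h2, h3⟩, h1⟩
      rw [e, card_powersetCard, card_sdiff_of_subset hsb, hB.1 b (mem_bl.1 hb)])
    (fun u hu => by
      obtain ⟨h1, h2⟩ := mem_powersetCard.1 hu
      have hd : Disjoint s u := (subset_compl_iff_disjoint_right.1 h1).symm
      obtain ⟨b, ⟨hb, hb'⟩, hu⟩ := hB.2 (s ∪ u) (by rw [card_union_of_disjoint hd]; omega)
      rw [card_eq_one]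
      refine ⟨b, ?_⟩
      ext c
      simp only [mem_bipartiteBelow, mem_filter, mem_bl, mem_singleton]
      constructor
      · rintro ⟨⟨h3, h4⟩, h5⟩
        exact hu c ⟨h3, union_subset h4 h5⟩
      · rintro rfl
        exact ⟨⟨hb, subset_union_left.trans hb'⟩, subset_union_right.trans hb'⟩)
  rw [card_powersetCard, card_compl, mul_one] at this
  exact this

theorem lam_empty : lam B ∅ = B.ncard := by
  rw [ncard_bl', lam, filter_true_of_mem fun _ _ => empty_subset _]

theorem block_count (hB : IsSteinerSystem t k B) :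
    B.ncard * k.choose t = (Fintype.card α).choose t := by
  have := lam_mul hB ∅ (by simp)
  rwa [lam_empty, card_empty, Nat.sub_zero, Nat.sub_zero, Nat.sub_zero] at this

theorem lam_big (hB : IsSteinerSystem t k B) {b s : Finset α} (hb : b ∈ B) (hs : s ⊆ b)
    (h : t ≤ s.card) : lam B s = 1 := by
  rw [lam, card_eq_one]
  refine ⟨b, ?_⟩
  ext c
  simp only [mem_filter, mem_bl, mem_singleton]
  constructor
  · rintro ⟨h1, h2⟩
    exact blk_eq hB h1 hb (h.trans (card_le_card (subset_inter h2 hs)))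
  · rintro rfl
    exact ⟨hb, hs⟩

theorem cnt_eq (b s : Finset α) (hs : s ⊆ b) :
    (cnt B b s : ℤ) = ∑ u ∈ (b \ s).powerset, (-1) ^ u.card * (lam B (s ∪ u) : ℤ) := by
  simp only [cnt, lam, card_filter, Nat.cast_sum, mul_sum]
  rw [sum_comm]
  refine sum_congr rfl fun c _ => ?_
  by_cases h : s ⊆ c
  · have e : ∑ u ∈ (b \ s).powerset, (-1 : ℤ) ^ u.card * ((if s ∪ u ⊆ c then 1 else 0 : ℕ) : ℤ) =
        ∑ u ∈ ((b \ s) ∩ c).powerset, (-1 : ℤ) ^ u.card := by
      rw [← sum_filter_add_sum_filter_not (b \ s).powerset (· ⊆ c)]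
      rw [sum_eq_zero (s := filter (fun x => ¬ x ⊆ c) _) fun u hu => by
        have := (mem_filter.1 hu).2
        rw [if_neg fun h' => this (subset_union_right.trans h')]
        simp, add_zero]
      refine sum_congr ?_ fun u hu => ?_
      · ext u
        simp only [mem_filter, mem_powerset, subset_inter_iff]
      · have := mem_powerset.1 hu
        rw [if_pos (union_subset h (this.trans inter_subset_right))]
        simp
    rw [e, sum_powerset_neg_one_pow_card]
    have : b ∩ c = s ↔ b \ s ∩ c = ∅ := by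
      constructor
      · rintro rfl
        ext x
        simp only [mem_inter, mem_sdiff, notMem_empty]
        tauto
      · intro h'
        ext x
        have h1 : x ∈ b \ s ∩ c ↔ x ∈ (∅ : Finset α) := by rw [h']
        have h2 := @h x
        have h3 := @hs x
        simp only [mem_inter, mem_sdiff, notMem_empty] at h1 ⊢
        tauto
    by_cases h' : b ∩ c = s
    · rw [if_pos h', if_pos (this.1 h')]
      simp
    · rw [if_neg h', if_neg (mt this.2 h')]
      simp
  · rw [if_neg fun h' : b ∩ c = s => h (h' ▸ inter_subset_right)]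
    rw [sum_eq_zero fun u _ => ?_]
    · simp
    · rw [if_neg fun h' => h (subset_union_left.trans h')]
      simp

theorem cnt_of (b s : Finset α) (hs : s ⊆ b) (l : ℕ → ℤ)
    (h : ∀ x, s ⊆ x → x ⊆ b → (lam B x : ℤ) = l x.card) :
    (cnt B b s : ℤ) = ∑ i ∈ range (b.card - s.card + 1),
      (-1) ^ i * ((b.card - s.card).choose i : ℤ) * l (s.card + i) := by
  rw [cnt_eq b s hs, ← card_sdiff_of_subset hs]
  rw [sum_congr rfl (g := fun u => (fun i => (-1) ^ i * l (s.card + i)) u.card) fun u hu => by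
    have hu := subset_sdiff.1 (mem_powerset.1 hu)
    rw [h _ subset_union_left (union_subset hs hu.1), card_union_of_disjoint hu.2.symm]]
  refine (sum_powerset_apply_card (fun i => (-1) ^ i * l (s.card + i))).trans ?_
  refine sum_congr rfl fun i _ => ?_
  rw [nsmul_eq_mul]
  ring

/-- the numbers `λ_i` -/
def lamF (t k v i : ℕ) : ℤ :=
  if i ≤ t then (((v - i).choose (t - i) / (k - i).choose (t - i) : ℕ) : ℤ) else 1

theorem lam_small (hB : IsSteinerSystem t k B) (htk : t ≤ k) {s : Finset α} (h : s.card ≤ t) :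
    (lam B s : ℤ) = lamF t k (Fintype.card α) s.card := by
  rw [lamF, if_pos h, ← lam_mul hB s h, Nat.mul_div_cancel _ (Nat.choose_pos (by omega))]

theorem lam_sub (hB : IsSteinerSystem t k B) (htk : t ≤ k) {b s : Finset α} (hb : b ∈ B)
    (hs : s ⊆ b) : (lam B s : ℤ) = lamF t k (Fintype.card α) s.card := by
  by_cases h : s.card ≤ t
  · exact lam_small hB htk h
  · rw [lamF, if_neg h, lam_big hB hb hs (by omega)]
    rfl

/-- the intersection numbers -/
def cntF (t k v n j : ℕ) : ℤ :=
  ∑ i ∈ range (n - j + 1), (-1) ^ i * ((n - j).choose i : ℤ) * lamF t k v (j + i)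

theorem cnt_blk (hB : IsSteinerSystem t k B) (htk : t ≤ k) {b s : Finset α} (hb : b ∈ B)
    (hs : s ⊆ b) : (cnt B b s : ℤ) = cntF t k (Fintype.card α) k s.card := by
  rw [cnt_of b s hs _ fun x _ hx => lam_sub hB htk hb hx, hB.1 b hb, cntF]

theorem cnt_small (hB : IsSteinerSystem t k B) (htk : t ≤ k) {b s : Finset α} (hb : b.card ≤ t)
    (hs : s ⊆ b) : (cnt B b s : ℤ) = cntF t k (Fintype.card α) b.card s.card := by
  rw [cnt_of b s hs _ fun x _ hx => lam_small hB htk ((card_le_card hx).trans hb), cntF]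

theorem cnt_pos {b c : Finset α} (hc : c ∈ B) : 0 < cnt B b (b ∩ c) :=
  card_pos.2 ⟨c, mem_filter.2 ⟨mem_bl.2 hc, rfl⟩⟩

theorem exists_of_cnt {b s : Finset α} (h : cnt B b s ≠ 0) : ∃ c ∈ B, b ∩ c = s := by
  obtain ⟨c, hc⟩ := card_ne_zero.1 h
  exact ⟨c, mem_bl.1 (mem_filter.1 hc).1, (mem_filter.1 hc).2⟩

theorem inter_ne (hB : IsSteinerSystem t k B) (htk : t ≤ k) {b c : Finset α} (hb : b ∈ B)
    (hc : c ∈ B) {j : ℕ} (h : cntF t k (Fintype.card α) k j = 0) : (b ∩ c).card ≠ j := by
  intro e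
  have h1 := cnt_blk hB htk hb (inter_subset_left (s₂ := c))
  have h2 := cnt_pos (b := b) hc
  rw [e, h] at h1
  omega

omit [Fintype α] in
theorem inter_lt (hB : IsSteinerSystem t k B) {b c : Finset α} (hb : b ∈ B)
    (hc : c ∈ B) (h : b ≠ c) : (b ∩ c).card < t :=
  lt_of_not_ge fun h' => h (blk_eq hB hb hc h')

theorem ncard_cnt (b s : Finset α) : {c | c ∈ B ∧ b ∩ c = s}.ncard = cnt B b s := ncard_bl _

theorem exists_small (hB : IsSteinerSystem t k B) (htk : t ≤ k) {b s : Finset α} (hb : b.card ≤ t)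
    (hs : s ⊆ b) (h : cntF t k (Fintype.card α) b.card s.card ≠ 0) : ∃ c ∈ B, b ∩ c = s :=
  exists_of_cnt fun e => h (by rw [← cnt_small hB htk hb hs, e]; rfl)

theorem inter_5_8_24 (hα : Fintype.card α = 24) (hB : IsSteinerSystem 5 8 B) {b c : Finset α}
    (hb : b ∈ B) (hc : c ∈ B) (hbc : b ≠ c) :
    (b ∩ c).card = 0 ∨ (b ∩ c).card = 2 ∨ (b ∩ c).card = 4 := by
  have h0 := inter_lt hB hb hc hbc
  have h1 := inter_ne hB (by norm_num) hb hc (j := 1) (by rw [hα]; decide)
  have h3 := inter_ne hB (by norm_num) hb hc (j := 3) (by rw [hα]; decide)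
  omega

theorem inter_4_7_23 (hα : Fintype.card α = 23) (hB : IsSteinerSystem 4 7 B) {b c : Finset α}
    (hb : b ∈ B) (hc : c ∈ B) (hbc : b ≠ c) : (b ∩ c).card = 1 ∨ (b ∩ c).card = 3 := by
  have h0 := inter_lt hB hb hc hbc
  have h1 := inter_ne hB (by norm_num) hb hc (j := 0) (by rw [hα]; decide)
  have h3 := inter_ne hB (by norm_num) hb hc (j := 2) (by rw [hα]; decide)
  omega

theorem inter_3_6_22 (hα : Fintype.card α = 22) (hB : IsSteinerSystem 3 6 B) {b c : Finset α}
    (hb : b ∈ B) (hc : c ∈ B) (hbc : b ≠ c) : (b ∩ c).card = 0 ∨ (b ∩ c).card = 2 := by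
  have h0 := inter_lt hB hb hc hbc
  have h1 := inter_ne hB (by norm_num) hb hc (j := 1) (by rw [hα]; decide)
  omega

theorem compl_5_6_12 (hα : Fintype.card α = 12) (hB : IsSteinerSystem 5 6 B) {b : Finset α}
    (hb : b ∈ B) : bᶜ ∈ B := by
  have h1 := cnt_blk hB (by norm_num) hb (empty_subset b)
  rw [hα, card_empty, show cntF 5 6 12 6 0 = 1 by decide] at h1
  obtain ⟨c, hc, e⟩ := exists_of_cnt (B := B) (b := b) (s := ∅) (by omega)
  have : c = bᶜ := eq_of_subset_of_card_le
    (subset_compl_iff_disjoint_left.2 (disjoint_iff_inter_eq_empty.2 e))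
    (by rw [card_compl, hα, hB.1 b hb, hB.1 c hc])
  exact this ▸ hc

omit [Fintype α] in
/-- the derived design -/
theorem derived (hB : IsSteinerSystem (t + 1) (k + 1) B) (p : α) :
    IsSteinerSystem t k {b' : Finset {a : α // a ≠ p} |
      ∃ b ∈ B, p ∈ b ∧ b' = Finset.subtype (fun a => a ≠ p) b} := by
  constructor
  · rintro _ ⟨b, hb, hp, rfl⟩
    rw [card_subtype, filter_ne' b p, card_erase_of_mem hp, hB.1 b hb]
    rfl
  · intro s hs
    have hp : p ∉ s.map (Function.Embedding.subtype _) := by simp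
    obtain ⟨b, ⟨hb, hb'⟩, hu⟩ := hB.2 (insert p (s.map (Function.Embedding.subtype _)))
      (by rw [card_insert_of_notMem hp, card_map, hs])
    refine ⟨_, ⟨⟨b, hb, hb' (mem_insert_self _ _), rfl⟩, fun x hx => ?_⟩, ?_⟩
    · exact mem_subtype.2 (hb' (mem_insert_of_mem (mem_map_of_mem _ hx)))
    · rintro _ ⟨⟨c, hc, hpc, rfl⟩, h⟩
      rw [hu c ⟨hc, insert_subset hpc fun x hx => ?_⟩]
      obtain ⟨y, hy, rfl⟩ := mem_map.1 hx
      exact mem_subtype.1 (h hy)

end

end Cfsg.Agent.Stn
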