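/-
Doubly even families of subsets of a 24-set lie in a copy of the length-24 code.
-/
import Cfsg.Agent.Stn.Basic
import Cfsg.Agent.Gol.Uniq

set_option autoImplicit false

namespace Cfsg.Agent.Stn

open Finset Gol
open scoped Pointwise symmDiff

section
variable {α : Type*} [DecidableEq α]

/-- doubly even code -/
structure DE (K : Finset (Finset α)) : Prop where
  empty : ∅ ∈ K
  sd : ∀ s ∈ K, ∀ t ∈ K, s ∆ t ∈ K
  four : ∀ s ∈ K, s.card % 4 = 0

theorem par_sd (s t u : Finset α) :
    ((s ∆ t) ∩ u).card % 2 = ((s ∩ u).card + (t ∩ u).card) % 2 := by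
  rw [symmDiff_inter_distrib_right']
  have := card_symmDiff' (s ∩ u) (t ∩ u)
  omega

theorem DE.even {K : Finset (Finset α)} (h : DE K) {s t : Finset α} (hs : s ∈ K) (ht : t ∈ K) :
    (s ∩ t).card % 2 = 0 := by
  have := card_symmDiff' s t
  have := h.four s hs
  have := h.four t ht
  have := h.four _ (h.sd s hs t ht)
  omega

theorem DE.extend {K : Finset (Finset α)} (h : DE K) {w : Finset α} (h4 : w.card % 4 = 0)
    (ho : ∀ s ∈ K, (s ∩ w).card % 2 = 0) : DE (K ∪ K.image (· ∆ w)) where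
  empty := mem_union_left _ h.empty
  sd := by
    intro s hs t ht
    simp only [mem_union, mem_image] at hs ht ⊢
    rcases hs with hs | ⟨s, hs, rfl⟩ <;> rcases ht with ht | ⟨t, ht, rfl⟩
    · exact Or.inl (h.sd s hs t ht)
    · exact Or.inr ⟨_, h.sd s hs t ht, symmDiff_assoc _ _ _⟩
    · exact Or.inr ⟨_, h.sd s hs t ht, symmDiff_right_comm _ _ _⟩
    · left
      rw [symmDiff_symmDiff_symmDiff_comm, symmDiff_self, symmDiff_bot]
      exact h.sd s hs t ht
  four := by
    intro s hs
    simp only [mem_union, mem_image] at hs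
    rcases hs with hs | ⟨s, hs, rfl⟩
    · exact h.four s hs
    · have := card_symmDiff' s w
      have := h.four s hs
      have := ho s hs
      omega

theorem DE.char_sum {K : Finset (Finset α)} (h : DE K) (w : Finset α) :
    ∑ c ∈ K, (-1 : ℂ) ^ (c ∩ w).card =
      if ∀ c ∈ K, (c ∩ w).card % 2 = 0 then (K.card : ℂ) else 0 := by
  split_ifs with h1
  · rw [sum_congr rfl (g := fun _ => 1) fun c hc =>
      Even.neg_one_pow (Nat.even_iff.2 (h1 c hc))]
    simp
  · push Not at h1
    obtain ⟨c0, hc0, h1⟩ := h1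
    have e : ∀ c, (-1 : ℂ) ^ ((c ∆ c0) ∩ w).card = - (-1 : ℂ) ^ (c ∩ w).card := fun c => by
      rw [neg_one_pow_eq_pow_mod_two, par_sd, ← neg_one_pow_eq_pow_mod_two, pow_add,
        Odd.neg_one_pow (n := (c0 ∩ w).card) (Nat.odd_iff.2 (by omega))]
      ring
    refine sum_involution (fun c _ => c ∆ c0) (fun c _ => by rw [e]; ring) (fun c _ _ h2 => ?_)
      (fun c hc => h.sd c hc c0 hc0) (fun c _ => symmDiff_symmDiff_cancel_right _ _)
    rw [symmDiff_eq_left] at h2
    rw [h2] at h1
    simp at h1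

variable [Fintype α]

theorem gauss_one (hα : Fintype.card α = 24) {c : Finset α} (hc : c.card % 4 = 0) :
    ∑ w : Finset α, (-1 : ℂ) ^ (c ∩ w).card * Complex.I ^ w.card = 4096 := by
  have h1 := Finset.prod_one_add (s := (univ : Finset α))
    (f := fun x => if x ∈ c then -Complex.I else Complex.I)
  rw [powerset_univ] at h1
  have e1 : ∀ w : Finset α, ∏ x ∈ w, (if x ∈ c then -Complex.I else Complex.I) =
      (-1 : ℂ) ^ (c ∩ w).card * Complex.I ^ w.card := fun w => by
    rw [prod_congr rfl (g := fun x => (if x ∈ c then (-1 : ℂ) else 1) * Complex.I) fun x _ => by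
      split_ifs <;> simp, prod_mul_distrib, prod_const, prod_ite, prod_const, prod_const_one,
      mul_one, filter_mem_eq_inter, inter_comm]
  simp only [e1] at h1
  rw [← h1, prod_congr rfl (g := fun x => if x ∈ c then 1 - Complex.I else 1 + Complex.I)
    fun x _ => by split_ifs <;> simp [sub_eq_add_neg], prod_ite, prod_const, prod_const,
    filter_mem_eq_inter, univ_inter]
  have e2 : (univ.filter fun x => x ∉ c) = cᶜ := by ext; simp
  have h2 : c.card ≤ 24 := hα ▸ card_le_univ c
  obtain ⟨a, ha⟩ : ∃ a, c.card = 4 * a := ⟨c.card / 4, by omega⟩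
  have p1 : (1 - Complex.I) ^ 4 = -4 := by
    have : (1 - Complex.I) ^ 2 = -2 * Complex.I := by
      linear_combination Complex.I_sq
    rw [show 4 = 2 * 2 from rfl, pow_mul, this]
    ring_nf
    simp
  have p2 : (1 + Complex.I) ^ 4 = -4 := by
    have : (1 + Complex.I) ^ 2 = 2 * Complex.I := by ring_nf; simp
    rw [show 4 = 2 * 2 from rfl, pow_mul, this]
    ring_nf
    simp
  rw [e2, card_compl, hα, ha, show 24 - 4 * a = 4 * (6 - a) by omega, pow_mul, pow_mul, p1, p2,
    ← pow_add, show a + (6 - a) = 6 by omega]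
  norm_num

theorem DE.gauss (hα : Fintype.card α = 24) {K : Finset (Finset α)} (h : DE K) :
    ∑ w ∈ univ.filter (fun w => ∀ c ∈ K, (c ∩ w).card % 2 = 0), Complex.I ^ w.card = 4096 := by
  have h1 : ∑ c ∈ K, ∑ w : Finset α, (-1 : ℂ) ^ (c ∩ w).card * Complex.I ^ w.card =
      K.card * 4096 := by
    rw [sum_congr rfl fun c hc => gauss_one hα (h.four c hc)]
    simp
  rw [sum_comm] at h1
  simp only [← sum_mul, h.char_sum, ite_mul, zero_mul] at h1
  rw [← sum_filter, ← mul_sum] at h1
  exact mul_left_cancel₀ (Nat.cast_ne_zero.2 (card_ne_zero.2 ⟨_, h.empty⟩)) h1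

theorem DE.big (hα : Fintype.card α = 24) {K : Finset (Finset α)} (h : DE K) (hu : univ ∈ K)
    (hm : ∀ w, w.card % 4 = 0 → (∀ c ∈ K, (c ∩ w).card % 2 = 0) → w ∈ K) : 4096 ≤ K.card := by
  have h1 := congrArg Complex.re (h.gauss hα)
  rw [Complex.re_sum] at h1
  have h2 : ∑ w ∈ univ.filter (fun w => ∀ c ∈ K, (c ∩ w).card % 2 = 0), (Complex.I ^ w.card).re ≤
      ∑ w : Finset α, (if w ∈ K then (1 : ℝ) else 0) := by
    rw [sum_filter]
    refine sum_le_sum fun w _ => ?_
    split_ifs with h3 h4 h4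
    · rw [Complex.I_pow_eq_pow_mod, h.four w h4]
      simp
    · have h5 := h3 _ hu
      rw [univ_inter] at h5
      have h6 : w.card % 4 = 2 := by
        have := mt (fun h => hm w h h3) h4
        omega
      rw [Complex.I_pow_eq_pow_mod, h6]
      simp
    · norm_num
    · norm_num
  rw [h1, sum_boole, filter_mem_eq_inter, univ_inter] at h2
  have : ((4096 : ℕ) : ℝ) ≤ K.card := by simpa using h2
  exact_mod_cast this

theorem ext_gc (hα : Fintype.card α = 24) (F : Set (Finset α)) (h4 : ∀ s ∈ F, s.card % 4 = 0)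
    (h2 : ∀ s ∈ F, ∀ t ∈ F, (s ∩ t).card % 2 = 0)
    (hn : ∀ w : Finset α, w.card = 4 → ∃ s ∈ F, (w ∩ s).card % 2 = 1) :
    ∃ e : GolayPt ≃ α, ∀ s, s.map e.toEmbedding ∈ F → CW s := by
  classical
  let T : Finset (Finset (Finset α)) :=
    univ.filter fun K => DE K ∧ univ ∈ K ∧ ∀ c ∈ K, ∀ s ∈ F, (c ∩ s).card % 2 = 0
  have h0 : DE ({∅} : Finset (Finset α)) := ⟨by simp, by simp, by simp⟩
  have hT : T.Nonempty := by
    refine ⟨_, mem_filter.2 ⟨mem_univ _, h0.extend (w := univ) (by rw [card_univ, hα]) (by simp),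
      mem_union_right _ (mem_image.2 ⟨∅, by simp, bot_symmDiff _⟩), fun c hc s hs => ?_⟩⟩
    simp only [image_singleton, mem_union, mem_singleton] at hc
    rcases hc with rfl | rfl
    · simp
    · have := h4 s hs
      rw [par_sd]
      simp only [empty_inter, card_empty, univ_inter]
      omega
  obtain ⟨K, hK, hmax⟩ := exists_max_image T card hT
  obtain ⟨-, hK, hu, hF⟩ := mem_filter.1 hK
  have step : ∀ w, w.card % 4 = 0 → (∀ c ∈ K, (c ∩ w).card % 2 = 0) →
      (∀ s ∈ F, (w ∩ s).card % 2 = 0) → w ∈ K := fun w a b c => by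
    have h5 := hmax _ (mem_filter.2 ⟨mem_univ _, hK.extend a b, mem_union_left _ hu,
      fun x hx s hs => by
        simp only [mem_union, mem_image] at hx
        rcases hx with hx | ⟨x, hx, rfl⟩
        · exact hF x hx s hs
        · have := hF x hx s hs
          have := c s hs
          rw [par_sd]
          omega⟩)
    rw [eq_of_subset_of_card_le subset_union_left h5]
    exact mem_union_right _ (mem_image.2 ⟨∅, hK.empty, bot_symmDiff w⟩)
  have hFK : ∀ s ∈ F, s ∈ K := fun s hs =>
    step s (h4 s hs) (fun c hc => hF c hc s hs) (h2 s hs)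
  have hb := hK.big hα hu fun w a b => step w a b fun s hs => by
    rw [inter_comm]; exact b s (hFK s hs)
  obtain ⟨e, he⟩ := GC.uniq hα (K := K) ⟨hK.empty, hK.sd, hK.four, fun s hs e => by
    obtain ⟨t, ht, h⟩ := hn s e
    have := hF s hs t ht
    omega, by omega⟩
  exact ⟨e, fun s hs => (he s).2 (hFK _ hs)⟩

end

end Cfsg.Agent.Stn
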