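/-
Models of set systems inside a fixed point set, and their automorphism groups.
-/
import Cfsg.Agent.Stn.Basic
import Cfsg.Agent.Gol.Gen

set_option autoImplicit false

namespace Cfsg.Agent.Stn

open Finset Equiv
open scoped Pointwise

section
variable {α β γ : Type*} [DecidableEq α] [DecidableEq β] [DecidableEq γ]

theorem mem_aut [Fintype α] {B : Set (Finset α)} {σ : Perm α} :
    σ ∈ setSystemAut B ↔ ∀ b ∈ B, σ • b ∈ B :=
  MulAction.mem_stabilizer_set' (Set.toFinite _)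

theorem aut_iff {B : Set (Finset α)} (σ : setSystemAut B) (b : Finset α) :
    (σ : Perm α) • b ∈ B ↔ b ∈ B :=
  MulAction.mem_stabilizer_set.1 σ.2 b

/-- `j` carries the system `B` onto the members of `C` inside `X` -/
structure Model (j : α ↪ γ) (X : Finset γ) (B : Set (Finset α)) (C : Set (Finset γ)) : Prop where
  rng : ∀ p, p ∈ X ↔ ∃ a, j a = p
  blk : ∀ b, b ∈ B ↔ b.map j ∈ C

/-- the bijection onto the range -/
noncomputable def eqvX (j : α ↪ γ) {X : Finset γ} (h : ∀ p, p ∈ X ↔ ∃ a, j a = p) : α ≃ X :=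
  Equiv.ofBijective (fun a => ⟨j a, (h _).2 ⟨a, rfl⟩⟩)
    ⟨fun _ _ e => j.injective (congrArg Subtype.val e), fun p => by
      obtain ⟨a, ha⟩ := (h p).1 p.2
      exact ⟨a, Subtype.ext ha⟩⟩

omit [DecidableEq α] [DecidableEq γ] in
@[simp] theorem eqvX_apply (j : α ↪ γ) {X : Finset γ} (h : ∀ p, p ∈ X ↔ ∃ a, j a = p) (a : α) :
    (eqvX j h a : γ) = j a := rfl

omit [DecidableEq α] [DecidableEq γ] in
@[simp] theorem eqvX_symm (j : α ↪ γ) {X : Finset γ} (h : ∀ p, p ∈ X ↔ ∃ a, j a = p) (p : X) :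
    j ((eqvX j h).symm p) = p := by
  rw [← eqvX_apply j h, apply_symm_apply]

omit [DecidableEq α] [DecidableEq γ] in
theorem exists_emb [Fintype α] (X : Finset γ) (h : Fintype.card α = X.card) :
    ∃ j : α ↪ γ, ∀ p, p ∈ X ↔ ∃ a, j a = p := by
  let e : α ≃ X := Fintype.equivOfCardEq (by rw [h, Fintype.card_coe])
  refine ⟨e.toEmbedding.trans (Function.Embedding.subtype _), fun p => ⟨fun hp => ?_, ?_⟩⟩
  · exact ⟨e.symm ⟨p, hp⟩, by simp⟩
  · rintro ⟨a, rfl⟩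
    exact (e a).2

omit [DecidableEq α] [DecidableEq γ] in
theorem exists_pre {j : α ↪ γ} {X : Finset γ} (h : ∀ p, p ∈ X ↔ ∃ a, j a = p) {s : Finset γ}
    (hs : s ⊆ X) : ∃ b : Finset α, b.map j = s := by
  refine ⟨s.preimage j j.injective.injOn, ?_⟩
  ext p
  simp only [mem_map, mem_preimage]
  constructor
  · rintro ⟨a, ha, rfl⟩
    exact ha
  · intro hp
    obtain ⟨a, rfl⟩ := (h p).1 (hs hp)
    exact ⟨a, hp, rfl⟩

omit [DecidableEq α] [DecidableEq γ] in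
theorem map_sub {j : α ↪ γ} {X : Finset γ} (h : ∀ p, p ∈ X ↔ ∃ a, j a = p) (b : Finset α) :
    b.map j ⊆ X := fun p hp => by
  obtain ⟨a, -, rfl⟩ := mem_map.1 hp
  exact (h _).2 ⟨a, rfl⟩

omit [DecidableEq α] in
theorem model_of {t k : ℕ} {j : α ↪ γ} {X : Finset γ} {B : Set (Finset α)} {C : Set (Finset γ)}
    (hB : IsSteinerSystem t k B) (htk : t ≤ k) (h : ∀ p, p ∈ X ↔ ∃ a, j a = p)
    (h1 : ∀ c ∈ C, c.card = k) (h2 : ∀ c ∈ C, ∀ c' ∈ C, t ≤ (c ∩ c').card → c = c')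
    (h3 : ∀ b ∈ B, b.map j ∈ C) : Model j X B C := by
  refine ⟨h, fun b => ⟨h3 b, fun hb => ?_⟩⟩
  obtain ⟨s, hs, hs'⟩ := exists_subset_card_eq (s := b) (n := t) (by
    rw [← card_map j, h1 _ hb]; exact htk)
  obtain ⟨c, ⟨hc, hc'⟩, -⟩ := hB.2 s hs'
  have := h2 _ hb _ (h3 c hc) (by
    rw [← hs', ← card_map j]
    exact card_le_card (subset_inter (map_subset_map.2 hs) (map_subset_map.2 hc')))
  rw [map_injective j this]
  exact hc

omit [DecidableEq α] [DecidableEq γ] [DecidableEq β] in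
theorem Model.exists_equiv {j : α ↪ γ} {j' : β ↪ γ} {X : Finset γ} {B : Set (Finset α)}
    {B' : Set (Finset β)} {C : Set (Finset γ)} (h : Model j X B C) (h' : Model j' X B' C) :
    ∃ e : α ≃ β, (∀ a, j' (e a) = j a) ∧ ∀ b, b ∈ B ↔ b.map e.toEmbedding ∈ B' := by
  let e : α ≃ β := (eqvX j h.rng).trans (eqvX j' h'.rng).symm
  have he : ∀ a, j' (e a) = j a := fun a => by simp [e]
  refine ⟨e, he, fun b => ?_⟩
  rw [h.blk, h'.blk, map_map]
  have : e.toEmbedding.trans j' = j := by ext a; exact he a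
  rw [this]

omit [DecidableEq α] in
theorem iso_of_equiv {B : Set (Finset α)} {B' : Set (Finset β)} (e : α ≃ β)
    (h : ∀ b, b ∈ B ↔ b.map e.toEmbedding ∈ B') : SetSystemIso B B' := by
  refine ⟨e, ?_⟩
  ext c
  constructor
  · rintro ⟨b, hb, rfl⟩
    have := (h b).1 hb
    rwa [map_eq_image] at this
  · intro hc
    refine ⟨c.map e.symm.toEmbedding, (h _).2 (by simpa [map_map] using hc), ?_⟩
    ext x
    simp only [mem_image, mem_map_equiv, symm_symm]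
    exact ⟨fun ⟨a, h1, h2⟩ => h2 ▸ h1, fun h => ⟨e.symm x, by simpa using h, by simp⟩⟩

omit [DecidableEq α] [DecidableEq γ] in
theorem Model.iso {j : α ↪ γ} {j' : β ↪ γ} {X : Finset γ} {B : Set (Finset α)}
    {B' : Set (Finset β)} {C : Set (Finset γ)} (h : Model j X B C) (h' : Model j' X B' C) :
    SetSystemIso B B' := by
  obtain ⟨e, -, he⟩ := h.exists_equiv h'
  exact iso_of_equiv e he

theorem Model.aut [Fintype α] {G : Type*} [Group G] [MulAction G γ] {j : α ↪ γ} {X : Finset γ}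
    {B : Set (Finset α)} {C : Set (Finset γ)} (h : Model j X B C) (H : Subgroup G)
    (hX : ∀ g ∈ H, ∀ x ∈ X, g • x ∈ X) (hC : ∀ g ∈ H, ∀ c ∈ C, g • c ∈ C)
    (hi : ∀ g ∈ H, (∀ x ∈ X, g • x = x) → g = 1)
    (hs : ∀ σ : Perm γ, (∀ p ∉ X, σ p = p) → (∀ c ∈ C, c ⊆ X → σ • c ∈ C) →
      ∃ g ∈ H, ∀ x ∈ X, g • x = σ x) :
    ∃ φ : H ≃* setSystemAut B, ∀ (g : H) (a : α), j (φ g • a) = (g : G) • j a := by
  let e := eqvX j h.rng
  let ψ : H →* Perm α := (e.symm.permCongrHom : Perm X →* Perm α).comp (Gol.resHom H X hX)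
  have hψ : ∀ (g : H) (a : α), j (ψ g a) = (g : G) • j a := fun g a => by
    have : ψ g a = e.symm (Gol.resHom H X hX g (e a)) := rfl
    rw [this, eqvX_symm, Gol.resHom_apply]
    rfl
  have hm : ∀ (g : H) (b : Finset α), (ψ g • b).map j = (g : G) • b.map j := fun g b => by
    ext p
    simp only [mem_map, mem_smul_finset]
    constructor
    · rintro ⟨_, ⟨a, ha, rfl⟩, rfl⟩
      exact ⟨_, ⟨a, ha, rfl⟩, (hψ g a).symm⟩
    · rintro ⟨_, ⟨a, ha, rfl⟩, rfl⟩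
      exact ⟨_, ⟨a, ha, rfl⟩, hψ g a⟩
  let φ : H →* setSystemAut B := ψ.codRestrict _ fun g => mem_aut.2 fun b hb => by
    rw [h.blk, hm]
    exact hC _ g.2 _ ((h.blk b).1 hb)
  refine ⟨MulEquiv.ofBijective φ ⟨(injective_iff_map_eq_one φ).2 fun g hg => ?_, fun σ => ?_⟩,
    fun g a => hψ g a⟩
  · refine Subtype.ext (hi _ g.2 fun x hx => ?_)
    obtain ⟨a, rfl⟩ := (h.rng x).1 hx
    rw [← hψ, show ψ g = 1 from congrArg Subtype.val hg]
    rfl
  · let τ : Perm γ := Perm.ofSubtype (e.permCongr σ)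
    have hτ : ∀ a, τ (j a) = j ((σ : Perm α) a) := fun a => by
      rw [Perm.ofSubtype_apply_of_mem _ ((h.rng _).2 ⟨a, rfl⟩)]
      have : (⟨j a, (h.rng _).2 ⟨a, rfl⟩⟩ : X) = e a := rfl
      rw [this, permCongr_apply, symm_apply_apply]
      rfl
    obtain ⟨g, hg, hg'⟩ := hs τ (fun p hp => Perm.ofSubtype_apply_of_not_mem _ hp) fun c hc hcX => by
      obtain ⟨b, rfl⟩ := exists_pre h.rng hcX
      have : τ • b.map j = ((σ : Perm α) • b).map j := by
        ext p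
        simp only [mem_map, mem_smul_finset]
        constructor
        · rintro ⟨_, ⟨a, ha, rfl⟩, rfl⟩
          exact ⟨_, ⟨a, ha, rfl⟩, (hτ a).symm⟩
        · rintro ⟨_, ⟨a, ha, rfl⟩, rfl⟩
          exact ⟨_, ⟨a, ha, rfl⟩, hτ a⟩
      rw [this, ← h.blk, aut_iff]
      exact (h.blk b).2 hc
    refine ⟨⟨g, hg⟩, Subtype.ext (Perm.ext fun a => j.injective ?_)⟩
    rw [← hτ, ← hg' _ ((h.rng _).2 ⟨a, rfl⟩)]
    exact hψ ⟨g, hg⟩ a

omit [DecidableEq γ] in
theorem multi_of {G : Type*} [Group G] [MulAction G γ] {j : α ↪ γ}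
    {B : Set (Finset α)} {H : Subgroup G} (φ : H ≃* setSystemAut B)
    (hφ : ∀ (g : H) (a : α), j (φ g • a) = (g : G) • j a) (n : ℕ)
    (h : ∀ x y : Fin n ↪ α, ∃ g ∈ H, ∀ i, g • j (x i) = j (y i)) :
    MulAction.IsMultiplyPretransitive (setSystemAut B) α n := by
  rw [MulAction.isMultiplyPretransitive_iff]
  intro x y
  obtain ⟨g, hg, hg'⟩ := h x y
  refine ⟨φ ⟨g, hg⟩, ?_⟩
  ext i
  apply j.injective
  rw [← hg' i]
  exact hφ ⟨g, hg⟩ (x i)

omit [DecidableEq γ] in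
theorem sharp_of {G : Type*} [Group G] [MulAction G γ] {j : α ↪ γ}
    {B : Set (Finset α)} {H : Subgroup G} (φ : H ≃* setSystemAut B)
    (hφ : ∀ (g : H) (a : α), j (φ g • a) = (g : G) • j a) (n : ℕ)
    (h : ∀ x : Fin n ↪ α, ∀ g ∈ H, (∀ i, g • j (x i) = j (x i)) → g = 1) (x : Fin n ↪ α) :
    MulAction.stabilizer (setSystemAut B) x = ⊥ := by
  rw [eq_bot_iff]
  intro σ hσ
  obtain ⟨g, rfl⟩ := φ.surjective σ
  have : g = 1 := Subtype.ext (h x g g.2 fun i => by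
    rw [← hφ]
    exact congrArg j (congrFun (congrArg DFunLike.coe hσ) i))
  rw [this, map_one]
  exact Subgroup.one_mem _

end

end Cfsg.Agent.Stn
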