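/-
The Steiner systems S(5,8,24), S(4,7,23), S(3,6,22).
-/
import Cfsg.Agent.Stn.Ext
import Cfsg.Agent.Stn.Iso
import Cfsg.Agent.Gol.Simp
import Cfsg.Prelude.Def_Sporadic

set_option autoImplicit false

namespace Cfsg.Agent.Stn

open Finset Equiv Gol
open scoped Pointwise symmDiff

/-- octads through `D`, with `D` removed -/
def CD (D : Finset GolayPt) : Set (Finset GolayPt) := {s | Disjoint s D ∧ s ∪ D ∈ octads}

theorem exists_set {D D' : Finset GolayPt} (h : D.card = D'.card) (h5 : D.card ≤ 5) :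
    ∃ g : M24, g • D = D' := by
  have : MulAction.IsMultiplyPretransitive M24 GolayPt D.card :=
    MulAction.isMultiplyPretransitive_of_le h5 (by rw [Nat.card_eq_fintype_card, card_pt]; omega)
  obtain ⟨g, hg⟩ := MulAction.exists_smul_eq M24
    ((D.equivFinOfCardEq rfl).symm.toEmbedding.trans (Function.Embedding.subtype _))
    ((D'.equivFinOfCardEq h.symm).symm.toEmbedding.trans (Function.Embedding.subtype _))
  refine ⟨g, eq_of_subset_of_card_le (fun p hp => ?_) (by rw [card_smul_finset, h])⟩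
  obtain ⟨x, hx, rfl⟩ := mem_smul_finset.1 hp
  have := congrFun (congrArg DFunLike.coe hg) (D.equivFinOfCardEq rfl ⟨x, hx⟩)
  simp only [Function.Embedding.smul_apply, Function.Embedding.trans_apply, coe_toEmbedding,
    symm_apply_apply, Function.Embedding.subtype_apply] at this
  rw [this]
  exact Subtype.prop _

theorem CD_card {D s : Finset GolayPt} (h : s ∈ CD D) : s.card + D.card = 8 := by
  rw [← card_union_of_disjoint h.1, (mem_octads.1 h.2).2]

theorem CD_eq {D s s' : Finset GolayPt} (h : s ∈ CD D) (h' : s' ∈ CD D)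
    (h5 : 5 ≤ (s ∩ s').card + D.card) : s = s' := by
  have := octad_eq h.2 h'.2 (by
    rwa [← inter_union_distrib_right, card_union_of_disjoint (h.1.mono_left inter_subset_left)])
  rw [← union_sdiff_cancel_right h.1, this, union_sdiff_cancel_right h'.1]

section
variable {α : Type*} [Fintype α] [DecidableEq α]

theorem exists_model {B : Set (Finset α)} {t k : ℕ} (D : Finset GolayPt) (hD : D.card ≤ 5)
    (hα : Fintype.card α + D.card = 24) (ht : t + D.card = 5) (hk : k + D.card = 8)
    (hB : IsSteinerSystem t k B) (h2 : ∀ b ∈ B, ∀ c ∈ B, ((b ∩ c).card + D.card) % 2 = 0)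
    (hn : ∀ w : Finset α, ∀ i ≤ D.card, w.card + i = 4 → ∃ b ∈ B, ((w ∩ b).card + i) % 2 = 1) :
    ∃ j : α ↪ GolayPt, Model j Dᶜ B (CD D) := by
  obtain ⟨j, hj⟩ := exists_emb (α := α) Dᶜ (by rw [card_compl, card_pt]; omega)
  have hd : ∀ b : Finset α, Disjoint (b.map j) D := fun b =>
    subset_compl_iff_disjoint_right.1 (map_sub hj b)
  have hi : ∀ b c : Finset α, ∀ s ⊆ D, ((b.map j ∪ s) ∩ (c.map j ∪ D)).card =
      (b ∩ c).card + s.card := fun b c s hs => by
    have : (b.map j ∪ s) ∩ (c.map j ∪ D) = (b ∩ c).map j ∪ s := by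
      rw [map_inter]
      ext x
      have h1 : x ∈ b.map j → x ∉ D := fun h => disjoint_left.1 (hd b) h
      have h2 := @hs x
      simp only [mem_inter, mem_union]
      tauto
    rw [this, card_union_of_disjoint ((hd _).mono_right hs), card_map]
  have hc : ∀ b ∈ B, (b.map j ∪ D).card = 8 := fun b hb => by
    rw [card_union_of_disjoint (hd b), card_map, hB.1 b hb, hk]
  obtain ⟨e, he⟩ := ext_gc card_pt {s | ∃ b ∈ B, s = b.map j ∪ D}
    (by rintro _ ⟨b, hb, rfl⟩; rw [hc b hb])
    (by rintro _ ⟨b, hb, rfl⟩ _ ⟨c, hc, rfl⟩; rw [hi _ _ _ (subset_refl _)]; exact h2 b hb c hc)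
    (fun w hw => by
      obtain ⟨w', hw'⟩ := exists_pre hj (s := w \ D) (fun x hx => mem_compl.2 (mem_sdiff.1 hx).2)
      have e : w = w'.map j ∪ w ∩ D := by rw [hw', sdiff_union_inter]
      obtain ⟨b, hb, h⟩ := hn w' (w ∩ D).card (card_le_card inter_subset_right) (by
        rw [← card_map j, hw', card_sdiff_add_card_inter, hw])
      refine ⟨_, ⟨b, hb, rfl⟩, ?_⟩
      rw [e, hi _ _ _ inter_subset_right]
      exact h)
  obtain ⟨g, hg⟩ := exists_set (D := (e⁻¹ : Perm GolayPt) • D) (D' := D) (card_smul_finset _ _)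
    (by rwa [card_smul_finset])
  let π : Perm GolayPt := (g : Perm GolayPt) * e⁻¹
  have hπ : π • D = D := by rw [mul_smul]; exact hg
  have hm : ∀ b : Finset α, b.map (j.trans π.toEmbedding) = π • b.map j := fun b => by
    rw [← map_map, Gol.map_perm]
  refine ⟨j.trans π.toEmbedding, model_of hB (by omega) (fun p => ?_)
    (fun c hc => by have := CD_card hc; omega) (fun c hc c' hc' h => CD_eq hc hc' (by omega))
    fun b hb => ⟨?_, ?_⟩⟩
  · obtain ⟨q, rfl⟩ := π.surjective p
    have : π q ∈ Dᶜ ↔ q ∈ Dᶜ := by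
      rw [mem_compl, mem_compl]
      nth_rw 1 [← hπ]
      exact (smul_mem_smul_finset_iff π).not
    rw [this, hj]
    simp
  · rw [hm, ← hπ, disjoint_smul']
    exact hd b
  · rw [hm]
    nth_rw 1 [← hπ]
    rw [← smul_finset_union, mul_smul]
    refine (oct_smul_iff g).2 (mem_octads.2 ⟨he _ ⟨b, hb, ?_⟩, by rw [card_smul_finset, hc b hb]⟩)
    rw [Gol.map_perm, smul_inv_smul]

theorem exists_odd {B : Set (Finset α)} {t k : ℕ} (hB : IsSteinerSystem t k B) (htk : t ≤ k)
    {w : Finset α} (hw : w.card ≤ t) {n : ℕ} (hn : n ≤ w.card)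
    (h : cntF t k (Fintype.card α) w.card n ≠ 0) : ∃ b ∈ B, (w ∩ b).card = n := by
  obtain ⟨s, hs, rfl⟩ := exists_subset_card_eq hn
  obtain ⟨b, hb, e⟩ := exists_small hB htk hw hs h
  exact ⟨b, hb, by rw [e]⟩

theorem model24 {B : Set (Finset α)} (hα : Fintype.card α = 24) (hB : IsSteinerSystem 5 8 B) :
    ∃ j : α ↪ GolayPt, Model j (∅ : Finset GolayPt)ᶜ B (CD ∅) := by
  refine exists_model ∅ (by simp) (by simpa using hα) (by simp) (by simp) hB
    (fun b hb c hc => ?_) fun w i hi hw => ?_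
  · by_cases h : b = c
    · rw [h, inter_self, hB.1 c hc, card_empty]
    · have := inter_5_8_24 hα hB hb hc h
      rw [card_empty]
      omega
  · rw [card_empty] at hi
    obtain ⟨b, hb, e⟩ := exists_odd hB (by norm_num) (w := w) (by omega) (n := 3) (by omega)
      (by rw [hα, show w.card = 4 by omega]; decide)
    exact ⟨b, hb, by omega⟩

theorem model23 {B : Set (Finset α)} (hα : Fintype.card α = 23) (hB : IsSteinerSystem 4 7 B) :
    ∃ j : α ↪ GolayPt, Model j (toF 8388608)ᶜ B (CD (toF 8388608)) := by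
  have hc : (toF 8388608).card = 1 := by rw [card_toF]; decide +kernel
  refine exists_model _ (by omega) (by omega) (by omega) (by omega) hB
    (fun b hb c hc' => ?_) fun w i hi hw => ?_
  · by_cases h : b = c
    · rw [h, inter_self, hB.1 c hc', hc]
    · have := inter_4_7_23 hα hB hb hc' h
      omega
  · rcases (by omega : i = 0 ∨ i = 1) with rfl | rfl
    · obtain ⟨b, hb, e⟩ := exists_odd hB (by norm_num) (w := w) (by omega) (n := 3) (by omega)
        (by rw [hα, show w.card = 4 by omega]; decide)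
      exact ⟨b, hb, by omega⟩
    · obtain ⟨b, hb, e⟩ := exists_odd hB (by norm_num) (w := w) (by omega) (n := 2) (by omega)
        (by rw [hα, show w.card = 3 by omega]; decide)
      exact ⟨b, hb, by omega⟩

theorem model22 {B : Set (Finset α)} (hα : Fintype.card α = 22) (hB : IsSteinerSystem 3 6 B) :
    ∃ j : α ↪ GolayPt, Model j (toF 8388609)ᶜ B (CD (toF 8388609)) := by
  have hc : (toF 8388609).card = 2 := by rw [card_toF]; decide +kernel
  refine exists_model _ (by omega) (by omega) (by omega) (by omega) hB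
    (fun b hb c hc' => ?_) fun w i hi hw => ?_
  · by_cases h : b = c
    · rw [h, inter_self, hB.1 c hc', hc]
    · have := inter_3_6_22 hα hB hb hc' h
      omega
  · rcases (by omega : i = 0 ∨ i = 1 ∨ i = 2) with rfl | rfl | rfl
    · obtain ⟨s, hs, hs'⟩ := exists_subset_card_eq (s := w) (n := 3) (by omega)
      obtain ⟨b, ⟨hb, hb'⟩, -⟩ := hB.2 s hs'
      by_cases hwb : w ⊆ b
      · obtain ⟨u, hu, hu'⟩ := exists_subset_card_eq (s := w) (n := 1) (by omega)
        have := cnt_of (B := B) w u hu _ fun x _ hx => lam_sub hB (by norm_num) hb (hx.trans hwb)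
        rw [hα, hu', show w.card = 4 by omega] at this
        replace this : (cnt B w u : ℤ) = 8 := this.trans (by decide)
        obtain ⟨c, hc, e⟩ := exists_of_cnt (B := B) (b := w) (s := u) (by omega)
        exact ⟨c, hc, by rw [e, hu']⟩
      · have h1 := card_le_card (subset_inter hs hb')
        have h2 := card_lt_card (ssubset_of_subset_of_ne (inter_subset_left (s₁ := w) (s₂ := b))
          fun h => hwb (inter_eq_left.1 h))
        exact ⟨b, hb, by omega⟩
    · obtain ⟨b, hb, e⟩ := exists_odd hB (by norm_num) (w := w) (by omega) (n := 2) (by omega)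
        (by rw [hα, show w.card = 3 by omega]; decide)
      exact ⟨b, hb, by omega⟩
    · obtain ⟨b, hb, e⟩ := exists_odd hB (by norm_num) (w := w) (by omega) (n := 1) (by omega)
        (by rw [hα, show w.card = 2 by omega]; decide)
      exact ⟨b, hb, by omega⟩

end

theorem CD_smul {D : Finset GolayPt} {g : M24} (hg : g • D = D) {c : Finset GolayPt}
    (hc : c ∈ CD D) : g • c ∈ CD D := by
  refine ⟨?_, ?_⟩
  · rw [← hg, disjoint_smul']
    exact hc.1
  · nth_rw 1 [← hg]
    rw [← smul_finset_union, oct_smul_iff]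
    exact hc.2

theorem compl_smul {D : Finset GolayPt} {g : M24} (hg : g • D = D) {x : GolayPt} (hx : x ∈ Dᶜ) :
    g • x ∈ Dᶜ := by
  rw [mem_compl, ← hg, smul_mem_smul_finset_iff]
  exact mem_compl.1 hx

theorem oct_of_CD {D : Finset GolayPt} {σ : Perm GolayPt} (h1 : ∀ p ∉ Dᶜ, σ p = p)
    (h2 : ∀ c ∈ CD D, c ⊆ Dᶜ → σ • c ∈ CD D) {o : Finset GolayPt} (ho : o ∈ octads) (hD : D ⊆ o) :
    CW (σ • o) := by
  have e : σ • D = D := by
    refine eq_of_subset_of_card_le (fun p hp => ?_) (by rw [card_smul_finset])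
    obtain ⟨x, hx, rfl⟩ := mem_smul_finset.1 hp
    rw [Perm.smul_def, h1 x (by simpa using hx)]
    exact hx
  have := (h2 (o \ D) ⟨sdiff_disjoint, by rwa [sdiff_union_of_subset hD]⟩
    fun x hx => mem_compl.2 (mem_sdiff.1 hx).2).2
  nth_rw 2 [← e] at this
  rw [← smul_finset_union, sdiff_union_of_subset hD] at this
  exact oct_cw this

theorem cw_lin {σ : Perm GolayPt} {L : List ℕ} (h : ∀ n ∈ L, CW (σ • toF n)) (m : ℕ) :
    CW (σ • toF (lin L m)) :=
  lin_ind (P := fun n => CW (σ • toF n)) (by simpa [toF_zero] using CW.empty)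
    (fun a b ha hb => by rw [toF_xor, smul_symmDiff']; exact ha.symmDiff hb) h m

theorem mem_M24_of_lin {σ : Perm GolayPt} {L M : List ℕ} (h : ∀ n ∈ L, CW (σ • toF n))
    (hM : M.map (lin L) = basL) : σ ∈ M24 :=
  mem_M24_of_bas fun b hb => by
    rw [← hM] at hb
    obtain ⟨m, -, rfl⟩ := List.mem_map.1 hb
    exact cw_lin h m

def L23 : List ℕ := [12594948, 8490656, 9178690, 11669008, 8412681, 8654232, 8592704, 9456930,
  10513600, 9968772, 9440193, 10491778]

def L22 : List ℕ := [8412681, 11046145, 12717187, 8391797, 9440193, 10496547, 12880401,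
  12650793, 8546577, 8783649]

theorem L23_chk : ∀ n ∈ L23, bif' (isCW n) (Nat.beq (pc n) 8) false = true ∧
    8388608 &&& n = 8388608 := by decide +kernel

theorem L22_chk : ∀ n ∈ L22, bif' (isCW n) (Nat.beq (pc n) 8) false = true ∧
    8388609 &&& n = 8388609 := by decide +kernel

theorem L23_bas : [3909, 643, 3323, 553, 3444, 3512, 4091, 198, 390, 833, 2178, 1727].map (lin L23) =
    basL := by decide +kernel

theorem L22_bas : [2564, 652, 3899, 1292, 4093, 3313, 3113, 674, 54, 1334, 3061, 463].map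
    (lin (12594948 :: 16777215 :: L22)) = basL := by decide +kernel

theorem mem_of_fix23 {σ : Perm GolayPt} {D : Finset GolayPt} (hD : D ⊆ toF 8388608)
    (h1 : ∀ p ∉ Dᶜ, σ p = p) (h2 : ∀ c ∈ CD D, c ⊆ Dᶜ → σ • c ∈ CD D) : σ ∈ M24 :=
  mem_M24_of_lin (fun n hn => oct_of_CD h1 h2 (toF_mem_octads (L23_chk n hn).1)
    (hD.trans ((toF_subset (by norm_num)).2 (L23_chk n hn).2))) L23_bas

theorem even_of_lin {x : Finset GolayPt} {L M : List ℕ} (h : ∀ n ∈ L, (x ∩ toF n).card % 2 = 0)
    (hM : M.map (lin L) = basL) : CW x := by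
  have k : ∀ {L : List ℕ}, (∀ n ∈ L, (x ∩ toF n).card % 2 = 0) →
      ∀ m, (x ∩ toF (lin L m)).card % 2 = 0 := fun h m =>
    lin_ind (P := fun n => (x ∩ toF n).card % 2 = 0) (by simp [toF_zero])
      (fun a b ha hb => by
        rw [toF_xor, inter_comm, par_sd, inter_comm _ x, inter_comm _ x]
        omega) h m
  refine cw_of_even fun c hc => ?_
  obtain ⟨m, hm, rfl⟩ := hc.exists_cw
  rw [cw_eq_lin hm]
  refine k (fun b hb => ?_) m
  rw [← hM] at hb
  obtain ⟨m, -, rfl⟩ := List.mem_map.1 hb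
  exact k h m

theorem ne_23_0 : pt 23 ≠ pt 0 := fun h => by
  have := pt_inj (by norm_num) (by norm_num) h
  omega

theorem swap_smul_of {s : Finset GolayPt} (h : pt 23 ∈ s ↔ pt 0 ∈ s) :
    swap (pt 23) (pt 0) • s = s := by
  refine eq_of_subset_of_card_le (fun p hp => ?_) (by rw [card_smul_finset])
  obtain ⟨x, hx, rfl⟩ := mem_smul_finset.1 hp
  rw [Perm.smul_def, swap_apply_def]
  split_ifs with h1 h2
  · exact h.1 (h1 ▸ hx)
  · exact h.2 (h2 ▸ hx)
  · exact hx

theorem swap_smul_sd {s : Finset GolayPt} (h1 : pt 23 ∈ s) (h2 : pt 0 ∉ s) :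
    swap (pt 23) (pt 0) • s = s ∆ toF 8388609 := by
  ext x
  rw [← inv_smul_mem_iff, swap_inv, Perm.smul_def, swap_apply_def, toF_f2, mem_symmDiff]
  have := ne_23_0
  split_ifs with h3 h4
  · subst h3; simp [h1, h2]
  · subst h4; simp [h1, h2]
  · simp [h3, h4]

theorem mem_of_fix22 {σ : Perm GolayPt} (h1 : ∀ p ∉ (toF 8388609)ᶜ, σ p = p)
    (h2 : ∀ c ∈ CD (toF 8388609), c ⊆ (toF 8388609)ᶜ → σ • c ∈ CD (toF 8388609)) :
    σ ∈ M24 ∨ swap (pt 23) (pt 0) * σ ∈ M24 := by
  have f23 : σ (pt 23) = pt 23 := h1 _ (by simp [toF_f2])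
  have f0 : σ (pt 0) = pt 0 := h1 _ (by simp [toF_f2])
  have m23 : ∀ s : Finset GolayPt, pt 23 ∈ σ • s ↔ pt 23 ∈ s := fun s => by
    nth_rw 1 [← f23]; exact smul_mem_smul_finset_iff σ
  have m0 : ∀ s : Finset GolayPt, pt 0 ∈ σ • s ↔ pt 0 ∈ s := fun s => by
    nth_rw 1 [← f0]; exact smul_mem_smul_finset_iff σ
  have sub : ∀ n ∈ L22, toF 8388609 ⊆ toF n := fun n hn =>
    (toF_subset (by norm_num)).2 (L22_chk n hn).2
  have a1 : ∀ n ∈ 16777215 :: L22, CW (σ • toF n) := List.forall_mem_cons.2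
    ⟨by rw [toF_ones, smul_finset_univ]; exact CW.univ,
    fun n hn => oct_of_CD h1 h2 (toF_mem_octads (L22_chk n hn).1) (sub n hn)⟩
  have sub' : ∀ n ∈ 16777215 :: L22, toF 8388609 ⊆ toF n := List.forall_mem_cons.2
    ⟨by rw [toF_ones]; exact subset_univ _, sub⟩
  -- the inverse also preserves the blocks
  have h2' : ∀ c ∈ CD (toF 8388609), c ⊆ (toF 8388609)ᶜ → σ⁻¹ • c ∈ CD (toF 8388609) := by
    have : σ ∈ setSystemAut (CD (toF 8388609)) := mem_aut.2 fun c hc =>
      h2 c hc (subset_compl_iff_disjoint_right.2 hc.1)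
    exact fun c hc _ => mem_aut.1 (inv_mem this) c hc
  have h1' : ∀ p ∉ (toF 8388609)ᶜ, σ⁻¹ p = p := fun p hp => by
    rw [Perm.inv_eq_iff_eq, h1 p hp]
  have a2 : ∀ n ∈ 16777215 :: L22, CW (σ⁻¹ • toF n) := List.forall_mem_cons.2
    ⟨by rw [toF_ones, smul_finset_univ]; exact CW.univ,
    fun n hn => oct_of_CD h1' h2' (toF_mem_octads (L22_chk n hn).1) (sub n hn)⟩
  have w0 : CW (toF 12594948) := isCW_cw (by decide +kernel)
  have a3 : ∀ n ∈ 16777215 :: L22, (σ • toF 12594948 ∩ toF n).card % 2 = 0 := fun n hn => by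
    have := w0.even_inter (a2 n hn)
    rwa [← card_smul_finset σ, smul_finset_inter, smul_inv_smul] at this
  have b23 : pt 23 ∈ toF 12594948 := by rw [pt23_mem]; decide +kernel
  have b0 : pt 0 ∉ toF 12594948 := by rw [pt0_mem]; decide +kernel
  by_cases h : (σ • toF 12594948 ∩ toF 12594948).card % 2 = 0
  · left
    exact mem_M24_of_lin (List.forall_mem_cons.2
      ⟨even_of_lin (List.forall_mem_cons.2 ⟨h, a3⟩) L22_bas, a1⟩) L22_bas
  · right
    refine mem_M24_of_lin (List.forall_mem_cons.2 ⟨?_, fun n hn => ?_⟩) L22_bas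
    · rw [mul_smul, swap_smul_sd ((m23 _).2 b23) (mt (m0 _).1 b0)]
      refine even_of_lin (List.forall_mem_cons.2 ⟨?_, fun n hn => ?_⟩) L22_bas
      · rw [par_sd, card_inter_toF, show pc (8388609 &&& 12594948) = 1 by decide +kernel]
        omega
      · have := a3 n hn
        rw [par_sd, inter_eq_left.2 (sub' n hn), card_toF, show pc 8388609 = 2 by decide +kernel]
        omega
    · rw [mul_smul, swap_smul_of]
      · exact a1 n hn
      · rw [m23, m0]
        have := sub' n hn
        rw [toF_f2] at this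
        exact iff_of_true (this (by simp)) (this (by simp))

theorem eq_one_of_fix22 {g : M24} (h : ∀ x ∈ (toF 8388609)ᶜ, g • x = x) : g = 1 := by
  have : g ∈ St 8388606 [] := mem_St.2 ⟨fun p hp => h p (by
    rw [← toF_compl]; exact hp), by simp⟩
  have e : St 8388606 [] = ⊥ := refn_sound (steps := [([12594948], []), ([], [])])
    (by decide +kernel)
  rwa [e] at this

section
variable {α : Type*} [Fintype α] [DecidableEq α] {B : Set (Finset α)} {j : α ↪ GolayPt}

theorem aut24 (h : Model j (∅ : Finset GolayPt)ᶜ B (CD ∅)) :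
    ∃ φ : (⊤ : Subgroup M24) ≃* setSystemAut B, ∀ g (a : α), j (φ g • a) = (g : M24) • j a :=
  h.aut ⊤ (by simp) (fun g _ c hc => CD_smul (by simp) hc)
    (fun g _ hg => eq_one_of_fix22 fun x _ => hg x (by simp))
    fun σ h1 h2 => ⟨⟨σ, mem_of_fix23 (empty_subset _) h1 h2⟩, trivial, fun _ _ => rfl⟩

theorem aut23 (h : Model j (toF 8388608)ᶜ B (CD (toF 8388608))) :
    ∃ φ : St 8388608 [] ≃* setSystemAut B, ∀ g (a : α), j (φ g • a) = (g : M24) • j a :=
  h.aut _ (fun g hg _ hx => compl_smul (St_smul_sub hg (subset_refl _)) hx)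
    (fun g hg c hc => CD_smul (St_smul_sub hg (subset_refl _)) hc)
    (fun g _ hg => eq_one_of_fix22 fun x hx => hg x (by
      rw [toF_f2] at hx; rw [toF_f1]; simp only [mem_compl, mem_insert, mem_singleton] at hx ⊢; tauto))
    fun σ h1 h2 => ⟨⟨σ, mem_of_fix23 (subset_refl _) h1 h2⟩,
      mem_St.2 ⟨fun p hp => h1 p (by simpa using hp), by simp⟩, fun _ _ => rfl⟩

theorem aut22 (h : Model j (toF 8388609)ᶜ B (CD (toF 8388609))) :
    ∃ φ : St 0 [8388609] ≃* setSystemAut B, ∀ g (a : α), j (φ g • a) = (g : M24) • j a :=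
  h.aut _ (fun g hg _ hx => compl_smul ((mem_St.1 hg).2 _ (by simp)) hx)
    (fun g hg c hc => CD_smul ((mem_St.1 hg).2 _ (by simp)) hc)
    (fun g _ hg => eq_one_of_fix22 hg)
    fun σ h1 h2 => by
      have e : σ • toF 8388609 = toF 8388609 := by
        refine eq_of_subset_of_card_le (fun p hp => ?_) (by rw [card_smul_finset])
        obtain ⟨x, hx, rfl⟩ := mem_smul_finset.1 hp
        rw [Perm.smul_def, h1 x (by simpa using hx)]
        exact hx
      rcases mem_of_fix22 h1 h2 with h | h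
      · exact ⟨⟨σ, h⟩, mem_St.2 ⟨by simp [toF_zero], by simpa using e⟩, fun _ _ => rfl⟩
      · refine ⟨⟨_, h⟩, mem_St.2 ⟨by simp [toF_zero], ?_⟩, fun x hx => ?_⟩
        · simp only [List.mem_singleton, forall_eq]
          change (swap (pt 23) (pt 0) * σ) • toF 8388609 = _
          rw [mul_smul, e, swap_smul_of (by simp [toF_f2])]
        · change swap (pt 23) (pt 0) (σ x) = σ x
          have : σ x ∉ toF 8388609 := by
            rw [← e]
            exact mt (smul_mem_smul_finset_iff σ).1 (mem_compl.1 hx)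
          rw [toF_f2, mem_insert, mem_singleton, not_or] at this
          exact swap_apply_of_ne_of_ne this.1 this.2

end

theorem St22_le : St 8388609 [] ≤ St 0 [8388609] := fun g hg =>
  mem_St.2 ⟨by simp [toF_zero], by simpa using St_smul_sub hg (subset_refl _)⟩

theorem card_m22_2 : Nat.card (St 0 [8388609]) = 887040 := by
  have hd : ∀ g ∈ St 0 [8388609], g • ({pt 23, pt 0} : Finset GolayPt) = {pt 23, pt 0} :=
    fun g hg => by rw [← toF_f2]; exact (mem_St.1 hg).2 _ (by simp)
  rw [card_eq_orbit_mul (K := St 8388609 []) (x := pt 23) (S := {pt 23, pt 0}) (fun g => ?_)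
    (fun g hg => ?_) (fun y hy => ?_), card_m22, Set.ncard_pair ne_23_0]
  · refine ⟨fun hg => ⟨St22_le hg, (mem_St.1 hg).1 _ (by simp [toF_f2])⟩, fun ⟨h1, h2⟩ => ?_⟩
    refine mem_St.2 ⟨fun p hp => ?_, by simp⟩
    rw [toF_f2, mem_insert, mem_singleton] at hp
    rcases hp with rfl | rfl
    · exact h2
    · have : g • pt 0 ∈ ({pt 23, pt 0} : Finset GolayPt) := by
        rw [← hd g h1]
        exact smul_mem_smul_finset (by simp)
      rw [mem_insert, mem_singleton] at this
      refine this.resolve_left fun h => ne_23_0 ?_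
      exact MulAction.injective g (h2.trans h.symm)
  · have : g • pt 23 ∈ ({pt 23, pt 0} : Finset GolayPt) := by
      rw [← hd g hg]
      exact smul_mem_smul_finset (by simp)
    simpa using this
  · rcases hy with rfl | rfl
    · exact ⟨1, one_mem _, one_smul _ _⟩
    · obtain ⟨g, h1, h2⟩ := std2 ne_23_0.symm
      refine ⟨g, mem_St.2 ⟨by simp [toF_zero], ?_⟩, h1⟩
      simp only [List.mem_singleton, forall_eq]
      rw [toF_f2, smul_finset_insert, smul_finset_singleton, h1, h2, pair_comm]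

theorem index_m22 : ((St 8388609 []).subgroupOf (St 0 [8388609])).index = 2 := by
  have := Subgroup.card_mul_index ((St 8388609 []).subgroupOf (St 0 [8388609]))
  rw [Nat.card_congr (Subgroup.subgroupOfEquivOfLe St22_le).toEquiv, card_m22, card_m22_2] at this
  omega

end Cfsg.Agent.Stn
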