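/-
A rigidity check for the Steiner system S(4,5,11).
-/
import Cfsg.Agent.Stn.W12a

set_option autoImplicit false

namespace Cfsg.Agent.Stn

open Gol

noncomputable def cf6 (a b c d e f : ℕ) : ℕ :=
  pack 5 (fun i => bif' (Nat.beq i 6) a (bif' (Nat.beq i 8) b (bif' (Nat.beq i 9) c
    (bif' (Nat.beq i 13) d (bif' (Nat.beq i 16) e (bif' (Nat.beq i 18) f i)))))) 24

def l6 : List ℕ := [6, 8, 9, 13, 16, 18]

theorem rig_chk : lall (fun a => lall (fun b => bif' (Nat.beq a b) true (lall (fun c =>
    lall (fun d => bif' (Nat.beq c d) true (lall (fun e => lall (fun f => bif' (Nat.beq e f) true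
    (force (cf6 a b c d e f) fun x => bif' (Nat.beq (img x 336704) 336704)
      (bif' (lall (fun T => lany (Nat.beq (img x T)) blkL) blkL) (Nat.beq x idc) true) true))
      l6) l6)) l6) l6)) l6) l6 = true := by decide +kernel

end Cfsg.Agent.Stn
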