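/-
The Steiner systems S(4,5,11) and S(5,6,12): models and automorphisms.
-/
import Cfsg.Agent.Stn.W12b

set_option autoImplicit false

namespace Cfsg.Agent.Stn

open Finset Equiv Gol
open scoped Pointwise symmDiff

theorem smul_eq_of_fix {γ : Type*} [DecidableEq γ] {π : Perm γ} {X : Finset γ}
    (h : ∀ x ∉ X, π x = x) : π • X = X := by
  refine eq_of_subset_of_card_le (fun p hp => ?_) (by rw [card_smul_finset])
  obtain ⟨x, hx, rfl⟩ := mem_smul_finset.1 hp
  by_contra h'
  have : π x = x := π.injective (h _ h')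
  exact h' (by rw [Perm.smul_def, this]; exact hx)

section
variable {α : Type*} [Fintype α] [DecidableEq α]

omit [Fintype α] [DecidableEq α] in
theorem map_trans_perm {γ : Type*} [DecidableEq γ] (j : α ↪ γ) (π : Perm γ) (b : Finset α) :
    b.map (j.trans π.toEmbedding) = π • b.map j := by
  rw [← map_map, Gol.map_perm]

omit [Fintype α] [DecidableEq α] in
theorem rng_trans {γ : Type*} [DecidableEq γ] {j : α ↪ γ} {X : Finset γ}
    (h : ∀ p, p ∈ X ↔ ∃ a, j a = p) {π : Perm γ} (hπ : π • X = X) (p : γ) :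
    p ∈ X ↔ ∃ a, j.trans π.toEmbedding a = p := by
  obtain ⟨q, rfl⟩ := π.surjective p
  have : π q ∈ X ↔ q ∈ X := by
    nth_rw 1 [← hπ]
    exact smul_mem_smul_finset_iff π
  rw [this, h]
  simp

theorem model11 {B : Set (Finset α)} (hα : Fintype.card α = 11) (hB : IsSteinerSystem 4 5 B) :
    ∃ j : α ↪ GolayPt, Model j (toF 340830) B C11 := by
  obtain ⟨j0, hj0⟩ := exists_emb (α := α) (toF 340830) (by rw [hα, card_toF]; decide +kernel)
  obtain ⟨r, -, hr⟩ := exists_subset_card_eq (s := (univ : Finset α)) (n := 4)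
    (by rw [card_univ, hα]; norm_num)
  obtain ⟨b1, ⟨hb1, -⟩, -⟩ := hB.2 r hr
  obtain ⟨s, hs, hs'⟩ := exists_subset_card_eq (s := b1) (n := 3) (by rw [hB.1 _ hb1]; norm_num)
  have hc := cnt_blk hB (by norm_num) hb1 hs
  rw [hα, hs', show cntF 4 5 11 5 3 = 3 by decide] at hc
  have hc' : 1 < ((bl B).filter (b1 ∩ · = s)).card := by
    change 1 < cnt B b1 s
    omega
  obtain ⟨b2, hb2, -⟩ := one_lt_card.1 hc'
  obtain ⟨hb2, e⟩ := mem_filter.1 hb2
  rw [mem_bl] at hb2
  obtain ⟨π, p1, p2, p3⟩ := exists_perm_two (map_sub hj0 b1) (map_sub hj0 b2)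
    (t1 := toF 590) (t2 := toF 4126) (by rw [subset_toF]; decide +kernel)
    (by rw [subset_toF]; decide +kernel)
    (by rw [card_map, hB.1 _ hb1, card_toF]; decide +kernel)
    (by rw [card_map, hB.1 _ hb2, card_toF]; decide +kernel)
    (by rw [← map_inter, card_map, e, hs', card_inter_toF]; decide +kernel)
  rw [← map_trans_perm] at p2 p3
  have hj := rng_trans hj0 (smul_eq_of_fix p1)
  generalize j0.trans π.toEmbedding = j at p2 p3 hj
  let S : Set ℕ := {n | n < 16777216 ∧ ∃ b ∈ B, toF n = b.map j}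
  have ha : ∀ x ∈ S, ∀ y ∈ S, x ≠ y → adj11 x y = true := by
    rintro x ⟨hx, b, hb, e1⟩ y ⟨hy, c, hc, e2⟩ hne
    have hbc : b ≠ c := fun h => hne (toF_inj hx hy (by rw [e1, e2, h]))
    have h0 := inter_lt hB hb hc hbc
    have h1 := inter_ne hB (by norm_num) hb hc (j := 0) (by rw [hα]; decide)
    have : pc (Nat.land x y) = (b ∩ c).card := by
      rw [← card_map j, map_inter, ← e1, ← e2, card_inter_toF]
      rfl
    rw [adj11, force_eq, this, Nat.ble_eq_true_of_le (show (b ∩ c).card ≤ 3 by omega), bif'_true]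
    exact Nat.ble_eq_true_of_le (by omega)
  have m1 : 590 ∈ S := ⟨by norm_num, b1, hb1, p2.symm⟩
  have m2 : 4126 ∈ S := ⟨by norm_num, b2, hb2, p3.symm⟩
  obtain ⟨l, hl, hok⟩ := csrch_sound s11_chk (S := S) (by simp [m1, m2]) (fun x hx => by
      by_cases h1 : x = 590
      · simp [h1]
      by_cases h2 : x = 4126
      · simp [h2]
      refine Or.inl (mem_lfilt.2 ⟨?_, by rw [ha _ m1 _ hx (Ne.symm h1), ha _ m2 _ hx (Ne.symm h2)]; rfl⟩)
      obtain ⟨hx, b, hb, e1⟩ := hx
      obtain ⟨y, hy, e2⟩ := subsL_complete (l := l11) (s := b.map j)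
        (fun p hp => sub_len p (map_sub hj b hp)) (by rw [card_map, hB.1 b hb])
      rwa [toF_inj hx (Nat.blt_eq ▸ lall_iff.1 s11_chk3 y hy) (e1.trans e2.symm)]) ha
    (fun r hr => by
      have := lall_iff.1 s11_chk4 r (List.mem_reverse.1 hr)
      simp only [Bool.and_eq_true, Nat.beq_eq] at this
      have h1 : r &&& 340830 = r := this.2
      have h2 : r < 16777216 := by
        rw [← h1]; exact lt_of_le_of_lt Nat.and_le_right (by norm_num)
      obtain ⟨u, hu⟩ := exists_pre hj (s := toF r) ((toF_subset h2).2 h1)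
      obtain ⟨b, ⟨hb, hb'⟩, -⟩ := hB.2 u (by rw [← card_map j, hu, card_toF, this.1])
      obtain ⟨n, hn, e⟩ := exists_toF (b.map j)
      exact ⟨n, ⟨hn, b, hb, e⟩, (toF_subset h2).1 (by rw [← hu, e]; exact map_subset_map.2 hb')⟩)
  obtain ⟨c, hc, b6⟩ := lany_iff.1 hok
  have b7 := lall_iff.1 s11_chk2 c hc
  simp only [Bool.and_eq_true, Nat.beq_eq] at b7
  have b8 : permOf c • toF 340830 = toF 340830 := by rw [permOf_smul b7.1, b7.2]
  have b9 : (permOf c)⁻¹ • toF 340830 = toF 340830 := inv_smul_eq_iff.2 b8.symm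
  refine ⟨j.trans (permOf c)⁻¹.toEmbedding, model_of hB (by norm_num) (rng_trans hj b9)
    (fun _ => C11_card) (fun _ h _ h' => C11_eq h h') fun b hb => ?_⟩
  obtain ⟨r, hr, hr'⟩ := exists_subset_card_eq (s := b) (n := 4) (by rw [hB.1 _ hb]; norm_num)
  obtain ⟨n, hn, h1⟩ := C11_cover (map_sub (rng_trans hj b9) r) (by rw [card_map, hr'])
  obtain ⟨y, hy, e⟩ := lany_iff.1 (lall_iff.1 b6 n hn)
  obtain ⟨-, b', hb', e'⟩ := hl y hy
  rw [← Nat.eq_of_beq_eq_true e, ← permOf_smul b7.1] at e'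
  rw [map_trans_perm, ← subset_smul_finset_iff, e', map_subset_map] at h1
  rw [blk_eq hB hb hb' (hr' ▸ card_le_card (subset_inter hr h1)), map_trans_perm, ← e',
    inv_smul_smul]
  exact blk_mem hn

theorem model12 {B : Set (Finset α)} (hα : Fintype.card α = 12) (hB : IsSteinerSystem 5 6 B) :
    ∃ j : α ↪ GolayPt, Model j (toF 340831) B (hexadsOn (toF 340831)) := by
  obtain ⟨p⟩ : Nonempty α := Fintype.card_pos_iff.1 (by omega)
  obtain ⟨j', h⟩ := model11 (α := {a // a ≠ p}) (by simp [hα]) (derived hB p)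
  have h0 : ∀ a, j' a ≠ pt 0 := fun a e => pt0_X11 (e ▸ (h.rng _).2 ⟨a, rfl⟩)
  let j : α ↪ GolayPt := ⟨fun a => if h : a = p then pt 0 else j' ⟨a, h⟩, fun a b e => by
    by_cases h1 : a = p <;> by_cases h2 : b = p <;> simp only [h1, h2, dif_pos, dif_neg,
      not_false_eq_true] at e
    · rw [h1, h2]
    · exact absurd e.symm (h0 _)
    · exact absurd e (h0 _)
    · exact congrArg Subtype.val (j'.injective e)⟩
  have j1 : j p = pt 0 := dif_pos rfl
  have j2 : ∀ a : {a // a ≠ p}, j a = j' a := fun a => dif_neg a.2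
  have hj : ∀ x, x ∈ toF 340831 ↔ ∃ a, j a = x := fun x => by
    rw [toF_X11, mem_insert, h.rng]
    constructor
    · rintro (rfl | ⟨a, rfl⟩)
      · exact ⟨p, j1⟩
      · exact ⟨a, j2 a⟩
    · rintro ⟨a, rfl⟩
      by_cases h1 : a = p
      · exact Or.inl (h1 ▸ j1)
      · exact Or.inr ⟨⟨a, h1⟩, (j2 ⟨a, h1⟩).symm⟩
  have k : ∀ b ∈ B, p ∈ b → b.map j ∈ hexadsOn (toF 340831) := fun b hb hp => by
    have := ((h.blk _).1 ⟨b, hb, hp, rfl⟩).2
    convert this using 1
    ext x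
    simp only [mem_map, mem_insert, mem_subtype]
    constructor
    · rintro ⟨a, ha, rfl⟩
      by_cases h1 : a = p
      · exact Or.inl (h1 ▸ j1)
      · exact Or.inr ⟨⟨a, h1⟩, ha, (j2 ⟨a, h1⟩).symm⟩
    · rintro (rfl | ⟨a, ha, rfl⟩)
      · exact ⟨p, hp, j1⟩
      · exact ⟨a, ha, j2 a⟩
  refine ⟨j, model_of hB (by norm_num) hj (fun _ h => h.1) (fun _ h _ h' => hex_eq h h')
    fun b hb => ?_⟩
  by_cases hp : p ∈ b
  · exact k b hb hp
  · have := hex_compl D0_mem (k _ (compl_5_6_12 hα hB hb) (mem_compl.2 hp))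
    convert this using 1
    ext x
    simp only [mem_sdiff, hj, mem_map, mem_compl]
    constructor
    · rintro ⟨a, ha, rfl⟩
      exact ⟨⟨a, rfl⟩, fun ⟨c, hc, e⟩ => hc (j.injective e ▸ ha)⟩
    · rintro ⟨⟨a, rfl⟩, h⟩
      exact ⟨a, by_contra fun h' => h ⟨a, h', rfl⟩, rfl⟩

end

/-- the code of a permutation -/
noncomputable def cd (τ : Perm GolayPt) : ℕ := pack 5 (fun i => idx (τ (pt i))) 24

theorem ap_cd (τ : Perm GolayPt) {i : ℕ} (hi : i < 24) : ap (cd τ) i = idx (τ (pt i)) := by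
  rw [ap_eq, cd, dig_pack (fun i _ => (idx_lt _).trans (by norm_num)) hi]

theorem img_cd (τ : Perm GolayPt) (n : ℕ) : τ • toF n = toF (img (cd τ) n) := by
  ext p
  rw [mem_toF, testBit_img, mem_smul_finset]
  constructor
  · rintro ⟨x, hx, rfl⟩
    exact ⟨idx x, idx_lt x, mem_toF.1 hx, by rw [ap_cd _ (idx_lt x), pt_idx]; rfl⟩
  · rintro ⟨i, hi, h1, h2⟩
    exact ⟨pt i, (pt_mem_toF hi).2 h1, idx_inj (by rw [← h2, ap_cd _ hi]; rfl)⟩

theorem img_cd_lt (τ : Perm GolayPt) (n : ℕ) : img (cd τ) n < 16777216 := by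
  refine Nat.lt_pow_two_of_testBit (n := 24) _ fun i hi => ?_
  by_contra h
  obtain ⟨k, hk, -, h2⟩ := (testBit_img _ _ _).1 (Bool.of_not_eq_false h)
  rw [ap_cd _ hk] at h2
  have := idx_lt (τ (pt k))
  omega

theorem rigid {τ : Perm GolayPt} (h1 : ∀ x ∉ toF 340830, τ x = x) (h2 : ∀ c ∈ C11, τ • c ∈ C11)
    (h3 : ∀ x ∈ toF 30, τ x = x) : τ = 1 := by
  have e1 : τ • toF 30 = toF 30 := by
    refine eq_of_subset_of_card_le (fun p hp => ?_) (by rw [card_smul_finset])
    obtain ⟨x, hx, rfl⟩ := mem_smul_finset.1 hp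
    rw [Perm.smul_def, h3 x hx]
    exact hx
  have m : toF 4126 ∈ C11 := blk_mem (by decide)
  have s1 : toF 30 ⊆ toF 4126 := by rw [subset_toF]; decide +kernel
  have e2 : τ • toF 4126 = toF 4126 := C11_eq (h2 _ m) m (by
    rw [show 4 = (toF 30).card by rw [card_toF]; decide +kernel]
    refine card_le_card (subset_inter ?_ s1)
    rw [← e1]
    exact smul_finset_subset_smul_finset s1)
  have e3 : τ • toF 4096 = toF 4096 := by
    rw [show 4096 = 4126 ^^^ 30 from rfl, toF_xor, smul_symmDiff', e1, e2]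
  have e4 : τ • toF 336704 = toF 336704 := by
    rw [show 336704 = 340830 ^^^ 4126 from rfl, toF_xor, smul_symmDiff', smul_eq_of_fix h1, e2]
  have e5 : τ (pt 12) = pt 12 := by
    rw [show 4096 = 2 ^ 12 from rfl, toF_two_pow (by norm_num), smul_finset_singleton] at e3
    exact singleton_injective e3
  have q : ∀ p, p ∈ toF 336704 → idx p ∈ l6 := fun p hp => by
    rw [mem_toF] at hp
    revert p
    decide +kernel
  have q1 : ∀ i < 24, bit 336704 i = true → idx (τ (pt i)) ∈ l6 := fun i hi h => q _ (by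
    rw [← e4]; exact smul_mem_smul_finset ((pt_mem_iff hi _).2 h))
  have q2 : ∀ i < 24, ∀ k < 24, i ≠ k → Nat.beq (idx (τ (pt i))) (idx (τ (pt k))) = false :=
    fun i hi k hk h => Bool.eq_false_iff.2 fun e =>
      h (pt_inj hi hk (τ.injective (idx_inj (Nat.eq_of_beq_eq_true e))))
  have c1 := lall_iff.1 (lall_iff.1 rig_chk _ (q1 6 (by norm_num) (by decide +kernel))) _ (q1 8 (by norm_num) (by decide +kernel))
  rw [q2 6 (by norm_num) 8 (by norm_num) (by norm_num), bif'_false] at c1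
  have c2 := lall_iff.1 (lall_iff.1 c1 _ (q1 9 (by norm_num) (by decide +kernel))) _ (q1 13 (by norm_num) (by decide +kernel))
  rw [q2 9 (by norm_num) 13 (by norm_num) (by norm_num), bif'_false] at c2
  have c3 := lall_iff.1 (lall_iff.1 c2 _ (q1 16 (by norm_num) (by decide +kernel))) _ (q1 18 (by norm_num) (by decide +kernel))
  rw [q2 16 (by norm_num) 18 (by norm_num) (by norm_num), bif'_false, force_eq] at c3
  have f1 : ∀ i < 24, bit 340830 i = false → idx (τ (pt i)) = i := fun i hi h => by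
    rw [h1 _ (by rw [pt_mem_iff hi, h]; simp), idx_pt hi]
  have f2 : ∀ i < 24, bit 30 i = true → idx (τ (pt i)) = i := fun i hi h => by
    rw [h3 _ ((pt_mem_iff hi _).2 h), idx_pt hi]
  have f3 : idx (τ (pt 12)) = 12 := by rw [e5, idx_pt (by norm_num)]
  have e6 : cf6 (idx (τ (pt 6))) (idx (τ (pt 8))) (idx (τ (pt 9))) (idx (τ (pt 13)))
      (idx (τ (pt 16))) (idx (τ (pt 18))) = cd τ := pack_congr fun i hi => by
    interval_cases i
    all_goals first
      | rfl
      | (symm; exact f1 _ (by norm_num) (by decide +kernel))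
      | (symm; exact f2 _ (by norm_num) (by decide +kernel))
      | exact f3.symm
  rw [e6, (Nat.beq_eq ..).mpr (toF_inj (img_cd_lt _ _) (by norm_num) ((img_cd _ _).symm.trans e4)),
    bif'_true, lall_iff.2 fun T hT => ?_, bif'_true] at c3
  · ext p
    obtain ⟨i, hi, rfl⟩ := exists_pt p
    have := ap_cd τ hi
    rw [Nat.eq_of_beq_eq_true c3, ap_idc i hi] at this
    rw [← pt_idx (τ (pt i)), ← this]
    rfl
  · obtain ⟨n, hn, e⟩ := mem_blk (h2 _ (blk_mem hT))
    refine lany_iff.2 ⟨n, hn, (Nat.beq_eq ..).mpr (toF_inj (img_cd_lt _ _) ?_ ((img_cd _ _).symm.trans e.symm))⟩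
    exact (by decide : ∀ n ∈ blkL, n < 16777216) n hn

theorem rigid' {τ : Perm GolayPt} (h1 : ∀ x ∈ toF 340830, τ x ∈ toF 340830)
    (h2 : ∀ c ∈ C11, τ • c ∈ C11) (h3 : ∀ x ∈ toF 30, τ x = x) : ∀ x ∈ toF 340830, τ x = x := by
  have e : τ • toF 340830 = toF 340830 :=
    eq_of_subset_of_card_le (fun p hp => by
      obtain ⟨x, hx, rfl⟩ := mem_smul_finset.1 hp
      exact h1 x hx) (by rw [card_smul_finset])
  have h : ∀ x, τ x ∈ toF 340830 ↔ x ∈ toF 340830 := fun x => by
    nth_rw 1 [← e]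
    exact smul_mem_smul_finset_iff τ
  let ρ := Perm.ofSubtype (τ.subtypePerm h)
  have a : ∀ x ∈ toF 340830, ρ x = τ x := fun x hx => Perm.ofSubtype_subtypePerm_of_mem h hx
  have s1 : toF 30 ⊆ toF 340830 := by rw [subset_toF]; decide +kernel
  have : ρ = 1 := rigid (fun x hx => Perm.ofSubtype_subtypePerm_of_not_mem h hx) (fun c hc => by
    have : ρ • c = τ • c := image_congr fun x hx => a x (C11_sub hc hx)
    rw [this]
    exact h2 c hc) fun x hx => by rw [a x (s1 hx), h3 x hx]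
  intro x hx
  rw [← a x hx, this]
  rfl

theorem C11_smul {g : M24} (hg : g • toF 340831 = toF 340831) (h0 : g • pt 0 = pt 0)
    {c : Finset GolayPt} (hc : c ∈ C11) : g • c ∈ C11 := by
  refine ⟨?_, ?_⟩
  · rw [← h0, smul_mem_smul_finset_iff]
    exact hc.1
  · rw [← h0, ← smul_finset_insert]
    exact hex_smul hg hc.2

theorem toF_30 : toF 30 = {pt 1, pt 2, pt 3, pt 4} := by decide +kernel

theorem toF_31 : toF 31 = {pt 0, pt 1, pt 2, pt 3, pt 4} := by decide +kernel

theorem nodup5 : [pt 0, pt 1, pt 2, pt 3, pt 4].Nodup := by decide +kernel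

theorem in_D0 : ∀ x ∈ [pt 0, pt 1, pt 2, pt 3, pt 4], x ∈ toF 340831 := by decide +kernel

theorem surj12 {σ : Perm GolayPt} (h1 : σ • toF 340831 = toF 340831)
    (h2 : ∀ c ∈ hexadsOn (toF 340831), σ • c ∈ hexadsOn (toF 340831)) :
    ∃ g : M24, g • toF 340831 = toF 340831 ∧ ∀ x ∈ toF 340831, g • x = σ x := by
  have hs : ∀ x ∈ toF 340831, σ x ∈ toF 340831 := fun x hx => h1 ▸ smul_mem_smul_finset hx
  obtain ⟨g, g0, g1, g2, g3, g4, g5⟩ := dod_pts D0_mem (nodup5.map σ.injective) (fun x hx => by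
    obtain ⟨y, hy, rfl⟩ := List.mem_map.1 (show x ∈ [pt 0, pt 1, pt 2, pt 3, pt 4].map σ from hx)
    exact hs y (in_D0 y hy))
  have gi : g⁻¹ • toF 340831 = toF 340831 := inv_smul_eq_iff.2 g0.symm
  let τ : Perm GolayPt := (g⁻¹ : M24) * σ
  have t : ∀ x, τ x = g⁻¹ • σ x := fun x => rfl
  have t0 : τ (pt 0) = pt 0 := by rw [t, ← g1, inv_smul_smul]
  have := rigid' (τ := τ) (fun x hx => by
      rw [mem_X11] at hx ⊢
      refine ⟨?_, fun e => hx.2 (τ.injective (e.trans t0.symm))⟩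
      rw [t, ← gi]
      exact smul_mem_smul_finset (hs x hx.1))
    (fun c hc => by
      refine ⟨fun h => hc.1 ((smul_mem_smul_finset_iff τ).1 (by rwa [Perm.smul_def, t0])), ?_⟩
      have := hex_smul gi (h2 _ hc.2)
      rw [← t0]
      change insert (τ • pt 0) _ ∈ _
      rw [← smul_finset_insert, mul_smul]
      exact this)
    (fun x hx => by
      rw [toF_30] at hx
      simp only [mem_insert, mem_singleton] at hx
      rcases hx with rfl | rfl | rfl | rfl
      · rw [t, ← g2, inv_smul_smul]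
      · rw [t, ← g3, inv_smul_smul]
      · rw [t, ← g4, inv_smul_smul]
      · rw [t, ← g5, inv_smul_smul])
  refine ⟨g, g0, fun x hx => ?_⟩
  rw [eq_comm, ← inv_smul_eq_iff, ← t]
  by_cases h : x = pt 0
  · rw [h, t0]
  · exact this x (mem_X11.2 ⟨hx, h⟩)

theorem fix5 {g : M24} (hg : g • toF 340831 = toF 340831) {a b c d e : GolayPt}
    (hn : [a, b, c, d, e].Nodup) (hx : ∀ x ∈ [a, b, c, d, e], x ∈ toF 340831)
    (h : ∀ x ∈ [a, b, c, d, e], g • x = x) : g = 1 := by
  obtain ⟨k, k0, rfl, rfl, rfl, rfl, rfl⟩ := dod_pts D0_mem hn hx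
  have : k⁻¹ * g * k ∈ St 31 [340831] := mem_St.2 ⟨fun p hp => by
    rw [mul_smul, mul_smul, h, inv_smul_smul]
    rw [toF_31] at hp
    simp only [mem_insert, mem_singleton] at hp
    rcases hp with rfl | rfl | rfl | rfl | rfl <;> simp, by
    simp only [List.mem_singleton, forall_eq]
    rw [mul_smul, mul_smul, k0, hg, inv_smul_eq_iff, k0]⟩
  rw [m12_sharp, Subgroup.mem_bot] at this
  have e : g = k * (k⁻¹ * g * k) * k⁻¹ := by group
  rw [e, this]
  simp

theorem St12 {g : M24} : g ∈ St 0 [340831] ↔ g • toF 340831 = toF 340831 := by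
  simp [mem_St, toF_zero]

theorem St11 {g : M24} : g ∈ St 1 [340831] ↔ g • pt 0 = pt 0 ∧ g • toF 340831 = toF 340831 := by
  simp [mem_St, toF_1]

section
variable {α : Type*} [Fintype α] [DecidableEq α] {B : Set (Finset α)} {j : α ↪ GolayPt}

theorem aut12 (h : Model j (toF 340831) B (hexadsOn (toF 340831))) :
    ∃ φ : St 0 [340831] ≃* setSystemAut B, ∀ g (a : α), j (φ g • a) = (g : M24) • j a :=
  h.aut _ (fun g hg _ hx => St12.1 hg ▸ smul_mem_smul_finset hx)
    (fun g hg c hc => hex_smul (St12.1 hg) hc)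
    (fun g hg h => fix5 (St12.1 hg) nodup5 in_D0 fun x hx => h x (in_D0 x hx))
    fun σ h1 h2 => by
      obtain ⟨g, g1, g2⟩ := surj12 (smul_eq_of_fix h1) fun c hc => h2 c hc (hex_sub hc)
      exact ⟨g, St12.2 g1, g2⟩

theorem aut11 (h : Model j (toF 340830) B C11) :
    ∃ φ : St 1 [340831] ≃* setSystemAut B, ∀ g (a : α), j (φ g • a) = (g : M24) • j a :=
  h.aut _ (fun g hg x hx => by
      obtain ⟨h1, h2⟩ := St11.1 hg
      rw [mem_X11] at hx ⊢
      exact ⟨h2 ▸ smul_mem_smul_finset hx.1, fun e => hx.2 (MulAction.injective g (e.trans h1.symm))⟩)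
    (fun g hg c hc => C11_smul (St11.1 hg).2 (St11.1 hg).1 hc)
    (fun g hg h => fix5 (St11.1 hg).2 nodup5 in_D0 fun x hx => by
      by_cases h0 : x = pt 0
      · rw [h0, (St11.1 hg).1]
      · exact h x (mem_X11.2 ⟨in_D0 x hx, h0⟩))
    fun σ h1 h2 => by
      have e : σ • toF 340831 = toF 340831 :=
        smul_eq_of_fix fun x hx => h1 x fun h => hx (mem_X11.1 h).1
      have s0 : σ (pt 0) = pt 0 := h1 _ pt0_X11
      have k : ∀ c ∈ hexadsOn (toF 340831), pt 0 ∈ c → σ • c ∈ hexadsOn (toF 340831) :=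
        fun c hc h0 => by
          have m : c.erase (pt 0) ∈ C11 := ⟨notMem_erase _ _, by rwa [insert_erase h0]⟩
          have := (h2 _ m (C11_sub m)).2
          nth_rw 1 [← s0] at this
          change insert (σ • pt 0) _ ∈ _ at this
          rwa [← smul_finset_insert, insert_erase h0] at this
      obtain ⟨g, g1, g2⟩ := surj12 e fun c hc => by
        by_cases h0 : pt 0 ∈ c
        · exact k c hc h0
        · have := hex_compl D0_mem (k _ (hex_compl D0_mem hc) (mem_sdiff.2 ⟨pt0_D0, h0⟩))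
          rwa [smul_finset_sdiff, e, Finset.sdiff_sdiff_eq_self] at this
          rw [← e]
          exact smul_finset_subset_smul_finset (hex_sub hc)
      exact ⟨g, St11.2 ⟨(g2 _ pt0_D0).trans s0, g1⟩, fun x hx => g2 x (mem_X11.1 hx).1⟩

end

end Cfsg.Agent.Stn
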