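import Cfsg.Agent.Stn.W24
import Mathlib.Combinatorics.SimpleGraph.StronglyRegular

set_option autoImplicit false

namespace Cfsg.Agent.Stn
open Finset Cfsg

section gen
variable {V : Type*} [Fintype V] {G : SimpleGraph V} [DecidableRel G.Adj] {n k l m : ℕ}

theorem cn_eq (v w : V) :
    Fintype.card (G.commonNeighbors v w) = {x | G.Adj v x ∧ G.Adj w x}.ncard := by
  rw [← Nat.card_eq_fintype_card, Nat.card_coe_set_eq]; rfl

theorem deg_eq (v : V) : G.degree v = {x | G.Adj v x}.ncard := by
  rw [← SimpleGraph.card_neighborSet_eq_degree, ← Nat.card_eq_fintype_card, Nat.card_coe_set_eq]; rfl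

theorem srg_of (h0 : Fintype.card V = n) (h1 : ∀ v, {w | G.Adj v w}.ncard = k)
    (h2 : ∀ v w, G.Adj v w → {x | G.Adj v x ∧ G.Adj w x}.ncard = l)
    (h3 : ∀ v w, v ≠ w → ¬ G.Adj v w → {x | G.Adj v x ∧ G.Adj w x}.ncard = m) :
    G.IsSRGWith n k l m where
  card := h0
  regular v := (deg_eq v).trans (h1 v)
  of_adj v w h := (cn_eq v w).trans (h2 v w h)
  of_not_adj v w h h' := (cn_eq v w).trans (h3 v w h h')

end gen

section cnts
variable {α : Type*} [Fintype α] [DecidableEq α] {B : Set (Finset α)}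

omit [Fintype α] in
theorem sum_inter (S : Finset (Finset α)) (c : Finset α) :
    ∑ d ∈ S, (c ∩ d).card = ∑ q ∈ c, (S.filter (q ∈ ·)).card := by
  have h : ∀ d : Finset α, (c ∩ d).card = ∑ q ∈ c, if q ∈ d then 1 else 0 := by
    intro d
    rw [← card_filter, filter_mem_eq_inter]
  simp only [h, card_filter]
  exact sum_comm

variable (hα : Fintype.card α = 22) (hB : IsSteinerSystem 3 6 B)
include hα hB

theorem n77 : (bl B).card = 77 := by
  have := block_count hB
  rw [hα, ncard_bl'] at this
  have h1 : Nat.choose 6 3 = 20 := by decide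
  have h2 : Nat.choose 22 3 = 1540 := by decide
  rw [h1, h2] at this
  omega

theorem lam1 (p : α) : ((bl B).filter (p ∈ ·)).card = 21 := by
  have := lam_mul hB {p} (by simp)
  rw [hα, card_singleton] at this
  have h1 : Nat.choose (6 - 1) (3 - 1) = 10 := by decide
  have h2 : Nat.choose (22 - 1) (3 - 1) = 210 := by decide
  rw [h1, h2] at this
  simp only [lam, singleton_subset_iff] at this
  omega

theorem lam2 {p q : α} (h : p ≠ q) : ((bl B).filter (fun c => p ∈ c ∧ q ∈ c)).card = 5 := by
  have := lam_mul hB {p, q} (by rw [card_pair h]; omega)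
  rw [hα, card_pair h] at this
  have h1 : Nat.choose (6 - 2) (3 - 2) = 4 := by decide
  have h2 : Nat.choose (22 - 2) (3 - 2) = 20 := by decide
  rw [h1, h2] at this
  simp only [lam, insert_subset_iff, singleton_subset_iff] at this
  omega

theorem deg16 {b : Finset α} (hb : b ∈ B) : ((bl B).filter (Disjoint b ·)).card = 16 := by
  have := cnt_blk hB (by omega) hb (empty_subset b)
  rw [hα, card_empty] at this
  have h1 : cntF 3 6 22 6 0 = 16 := by decide +kernel
  rw [h1] at this
  simp only [cnt, ← disjoint_iff_inter_eq_empty] at this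
  exact_mod_cast this

theorem sum_two {c : Finset α} (hc : c ∈ B) (S : Finset (Finset α)) (hS : ∀ d ∈ S, d ∈ B ∧ d ≠ c) :
    ∑ d ∈ S, (c ∩ d).card + 2 * (S.filter (Disjoint c ·)).card = 2 * S.card := by
  rw [card_filter, mul_sum, ← sum_add_distrib, card_eq_sum_ones S, mul_sum]
  refine sum_congr rfl fun d hd => ?_
  rcases inter_3_6_22 hα hB hc (hS d hd).1 (hS d hd).2.symm with h | h
  · rw [if_pos (disjoint_iff_inter_eq_empty.2 (card_eq_zero.1 h)), h]
    rfl
  · rw [if_neg]
    · omega
    intro h'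
    rw [disjoint_iff_inter_eq_empty.1 h'] at h
    simp at h

theorem pb6 {b : Finset α} (hb : b ∈ B) {p : α} (hp : p ∉ b) :
    ((bl B).filter (fun c => p ∈ c ∧ Disjoint b c)).card = 6 := by
  have h1 := sum_two hα hB hb ((bl B).filter (p ∈ ·)) (fun d hd => by
    rw [mem_filter, mem_bl] at hd
    exact ⟨hd.1, fun e => hp (e ▸ hd.2)⟩)
  rw [sum_inter, lam1 hα hB, filter_filter] at h1
  rw [sum_congr rfl (g := fun _ => 5) (fun q hq => by
    rw [filter_filter]; exact lam2 hα hB (fun e => hp (e ▸ hq)))] at h1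
  rw [sum_const, hB.1 b hb] at h1
  simp only [smul_eq_mul] at h1
  omega

theorem bb {b c : Finset α} (hb : b ∈ B) (hc : c ∈ B) (h : b ≠ c) :
    ((bl B).filter (fun d => Disjoint b d ∧ Disjoint c d)).card = 2 * (b ∩ c).card := by
  have key : ∑ d ∈ (bl B).filter (Disjoint b ·), (c ∩ d).card + 6 * (b ∩ c).card = 36 := by
    rw [sum_inter, sum_congr rfl (g := fun q => if q ∈ b then 0 else 6)]
    · rw [sum_ite, sum_const_zero, zero_add, sum_const, smul_eq_mul]
      have := card_filter_add_card_filter_not (s := c) (· ∈ b)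
      rw [filter_mem_eq_inter, hB.1 c hc, inter_comm] at this
      omega
    · intro q hq
      split_ifs with hqb
      · rw [card_eq_zero, filter_eq_empty_iff]
        intro d hd hq'
        exact disjoint_left.1 (mem_filter.1 hd).2 hqb hq'
      · rw [filter_filter, ← pb6 hα hB hb hqb]
        simp only [and_comm]
  rcases inter_3_6_22 hα hB hb hc h with h0 | h2
  · have hd : Disjoint b c := disjoint_iff_inter_eq_empty.2 (card_eq_zero.1 h0)
    have hm : c ∈ (bl B).filter (Disjoint b ·) := mem_filter.2 ⟨mem_bl.2 hc, hd⟩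
    have h1 := sum_two hα hB hc (((bl B).filter (Disjoint b ·)).erase c) (fun d hd => by
      rw [mem_erase, mem_filter, mem_bl] at hd
      exact ⟨hd.2.1, hd.1⟩)
    rw [card_erase_of_mem hm, deg16 hα hB hb] at h1
    rw [← add_sum_erase _ _ hm, inter_self, hB.1 c hc, h0] at key
    have h3 : (((bl B).filter (Disjoint b ·)).erase c).filter (Disjoint c ·) =
        (bl B).filter (fun d => Disjoint b d ∧ Disjoint c d) := by
      ext d
      simp only [mem_filter, mem_erase]
      refine ⟨fun h => ⟨h.1.2.1, h.1.2.2, h.2⟩, fun h => ⟨⟨?_, h.1, h.2.1⟩, h.2.2⟩⟩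
      rintro rfl
      have := hB.1 d hc
      rw [disjoint_self.1 h.2.2] at this
      simp at this
    rw [h3] at h1
    omega
  · have h1 := sum_two hα hB hc ((bl B).filter (Disjoint b ·)) (fun d hd => by
      rw [mem_filter, mem_bl] at hd
      refine ⟨hd.1, ?_⟩
      rintro rfl
      rw [disjoint_iff_inter_eq_empty.1 hd.2] at h2
      simp at h2)
    rw [deg16 hα hB hb, filter_filter] at h1
    omega

omit hα hB [DecidableEq α] in
theorem ncard_sub (P : Finset α → Prop) [DecidablePred P] :
    {c : B | P c}.ncard = ((bl B).filter P).card := by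
  rw [← ncard_bl, ← Set.ncard_image_of_injective _ Subtype.val_injective]
  congr 1
  ext c
  simp only [Set.mem_image, Set.mem_ofPred_eq, Subtype.exists, exists_and_right, exists_eq_right]
  exact ⟨fun ⟨h, h'⟩ => ⟨h, h'⟩, fun ⟨h, h'⟩ => ⟨h, h'⟩⟩

omit hα [Fintype α] [DecidableEq α] in
theorem not_disj_self {b : Finset α} (hb : b ∈ B) : ¬ Disjoint b b := by
  intro h
  have := hB.1 b hb
  rw [disjoint_self.1 h] at this
  simp at this

omit hα [Fintype α] [DecidableEq α] in
theorem bg_adj (b c : B) : (blockGraph B).Adj b c ↔ Disjoint (b : Finset α) c := by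
  simp only [blockGraph, SimpleGraph.fromRel_adj]
  refine ⟨fun h => h.2.elim id fun h => h.symm, fun h => ⟨?_, Or.inl h⟩⟩
  rintro rfl
  exact not_disj_self hB b.2 h

theorem inter_two {b c : Finset α} (hb : b ∈ B) (hc : c ∈ B) (h : b ≠ c) (h' : ¬ Disjoint b c) :
    (b ∩ c).card = 2 := by
  rcases inter_3_6_22 hα hB hb hc h with h0 | h2
  · exact absurd (disjoint_iff_inter_eq_empty.2 (card_eq_zero.1 h0)) h'
  · exact h2

theorem srg77 [Fintype B] [DecidableRel (blockGraph B).Adj] : (blockGraph B).IsSRGWith 77 16 0 4 := by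
  refine srg_of ?_ (fun b => ?_) (fun b c h => ?_) (fun b c h h' => ?_)
  · rw [← Nat.card_eq_fintype_card, Nat.card_coe_set_eq, ncard_bl', n77 hα hB]
  · simp only [bg_adj hB]
    rw [ncard_sub (fun c => Disjoint (b : Finset α) c), deg16 hα hB b.2]
  · simp only [bg_adj hB] at h ⊢
    rw [ncard_sub (fun d => Disjoint (b : Finset α) d ∧ Disjoint (c : Finset α) d),
      bb hα hB b.2 c.2 (fun e => not_disj_self hB c.2 (e ▸ h)), disjoint_iff_inter_eq_empty.1 h]
    rfl
  · simp only [bg_adj hB] at h' ⊢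
    have hne : (b : Finset α) ≠ c := fun e => h (Subtype.ext e)
    rw [ncard_sub (fun d => Disjoint (b : Finset α) d ∧ Disjoint (c : Finset α) d),
      bb hα hB b.2 c.2 hne, inter_two hα hB b.2 c.2 hne h']

end cnts

open Classical in
theorem ncard_sum1 {γ : Type*} [Fintype γ] (Q : γ → Prop) :
    {x | Q x}.ncard = ∑ x, if Q x then 1 else 0 := by
  rw [← card_filter, ← Set.ncard_coe_finset]
  congr 1
  ext x
  simp

theorem ncard_opt {α β : Type*} [Finite α] [Finite β] (P : Option (α ⊕ β) → Prop) [Decidable (P none)] :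
    {x | P x}.ncard = (if P none then 1 else 0) + {a | P (some (.inl a))}.ncard +
      {b | P (some (.inr b))}.ncard := by
  classical
  have := Fintype.ofFinite α
  have := Fintype.ofFinite β
  rw [ncard_sum1, ncard_sum1, ncard_sum1, Fintype.sum_option, Fintype.sum_sum_type, add_assoc]
  congr

section pbg
variable {α : Type*} {B : Set (Finset α)}

@[simp] theorem pa_nn : ¬ (pointBlockGraph B).Adj none none := by simp
@[simp] theorem pa_np (a : α) : (pointBlockGraph B).Adj none (some (.inl a)) := by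
  simp [pointBlockGraph, pointBlockRel]
@[simp] theorem pa_pn (a : α) : (pointBlockGraph B).Adj (some (.inl a)) none := (pa_np a).symm
@[simp] theorem pa_nb (b : B) : ¬ (pointBlockGraph B).Adj none (some (.inr b)) := by
  simp [pointBlockGraph, pointBlockRel]
@[simp] theorem pa_bn (b : B) : ¬ (pointBlockGraph B).Adj (some (.inr b)) none :=
  fun h => pa_nb b h.symm
@[simp] theorem pa_pp (a b : α) : ¬ (pointBlockGraph B).Adj (some (.inl a)) (some (.inl b)) := by
  simp [pointBlockGraph, pointBlockRel]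
@[simp] theorem pa_pb (a : α) (b : B) :
    (pointBlockGraph B).Adj (some (.inl a)) (some (.inr b)) ↔ a ∈ (b : Finset α) := by
  simp [pointBlockGraph, pointBlockRel]
@[simp] theorem pa_bp (a : α) (b : B) :
    (pointBlockGraph B).Adj (some (.inr b)) (some (.inl a)) ↔ a ∈ (b : Finset α) := by
  rw [SimpleGraph.adj_comm, pa_pb]
theorem pa_bb (hB : IsSteinerSystem 3 6 B) (b c : B) :
    (pointBlockGraph B).Adj (some (.inr b)) (some (.inr c)) ↔ Disjoint (b : Finset α) c := by
  simp only [pointBlockGraph, pointBlockRel, SimpleGraph.fromRel_adj]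
  refine ⟨fun h => h.2.elim id fun h => h.symm, fun h => ⟨fun e => ?_, Or.inl h⟩⟩
  have : b = c := by simpa using e
  subst this
  exact not_disj_self hB b.2 h

theorem srg100 [Fintype α] (hα : Fintype.card α = 22) (hB : IsSteinerSystem 3 6 B) [Fintype B]
    [DecidableRel (pointBlockGraph B).Adj] : (pointBlockGraph B).IsSRGWith 100 22 0 6 := by
  classical
  have h77 : Fintype.card B = 77 := by
    rw [← Nat.card_eq_fintype_card, Nat.card_coe_set_eq, ncard_bl', n77 hα hB]
  have hb6 : ∀ b : B, {a | a ∈ (b : Finset α)}.ncard = 6 := fun b => by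
    rw [← hB.1 b b.2, ← Set.ncard_coe_finset]; rfl
  have hbc : ∀ b c : B, {a | a ∈ (b : Finset α) ∧ a ∈ (c : Finset α)}.ncard =
      ((b : Finset α) ∩ c).card := fun b c => by
    rw [← Set.ncard_coe_finset]; congr 1; ext; simp
  have h1 : ∀ (a : α) (b : B), a ∈ (b : Finset α) →
      {c : B | a ∈ (c : Finset α) ∧ Disjoint (b : Finset α) c}.ncard = 0 := fun a b h => by
    rw [Set.ncard_eq_zero, Set.eq_empty_iff_forall_notMem]
    exact fun c hc => disjoint_left.1 hc.2 h hc.1
  have h2 : ∀ (a : α) (b : B), a ∉ (b : Finset α) →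
      {c : B | a ∈ (c : Finset α) ∧ Disjoint (b : Finset α) c}.ncard = 6 := fun a b h => by
    rw [ncard_sub (fun c => a ∈ c ∧ Disjoint (b : Finset α) c), pb6 hα hB b.2 h]
  refine srg_of ?_ (fun v => ?_) (fun v w h => ?_) (fun v w h h' => ?_)
  · simp [hα, h77]
  · rw [ncard_opt]
    rcases v with _ | a | b
    · simp [Set.ncard_univ, hα]
    · simp only [pa_pn, pa_pp, pa_pb, if_true, Set.ofPred_false, Set.ncard_empty]
      rw [ncard_sub (fun c => a ∈ c), lam1 hα hB]
    · simp only [pa_bn, pa_bp, pa_bb hB, if_false, hb6]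
      rw [ncard_sub (fun c => Disjoint (b : Finset α) c), deg16 hα hB b.2]
  · rw [ncard_opt]
    rcases v with _ | a | b <;> rcases w with _ | a' | b' <;>
      simp only [pa_nn, pa_np, pa_pn, pa_nb, pa_bn, pa_pp, pa_pb, pa_bp, pa_bb hB] at h <;>
      simp only [pa_nn, pa_np, pa_pn, pa_nb, pa_bn, pa_pp, pa_pb, pa_bp, pa_bb hB, and_false,
        false_and, if_false, Set.ofPred_false, Set.ncard_empty]
    · rw [h1 _ _ h]
    · simp only [and_comm (a := Disjoint _ _)]; rw [h1 _ _ h]
    · rw [hbc, ncard_sub (fun d => Disjoint (b : Finset α) d ∧ Disjoint (b' : Finset α) d),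
        bb hα hB b.2 b'.2 (fun e => not_disj_self hB b'.2 (e ▸ h)), disjoint_iff_inter_eq_empty.1 h]
      rfl
  · rw [ncard_opt]
    rcases v with _ | a | b <;> rcases w with _ | a' | b' <;>
      simp only [pa_np, pa_pn, pa_nb, pa_bn, pa_pp, pa_pb, pa_bp, pa_bb hB, not_true,
        ne_eq] at h h' <;>
      simp only [pa_nn, pa_np, pa_pn, pa_nb, pa_bn, pa_pp, pa_pb, pa_bp, pa_bb hB, and_false,
        false_and, if_false, Set.ofPred_false, Set.ncard_empty, true_and, and_true, if_true, hb6]
    · rw [ncard_sub (fun c => a ∈ c ∧ a' ∈ c), lam2 hα hB (fun e => h (by rw [e]))]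
    · rw [h2 _ _ h']
    · simp only [and_comm (a := Disjoint _ _)]; rw [h2 _ _ h']
    · have hne : (b : Finset α) ≠ b' := fun e => h (by rw [Subtype.ext e])
      rw [hbc, ncard_sub (fun d => Disjoint (b : Finset α) d ∧ Disjoint (b' : Finset α) d),
        bb hα hB b.2 b'.2 hne, inter_two hα hB b.2 b'.2 hne h']

end pbg

end Cfsg.Agent.Stn
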