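import Mathlib

set_option autoImplicit false

namespace Cfsg.Agent.Stn
open Finset

variable {X : Type*} [Fintype X] [DecidableEq X]

/-- Gram matrix of the second subconstituent of a strongly regular graph on 77 points -/
structure G60 (g : X → X → ℤ) : Prop where
  card : Fintype.card X = 60
  symm : ∀ y z, g y z = g z y
  diag : ∀ y, g y y = 4
  val : ∀ y z, g y z = 4 ∨ g y z = 1 ∨ g y z = -2
  sum : ∀ y, ∑ t, g y t = 0
  dot : ∀ y z, ∑ t, g y t * g z t = 48 * g y z

omit [DecidableEq X] in
theorem sq_zero {f : X → ℤ} (h : ∑ t, f t ^ 2 = 0) (t : X) : f t = 0 :=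
  pow_eq_zero_iff two_ne_zero |>.1
    ((sum_eq_zero_iff_of_nonneg (fun _ _ => sq_nonneg _)).1 h t (mem_univ t))

omit [DecidableEq X] in
theorem cnt3 (c : Fintype.card X = 60) {h : X → ℤ} (v : ∀ t, h t = 4 ∨ h t = 1 ∨ h t = -2)
    (s : ∑ t, h t = 0) (q : ∑ t, h t * h t = 192) :
    ∑ t, (if h t = 4 then 1 else 0 : ℤ) = 4 ∧ ∑ t, (if h t = 1 then 1 else 0 : ℤ) = 32 ∧
      ∑ t, (if h t = -2 then 1 else 0 : ℤ) = 24 := by
  have c' : ∑ _t : X, (1 : ℤ) = 60 := by simp [c]
  have e1 : ∑ t, 18 * (if h t = 4 then 1 else 0 : ℤ) = ∑ t, (h t * h t + h t - 2 * 1) :=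
    sum_congr rfl fun t _ => by rcases v t with e | e | e <;> simp [e]
  have e2 : ∑ t, 9 * (if h t = 1 then 1 else 0 : ℤ) = ∑ t, (8 * 1 + 2 * h t - h t * h t) :=
    sum_congr rfl fun t _ => by rcases v t with e | e | e <;> simp [e]
  have e3 : ∑ t, 18 * (if h t = -2 then 1 else 0 : ℤ) = ∑ t, (h t * h t - 5 * h t + 4 * 1) :=
    sum_congr rfl fun t _ => by rcases v t with e | e | e <;> simp [e]
  simp only [sum_add_distrib, sum_sub_distrib, ← mul_sum, c', s, q] at e1 e2 e3
  omega

namespace G60
variable {g : X → X → ℤ} (H : G60 g)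
include H

omit [DecidableEq X] in
theorem cnt (y : X) : ∑ t, (if g y t = 4 then 1 else 0 : ℤ) = 4 ∧
    ∑ t, (if g y t = 1 then 1 else 0 : ℤ) = 32 ∧ ∑ t, (if g y t = -2 then 1 else 0 : ℤ) = 24 :=
  cnt3 H.card (H.val y) (H.sum y) (by rw [H.dot, H.diag]; rfl)

omit [DecidableEq X] in
theorem eq4 {y z : X} (h : g y z = 4) (t : X) : g y t = g z t := by
  have : ∑ t, (g y t - g z t) ^ 2 = ∑ t, (g y t * g y t + g z t * g z t - 2 * (g y t * g z t)) :=
    sum_congr rfl fun t _ => by ring
  simp only [sum_add_distrib, sum_sub_distrib, ← mul_sum, H.dot, H.diag, h] at this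
  have := sq_zero (this.trans (by norm_num)) t
  omega

omit [DecidableEq X] in
theorem tri {y s r : X} (h1 : g y s = -2) (h2 : g y r = -2) (h3 : g s r = -2) (t : X) :
    g y t + g s t + g r t = 0 := by
  have : ∑ t, (g y t + g s t + g r t) ^ 2 = ∑ t, (g y t * g y t + g s t * g s t + g r t * g r t
      + 2 * (g y t * g s t) + 2 * (g y t * g r t) + 2 * (g s t * g r t)) :=
    sum_congr rfl fun t _ => by ring
  simp only [sum_add_distrib, ← mul_sum, H.dot, H.diag, h1, h2, h3] at this
  exact sq_zero (this.trans (by norm_num)) t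

omit [DecidableEq X] in
theorem opp {y s : X} (h : g y s = -2) :
    ∑ t, (if g y t = -2 ∧ g s t = -2 then 1 else 0 : ℤ) = 4 := by
  have k : ∀ t, (g y t = 4 → g s t = -2) ∧ (g s t = 4 → g y t = -2) := fun t =>
    ⟨fun e => by rw [H.symm s, ← H.eq4 e s, h],
     fun e => by rw [H.symm y, ← H.eq4 e y, H.symm s, h]⟩
  have := (cnt3 H.card (h := fun t => -(g y t + g s t)) (fun t => by
      have := k t
      rcases H.val y t with e | e | e <;> rcases H.val s t with e' | e' | e' <;> simp_all)
    (by simp only [sum_neg_distrib, sum_add_distrib, H.sum]; rfl)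
    (by
      have : ∑ t, -(g y t + g s t) * -(g y t + g s t) =
          ∑ t, (g y t * g y t + g s t * g s t + 2 * (g y t * g s t)) :=
        sum_congr rfl fun t _ => by ring
      simp only [sum_add_distrib, ← mul_sum, H.dot, H.diag, h] at this
      exact this.trans (by norm_num))).1
  rw [← this]
  refine sum_congr rfl fun t _ => ?_
  rcases H.val y t with e | e | e <;> rcases H.val s t with e' | e' | e' <;> simp [e, e']

omit H in
/-- projection to the line fixed by `y` -/
def F (g : X → X → ℤ) (y t u : X) : ℤ :=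
  24 * g t u - ∑ r, (if g y r = -2 then 1 else 0) * g t r * g u r

omit [DecidableEq X] in
theorem F_symm (y t u : X) : F g y t u = F g y u t := by
  simp only [F, H.symm t u]
  congr 1
  exact sum_congr rfl fun r _ => by ring

omit [DecidableEq X] in
theorem sumY {y t : X} (h : g y t = 1) : ∑ r, (if g y r = -2 then 1 else 0) * g t r = -12 := by
  have e : ∑ r, 3 * ((if g y r = -2 then 1 else 0) * g t r) =
      ∑ r, (3 * (if g y r = 4 then 1 else 0) + g t r - g y r * g t r) :=
    sum_congr rfl fun r _ => by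
      rcases H.val y r with e | e | e
      · have : g t r = 1 := by rw [H.symm t, ← H.eq4 e, h]
        simp [e, this]
      · simp [e]
      · simp [e]; ring
  simp only [sum_add_distrib, sum_sub_distrib, ← mul_sum, H.dot, H.sum, (H.cnt y).1, h] at e
  omega

omit [DecidableEq X] in
theorem val2 {y t r : X} (h : g y t = 1) (h' : g y r = -2) : g t r = 1 ∨ g t r = -2 := by
  rcases H.val t r with e | e
  · have := H.eq4 e y
    rw [H.symm t, H.symm r] at this
    omega
  · exact e

omit [DecidableEq X] in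
theorem F_diag {y t : X} (h : g y t = 1) : F g y t t = 36 := by
  have e : ∑ r, (if g y r = -2 then 1 else 0) * g t r * g t r =
      ∑ r, (2 * (if g y r = -2 then 1 else 0) - (if g y r = -2 then 1 else 0) * g t r) :=
    sum_congr rfl fun r _ => by
      split_ifs with e
      · rcases H.val2 h e with e | e <;> simp [e]
      · simp
  rw [F, e, sum_sub_distrib, ← mul_sum, H.sumY h, (H.cnt y).2.2, H.diag]
  rfl

omit [DecidableEq X] in
theorem F_zero {y t u : X} (h : g y t = 1) (h' : g y u ≠ 1) : F g y t u = 0 := by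
  rcases H.val y u with e | e | e
  · have e1 : ∑ r, (if g y r = -2 then 1 else 0) * g t r * g u r =
        ∑ r, -2 * ((if g y r = -2 then 1 else 0) * g t r) :=
      sum_congr rfl fun r _ => by
        rw [← H.eq4 e r]
        split_ifs with e <;> simp [e, mul_comm]
    rw [F, e1, ← mul_sum, H.sumY h, H.symm t, ← H.eq4 e, h]
    rfl
  · exact absurd e h'
  · have e1 : ∑ r, (if g y r = -2 then 1 else 0) * g t r * g u r =
        ∑ r, ((if g y r = -2 then 1 else 0) * g t r + 3 * g t u * (if g u r = 4 then 1 else 0)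
          + 3 * (1 + g t u) * (if g y r = -2 ∧ g u r = -2 then 1 else 0)) :=
      sum_congr rfl fun r _ => by
        rcases H.val u r with e' | e' | e'
        · have e1 : g y r = -2 := by rw [H.symm y, ← H.eq4 e', H.symm u, e]
          have e2 : g t r = g t u := by rw [H.symm t, ← H.eq4 e', H.symm u]
          simp [e', e1, e2]; ring
        · simp [e']
        · by_cases e1 : g y r = -2
          · have := H.tri e e1 e' t
            rw [h, H.symm u, H.symm r] at this
            simp [e', e1]; linarith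
          · simp [e', e1]
    rw [F, e1, sum_add_distrib, sum_add_distrib, ← mul_sum, ← mul_sum, H.sumY h, (H.cnt u).1,
      H.opp e]
    ring

omit [DecidableEq X] in
theorem F_dot (y t z : X) : ∑ u, F g y t u * g z u = 48 * F g y t z := by
  have e : ∀ u, F g y t u * g z u = 24 * (g t u * g z u) -
      ∑ r, (if g y r = -2 then 1 else 0) * g t r * (g r u * g z u) := fun u => by
    rw [F, sub_mul, sum_mul, mul_assoc]
    congr 1
    exact sum_congr rfl fun r _ => by rw [H.symm u r]; ring
  simp only [e, sum_sub_distrib, ← mul_sum, H.dot]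
  rw [sum_comm]
  simp only [← mul_sum, H.dot]
  rw [F, mul_sub, mul_sum]
  congr 1
  · ring
  · exact sum_congr rfl fun r _ => by rw [H.symm r z]; ring

omit [DecidableEq X] in
theorem F_sum (y t : X) : ∑ u, F g y t u = 0 := by
  simp only [F, sum_sub_distrib, ← mul_sum, H.sum]
  rw [sum_comm]
  have : ∀ r, ∑ u, g u r = 0 := fun r => by simp only [H.symm _ r, H.sum]
  simp only [← mul_sum, this]
  simp

omit [DecidableEq X] in
theorem FF {y t : X} (h : g y t = 1) (s : X) : ∑ u, F g y t u * F g y s u = 1152 * F g y t s := by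
  have e : ∀ u, F g y t u * F g y s u = 24 * (F g y t u * g s u) -
      ∑ r, (if g y r = -2 then 1 else 0) * g s r * (F g y t u * g r u) := fun u => by
    rw [show F g y s u = 24 * g s u - ∑ r, (if g y r = -2 then 1 else 0) * g s r * g u r from rfl,
      mul_sub, mul_sum]
    congr 1
    · ring
    · exact sum_congr rfl fun r _ => by rw [H.symm u r]; ring
  simp only [e, sum_sub_distrib, ← mul_sum, H.F_dot]
  rw [sum_comm]
  simp only [← mul_sum, H.F_dot]
  rw [sum_eq_zero]
  · ring
  · intro r _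
    split_ifs with e
    · rw [H.F_zero h (by omega)]; ring
    · ring

omit [DecidableEq X] in
theorem F_eq {y t s : X} (h : g y t = 1) (h' : g y s = 1) (ε : ℤ) (hε : ε * ε = 1) :
    ∑ u, (F g y t u - ε * F g y s u) ^ 2 = 2304 * (36 - ε * F g y t s) := by
  have : ∑ u, (F g y t u - ε * F g y s u) ^ 2 = ∑ u, (F g y t u * F g y t u +
      (ε * ε) * (F g y s u * F g y s u) - 2 * ε * (F g y t u * F g y s u)) :=
    sum_congr rfl fun t _ => by ring
  rw [this]
  simp only [sum_add_distrib, sum_sub_distrib, ← mul_sum, H.FF h, H.FF h', H.F_diag h, H.F_diag h', hε]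
  ring

omit [DecidableEq X] in
theorem F_bd {y t s : X} (h : g y t = 1) (h' : g y s = 1) : -36 ≤ F g y t s ∧ F g y t s ≤ 36 := by
  have a := H.F_eq h h' 1 rfl
  have b := H.F_eq h h' (-1) rfl
  have a' : 0 ≤ ∑ u, (F g y t u - 1 * F g y s u) ^ 2 := sum_nonneg fun _ _ => sq_nonneg _
  have b' : 0 ≤ ∑ u, (F g y t u - -1 * F g y s u) ^ 2 := sum_nonneg fun _ _ => sq_nonneg _
  omega

omit [DecidableEq X] in
theorem F_val {y t s : X} (h : g y t = 1) (h' : g y s = 1) : F g y t s = 36 ∨ F g y t s = -36 := by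
  have e : ∑ u, (1296 * (if g y u = 1 then 1 else 0) - F g y t u * F g y t u) = 0 := by
    rw [sum_sub_distrib, ← mul_sum, H.FF h, H.F_diag h, (H.cnt y).2.1]; rfl
  have := (sum_eq_zero_iff_of_nonneg (fun u _ => by
    split_ifs with e
    · have := H.F_bd h e
      nlinarith
    · rw [H.F_zero h e]; rfl)).1 e s (mem_univ _)
  rw [if_pos h'] at this
  have : (F g y t s - 36) * (F g y t s + 36) = 0 := by linarith
  rcases mul_eq_zero.1 this with e | e <;> omega

omit [DecidableEq X] in
theorem F_mul {y t s : X} (h : g y t = 1) (h' : g y s = 1) (u : X) :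
    36 * F g y t u = F g y t s * F g y s u := by
  rcases H.F_val h h' with e | e
  · have := sq_zero ((H.F_eq h h' 1 rfl).trans (by rw [e]; rfl)) u
    rw [e]; omega
  · have := sq_zero ((H.F_eq h h' (-1) rfl).trans (by rw [e]; rfl)) u
    rw [e]; omega

omit [DecidableEq X] in
theorem F_neg {y t s : X} (h : g y t = 1) (h' : g y s = 1) (e : g t s = -2) : F g y t s = -36 := by
  have : ∑ r, -2 * (if g y r = -2 then 1 else 0 : ℤ) ≤
      ∑ r, (if g y r = -2 then 1 else 0) * g t r * g s r := sum_le_sum fun r _ => by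
    split_ifs with e
    · rcases H.val2 h e with e1 | e1 <;> rcases H.val2 h' e with e2 | e2 <;> simp [e1, e2]
    · simp
  rw [← mul_sum, (H.cnt y).2.2] at this
  have h2 := H.F_val h h'
  rw [F, e] at h2 ⊢
  omega

omit [DecidableEq X] in
theorem F_cnt {y t : X} (h : g y t = 1) {c : ℤ} (hc : c = 36 ∨ c = -36) :
    ∑ u, (if F g y t u = c then 1 else 0 : ℤ) = 16 := by
  have e : ∑ u, 2592 * (if F g y t u = c then 1 else 0 : ℤ) =
      ∑ u, (1296 * (if g y u = 1 then 1 else 0) + c * F g y t u) := sum_congr rfl fun u _ => by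
    by_cases e : g y u = 1
    · rcases H.F_val h e with e' | e' <;> rcases hc with rfl | rfl <;> simp [e, e']
    · rcases hc with rfl | rfl <;> simp [e, H.F_zero h e]
  simp only [sum_add_distrib, ← mul_sum, H.F_sum, (H.cnt y).2.1] at e
  omega

omit H in
/-- the two stars -/
def star (g : X → X → ℤ) (y t : X) (c : ℤ) : Finset X := univ.filter fun u => g y u = 4 ∨ F g y t u = c

omit H [DecidableEq X] in
theorem mem_star {y t u : X} {c : ℤ} : u ∈ star g y t c ↔ g y u = 4 ∨ F g y t u = c := by
  simp [star]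

omit [DecidableEq X] in
theorem star_card {y t : X} (h : g y t = 1) {c : ℤ} (hc : c = 36 ∨ c = -36) :
    (star g y t c).card = 20 := by
  have : ((star g y t c).card : ℤ) =
      ∑ u, ((if g y u = 4 then 1 else 0) + (if F g y t u = c then 1 else 0)) := by
    rw [star, card_filter]
    push_cast
    refine sum_congr rfl fun u _ => ?_
    by_cases e : g y u = 4
    · have : F g y t u ≠ c := by rw [H.F_zero h (by omega)]; omega
      simp [e, this]
    · simp [e]
  rw [sum_add_distrib, (H.cnt y).1, H.F_cnt h hc] at this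
  omega

omit [DecidableEq X] in
theorem star_ne {y t : X} (h : g y t = 1) {c : ℤ} (hc : c = 36 ∨ c = -36) {u v : X}
    (hu : u ∈ star g y t c) (hv : v ∈ star g y t c) : g u v ≠ -2 := by
  have k : ∀ u, F g y t u = c → g y u = 1 := fun u e => by
    by_contra e'
    rw [H.F_zero h e'] at e
    omega
  rw [mem_star] at hu hv
  rcases hu with hu | hu
  · rw [← H.eq4 hu]
    rcases hv with hv | hv
    · omega
    · rw [k v hv]; norm_num
  rcases hv with hv | hv
  · rw [H.symm, ← H.eq4 hv, k u hu]; norm_num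
  · intro e
    have := H.F_mul h (k u hu) v
    rw [hu, hv, H.F_neg (k u hu) (k v hv) e] at this
    omega

theorem star_uniq {y t : X} (h : g y t = 1) {S : Finset X} (hS : S.card = 20) (hy : y ∈ S)
    (hs : ∀ z, ∑ u ∈ S, g z u = if z ∈ S then 32 else -16) :
    S = star g y t 36 ∨ S = star g y t (-36) := by
  have e0 : ∑ u, (3 * (if g y u = 4 then 1 else 0) + (if u ∈ S then 1 - g y u else 0)) = 0 := by
    rw [sum_add_distrib, ← mul_sum, (H.cnt y).1, ← sum_filter, filter_mem_eq_inter, univ_inter,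
      sum_sub_distrib, hs, if_pos hy]
    simp [hS]
  have e1 := fun u => (sum_eq_zero_iff_of_nonneg (fun u _ => by
    rcases H.val y u with e | e | e <;> split_ifs <;> omega)).1 e0 u (mem_univ _)
  have s4 : ∀ u, g y u = 4 → u ∈ S := fun u e => by
    have := e1 u
    by_contra e'
    simp [e, e'] at this
  have s2 : ∀ u ∈ S, g y u ≠ -2 := fun u e e' => by
    have := e1 u
    simp [e, e'] at this
  have c16 : ∑ u ∈ S, (if g y u = 1 then 1 else 0 : ℤ) = 16 := by
    have : ∑ u ∈ S, g y u = ∑ u ∈ S, (4 * 1 - 3 * (if g y u = 1 then 1 else 0 : ℤ)) :=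
      sum_congr rfl fun u hu => by
        have := s2 u hu
        rcases H.val y u with e | e | e <;> simp_all
    rw [hs, if_pos hy, sum_sub_distrib, ← mul_sum, ← mul_sum] at this
    simp only [sum_const, hS] at this
    norm_num at this ⊢
    omega
  obtain ⟨s, hsS, hs1⟩ : ∃ s ∈ S, g y s = 1 := by
    by_contra hn
    rw [sum_eq_zero (fun u hu => if_neg fun e => hn ⟨u, hu, e⟩)] at c16
    omega
  have e2 : ∑ u ∈ S, F g y s u = 576 := by
    simp only [F, sum_sub_distrib, ← mul_sum, hs, if_pos hsS]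
    rw [sum_comm, sum_congr rfl (g := fun r => -16 * ((if g y r = -2 then 1 else 0) * g s r)),
      ← mul_sum, H.sumY hs1]
    · rfl
    · intro r _
      simp only [← mul_sum, H.symm _ r, hs]
      by_cases e : g y r = -2
      · rw [if_neg (fun h => s2 r h e), H.symm r y]; ring
      · rw [H.symm r y, if_neg e]; ring
  have e3 : ∑ u ∈ S, (36 * (if g y u = 1 then 1 else 0) - F g y s u) = 0 := by
    rw [sum_sub_distrib, ← mul_sum, c16, e2]; rfl
  have e4 := (sum_eq_zero_iff_of_nonneg (fun u _ => by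
    split_ifs with e
    · have := H.F_bd hs1 e
      omega
    · rw [H.F_zero hs1 e]; rfl)).1 e3
  have key : ∀ c, c = 36 ∨ c = -36 → F g y t s = c → S = star g y t c := fun c hc e => by
    refine eq_of_subset_of_card_le (fun u hu => mem_star.2 ?_) (by rw [H.star_card h hc, hS])
    rcases H.val y u with e' | e' | e'
    · exact Or.inl e'
    · have a := e4 u hu
      have b := H.F_mul h hs1 u
      rw [if_pos e'] at a
      rw [e, show F g y s u = 36 by omega] at b
      right; omega
    · exact absurd e' (s2 u hu)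
  exact (H.F_val h hs1).imp (key _ (Or.inl rfl)) (key _ (Or.inr rfl))

theorem two (y : X) : ∃ S₁ S₂ : Finset X, S₁ ≠ S₂ ∧
    (∀ S, S = S₁ ∨ S = S₂ → S.card = 20 ∧ y ∈ S ∧ ∀ u ∈ S, ∀ v ∈ S, g u v ≠ -2) ∧
    ∀ S : Finset X, S.card = 20 → y ∈ S → (∀ z, ∑ u ∈ S, g z u = if z ∈ S then 32 else -16) →
      S = S₁ ∨ S = S₂ := by
  obtain ⟨t, h⟩ : ∃ t, g y t = 1 := by
    by_contra hn
    have := (H.cnt y).2.1
    rw [sum_eq_zero (fun u _ => if_neg fun e => hn ⟨u, e⟩)] at this
    omega
  refine ⟨star g y t 36, star g y t (-36), fun e => ?_, ?_, fun S a b c => H.star_uniq h a b c⟩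
  · have : t ∈ star g y t 36 := mem_star.2 (Or.inr (H.F_diag h))
    rw [e, mem_star, H.F_diag h] at this
    omega
  · rintro S (rfl | rfl)
    · exact ⟨H.star_card h (Or.inl rfl), mem_star.2 (Or.inl (H.diag y)),
        fun u hu v hv => H.star_ne h (Or.inl rfl) hu hv⟩
    · exact ⟨H.star_card h (Or.inr rfl), mem_star.2 (Or.inl (H.diag y)),
        fun u hu v hv => H.star_ne h (Or.inr rfl) hu hv⟩

end G60

end Cfsg.Agent.Stn
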