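import Cfsg.Agent.Stn.Srg2
import Cfsg.Agent.Stn.G60

set_option autoImplicit false

namespace Cfsg.Agent.Stn
open Finset Cfsg

section op
variable {V : Type*} [Fintype V] [DecidableEq V] (G : SimpleGraph V) [DecidableRel G.Adj]

/-- adjacency indicator -/
def ad (s t : V) : ℤ := if G.Adj s t then 1 else 0
/-- adjacency operator -/
def aT (f : V → ℤ) (t : V) : ℤ := ∑ s, ad G t s * f s

variable {G} {n k l m : ℕ}

omit [Fintype V] [DecidableEq V] in
theorem ad_comm (s t : V) : ad G s t = ad G t s := by simp only [ad, G.adj_comm]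
omit [Fintype V] [DecidableEq V] in
theorem ad_of {s t : V} (h : G.Adj s t) : ad G s t = 1 := if_pos h
omit [Fintype V] [DecidableEq V] in
theorem ad_not {s t : V} (h : ¬ G.Adj s t) : ad G s t = 0 := if_neg h
omit [Fintype V] [DecidableEq V] in
theorem ad_self (s : V) : ad G s s = 0 := ad_not G.irrefl
omit [Fintype V] [DecidableEq V] in
theorem ad_cases (s t : V) : ad G s t = 0 ∨ ad G s t = 1 := by
  unfold ad; split_ifs <;> simp

omit [DecidableEq V] in
theorem ad_sum (hG : G.IsSRGWith n k l m) (t : V) : ∑ s, ad G t s = k := by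
  rw [← srg_deg hG t, SimpleGraph.neighborFinset_eq_filter, card_filter]
  push_cast
  rfl

theorem ad_ad (hG : G.IsSRGWith n k l m) (t u : V) : ∑ s, ad G t s * ad G u s =
    (k - m : ℤ) * (if t = u then 1 else 0) + (l - m : ℤ) * ad G t u + m := by
  have e : ∑ s, ad G t s * ad G u s = (G.neighborFinset t ∩ G.neighborFinset u).card := by
    rw [show G.neighborFinset t ∩ G.neighborFinset u = univ.filter fun s => G.Adj t s ∧ G.Adj u s by
      ext; simp, card_filter]
    push_cast
    refine sum_congr rfl fun s _ => ?_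
    by_cases h1 : G.Adj t s <;> by_cases h2 : G.Adj u s <;> simp [ad, h1, h2]
  rw [e]
  split_ifs with h
  · rw [h, inter_self, srg_deg hG, ad_self]; ring
  · by_cases h' : G.Adj t u
    · rw [srg_lam hG h', ad_of h']; ring
    · rw [srg_mu hG h h', ad_not h']; ring

omit [DecidableEq V] in
theorem aT_symm (f g : V → ℤ) : ∑ t, f t * aT G g t = ∑ t, aT G f t * g t := by
  simp only [aT, mul_sum, sum_mul]
  rw [sum_comm]
  exact sum_congr rfl fun s _ => sum_congr rfl fun t _ => by rw [ad_comm t s]; ring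

omit [DecidableEq V] in
theorem aT_const (hG : G.IsSRGWith n k l m) (c : ℤ) (t : V) : aT G (fun _ => c) t = k * c := by
  rw [aT, ← sum_mul, ad_sum hG]

omit [DecidableEq V] in
theorem sum_aT (hG : G.IsSRGWith n k l m) (f : V → ℤ) : ∑ t, aT G f t = k * ∑ t, f t := by
  have := aT_symm (G := G) (fun _ => 1) f
  simp only [one_mul, aT_const hG, mul_one] at this
  rw [this, mul_sum]

theorem aT_aT (hG : G.IsSRGWith n k l m) (f : V → ℤ) (t : V) : aT G (aT G f) t =
    (k - m : ℤ) * f t + (l - m : ℤ) * aT G f t + m * ∑ u, f u := by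
  have : aT G (aT G f) t = ∑ u, (∑ s, ad G t s * ad G u s) * f u := by
    simp only [aT, mul_sum, sum_mul]
    rw [sum_comm]
    exact sum_congr rfl fun s _ => sum_congr rfl fun u _ => by rw [ad_comm u s]; ring
  rw [this]
  simp only [ad_ad hG, add_mul, sum_add_distrib, mul_assoc, ← mul_sum, ite_mul, one_mul, zero_mul,
    sum_ite_eq, mem_univ, if_true, aT]

omit [DecidableEq V] in
theorem aT_lin (a b c : ℤ) (f g h : V → ℤ) (t : V) :
    aT G (fun s => a * f s + b * g s + c * h s) t = a * aT G f t + b * aT G g t + c * aT G h t := by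
  simp only [aT, mul_sum, ← sum_add_distrib]
  exact sum_congr rfl fun s _ => by ring

theorem aT_delta (y t : V) : aT G (fun s => if s = y then 1 else 0) t = ad G t y := by
  simp [aT]

end op

section s77
variable {V : Type*} [Fintype V] [DecidableEq V] (G : SimpleGraph V) [DecidableRel G.Adj]

/-- coefficient vector -/
def cv (x y t : V) : ℤ :=
  6 * (if t = y then 1 else 0) + 3 * (ad G x t * ad G y t) + 4 * (if t = x then 1 else 0)
/-- eigenvector -/
def om (x y t : V) : ℤ := 2 * cv G x y t + (-1) * aT G (cv G x y) t + 4 * 1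

variable {G} (hG : G.IsSRGWith 77 16 0 4) {x y : V}
include hG

theorem sum_cv (hy : y ∈ far G x) : ∑ t, cv G x y t = 22 := by
  rw [mem_far] at hy
  simp only [cv, sum_add_distrib, ← mul_sum, ad_ad hG, sum_ite_eq', mem_univ, if_true,
    if_neg hy.1.symm, ad_not hy.2]
  norm_num

theorem om_eig (hy : y ∈ far G x) (t : V) : aT G (om G x y) t = -6 * om G x y t := by
  have := aT_lin (G := G) 2 (-1) 4 (cv G x y) (aT G (cv G x y)) (fun _ => 1) t
  rw [aT_aT hG, sum_cv hG hy, aT_const hG] at this
  rw [show om G x y = fun s => 2 * cv G x y s + (-1) * aT G (cv G x y) s + 4 * 1 from rfl, this]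
  push_cast
  ring

theorem om_sum (hy : y ∈ far G x) : ∑ t, om G x y t = 0 := by
  have := sum_aT hG (om G x y)
  simp only [om_eig hG hy, ← mul_sum] at this
  omega

theorem om_dot (hy : y ∈ far G x) {f : V → ℤ} {c : ℤ} (hf : ∀ t, aT G f t = -6 * f t + c) :
    ∑ t, om G x y t * f t = 48 * f y + 24 * ∑ t, ad G x t * ad G y t * f t + 32 * f x - 22 * c +
      4 * ∑ t, f t := by
  have e1 : ∑ t, om G x y t * f t =
      ∑ t, (2 * (cv G x y t * f t) - aT G (cv G x y) t * f t + 4 * f t) :=
    sum_congr rfl fun t _ => by rw [om]; ring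
  have e2 : ∑ t, cv G x y t * aT G f t = ∑ t, (-6 * (cv G x y t * f t) + c * cv G x y t) :=
    sum_congr rfl fun t _ => by rw [hf]; ring
  have e3 : ∑ t, cv G x y t * f t = ∑ t, (6 * (if t = y then f t else 0) +
      3 * (ad G x t * ad G y t * f t) + 4 * (if t = x then f t else 0)) :=
    sum_congr rfl fun t _ => by rw [cv]; split_ifs <;> ring
  simp only [sum_add_distrib, sum_sub_distrib, ← mul_sum, ← aT_symm, e2, sum_cv hG hy,
    sum_ite_eq', mem_univ, if_true] at e1 e3
  rw [e1, e3]
  ring

omit hG in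
theorem om_form (t : V) : om G x y t = 12 * (if t = y then 1 else 0) + 6 * (ad G x t * ad G y t) +
    8 * (if t = x then 1 else 0) - 6 * ad G t y - 3 * ∑ s, ad G x s * (ad G t s * ad G y s)
      - 4 * ad G t x + 4 := by
  have := aT_lin (G := G) 6 3 4 (fun t => if t = y then 1 else 0) (fun t => ad G x t * ad G y t)
    (fun t => if t = x then 1 else 0) t
  rw [aT_delta, aT_delta] at this
  rw [om, show cv G x y = fun t => 6 * (if t = y then 1 else 0) + 3 * (ad G x t * ad G y t) +
    4 * (if t = x then 1 else 0) from rfl, this, aT,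
    sum_congr rfl (g := fun s => ad G x s * (ad G t s * ad G y s)) fun s _ => by ring]
  ring

theorem ad_tri {t : V} (h : G.Adj x t) (s : V) : ad G x s * ad G t s = 0 := by
  by_cases h1 : G.Adj x s
  · rw [ad_not (srg_tri hG h h1), mul_zero]
  · rw [ad_not h1, zero_mul]

theorem om_x (hy : y ∈ far G x) : om G x y x = 0 := by
  rw [mem_far] at hy
  have : ∑ s, ad G x s * (ad G x s * ad G y s) = ∑ s, ad G x s * ad G y s :=
    sum_congr rfl fun s _ => by rcases ad_cases (G := G) x s with h | h <;> simp [h]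
  rw [om_form, this, ad_ad hG, if_neg hy.1.symm, ad_not hy.2, ad_self]
  norm_num

theorem om_adj (hy : y ∈ far G x) {t : V} (h : G.Adj x t) : om G x y t = 0 := by
  rw [mem_far] at hy
  rw [om_form, sum_eq_zero (fun s _ => by rw [← mul_assoc, ad_tri hG h, zero_mul]), if_neg h.ne',
    if_neg (fun e : t = y => hy.2 (e ▸ h)), ad_of h, ad_of h.symm, ad_comm y t]
  ring

omit hG in
theorem om_far {t : V} (ht : t ∈ far G x) : om G x y t = 12 * (if t = y then 1 else 0)
    - 6 * ad G t y - 3 * ∑ s, ad G x s * (ad G t s * ad G y s) + 4 := by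
  rw [mem_far] at ht
  rw [om_form, if_neg ht.1, ad_comm t x, ad_not ht.2]
  ring

theorem om_nbr {t : V} (ht : t ∈ far G x) (h : G.Adj y t) : om G x y t = -2 := by
  rw [om_far ht, if_neg h.ne', ad_of h.symm,
    sum_eq_zero (fun s _ => by rw [mul_comm (ad G t s), ad_tri hG h, mul_zero])]
  norm_num

theorem sum_far (hy : y ∈ far G x) (f : V → ℤ) :
    ∑ t : far G x, om G x y t * f t = ∑ t, om G x y t * f t := by
  rw [sum_coe_sort (far G x) (fun t => om G x y t * f t)]
  refine sum_subset (subset_univ _) fun t _ ht => ?_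
  rw [mem_far, not_and_or, not_not, not_not] at ht
  rcases ht with rfl | ht
  · rw [om_x hG hy, zero_mul]
  · rw [om_adj hG hy ht, zero_mul]

theorem g60 (x : V) : G60 (fun y t : far G x => om G x y t) := by
  have sy : ∀ y z : far G x, om G x y z = om G x z y := fun y z => by
    rw [om_far y.2, om_far z.2, ad_comm (y : V) z]
    simp only [eq_comm (a := (y : V)), mul_comm (ad G (y : V) _)]
  have dg : ∀ y : far G x, om G x y y = 4 := fun y => by
    have hy := mem_far.1 y.2
    have : ∑ s, ad G x s * (ad G y s * ad G y s) = ∑ s, ad G x s * ad G y s :=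
      sum_congr rfl fun s _ => by rcases ad_cases (G := G) y s with h | h <;> simp [h]
    rw [om_far y.2, this, ad_ad hG, if_neg hy.1.symm, ad_not hy.2, ad_self]
    norm_num
  have dt : ∀ y z : far G x, ∑ t : far G x, om G x y t * om G x z t = 48 * om G x y z := fun y z => by
    rw [sum_far hG y.2, om_dot hG y.2 (c := 0) (fun t => by rw [om_eig hG z.2, add_zero]),
      om_x hG z.2, om_sum hG z.2, sum_eq_zero, sy]
    · ring
    · intro t _
      by_cases h : G.Adj x t
      · rw [om_adj hG z.2 h, mul_zero]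
      · rw [ad_not h, zero_mul, zero_mul]
  refine ⟨?_, sy, dg, fun y z => ?_, fun y => ?_, dt⟩
  · have := card_far hG x
    rw [Fintype.card_coe]; omega
  · by_cases e : (z : V) = y
    · rw [e]; exact Or.inl (dg y)
    by_cases h : G.Adj y z
    · exact Or.inr (Or.inr (om_nbr hG z.2 h))
    have h1 : ∑ t : far G x, (om G x y t + om G x z t) ^ 2 = ∑ t : far G x,
        (om G x y t * om G x y t + om G x z t * om G x z t + 2 * (om G x y t * om G x z t)) :=
      sum_congr rfl fun t _ => by ring
    have h2 : 0 ≤ ∑ t : far G x, (om G x y t + om G x z t) ^ 2 := sum_nonneg fun _ _ => sq_nonneg _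
    simp only [sum_add_distrib, ← mul_sum, dt, dg] at h1
    have h3 : 0 ≤ ∑ s, ad G x s * (ad G z s * ad G y s) := sum_nonneg fun s _ => by
      rcases ad_cases (G := G) x s with h | h <;> rcases ad_cases (G := G) y s with h' | h' <;>
        rcases ad_cases (G := G) z s with h'' | h'' <;> simp [h, h', h'']
    have h4 := om_far (G := G) (y := y) z.2
    rw [if_neg e, ad_not (fun h' => h h'.symm)] at h4
    omega
  · have := sum_far hG y.2 (fun _ => 1)
    simp only [mul_one, om_sum hG y.2] at this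
    exact this

omit hG in
/-- cocliques of size 21 -/
def coc (G : SimpleGraph V) [DecidableRel G.Adj] : Finset (Finset V) :=
  univ.filter fun S => S.card = 21 ∧ ∀ u ∈ S, ∀ v ∈ S, ¬ G.Adj u v

omit hG in
theorem mem_coc {S : Finset V} : S ∈ coc G ↔ S.card = 21 ∧ ∀ u ∈ S, ∀ v ∈ S, ¬ G.Adj u v := by
  simp [coc]

theorem hoffman {S : Finset V} (hS : S ∈ coc G) (t : V) :
    aT G (fun s => if s ∈ S then 1 else 0) t = -6 * (if t ∈ S then 1 else 0) + 6 := by
  rw [mem_coc] at hS
  set χ : V → ℤ := fun s => if s ∈ S then 1 else 0 with hχ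
  have s1 : ∑ s, χ s = 21 := by simp [χ, hS.1]
  have s2 : ∀ s, χ s * χ s = χ s := fun s => by simp only [χ]; split_ifs <;> simp
  have s3 : ∀ s, χ s * aT G χ s = 0 := fun s => by
    simp only [χ]
    split_ifs with h
    · rw [one_mul, aT]
      refine sum_eq_zero fun u _ => ?_
      split_ifs with h'
      · rw [ad_not (hS.2 s h u h'), zero_mul]
      · rw [mul_zero]
    · rw [zero_mul]
  have s4 : ∑ s, aT G χ s * aT G χ s = ∑ s, (12 * χ s + 84 * χ s) := by
    rw [← aT_symm]
    refine sum_congr rfl fun s _ => ?_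
    rw [aT_aT hG, s1]
    push_cast
    linear_combination 12 * s2 s - 4 * s3 s
  have s5 : ∑ s, (aT G χ s + 6 * χ s - 6) ^ 2 =
      ∑ s, (aT G χ s * aT G χ s - 12 * aT G χ s - 36 * χ s + 36 * 1) :=
    sum_congr rfl fun s _ => by linear_combination 36 * s2 s + 12 * s3 s
  simp only [sum_add_distrib, sum_sub_distrib, ← mul_sum, s4, s1, sum_aT hG, sum_const, card_univ,
    hG.card] at s5
  have := sq_zero (s5.trans (by norm_num)) t
  show aT G χ t = -6 * χ t + 6
  omega

theorem coc_two (hy : y ∈ far G x) : ((coc G).filter fun S => x ∈ S ∧ y ∈ S).card = 2 := by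
  obtain ⟨S₁, S₂, hne, h1, h2⟩ := (g60 hG x).two ⟨y, hy⟩
  let Φ : Finset (far G x) → Finset V := fun S => insert x (S.map (Function.Embedding.subtype _))
  have mΦ : ∀ S (t : far G x), (t : V) ∈ Φ S ↔ t ∈ S := fun S t => by
    have := (mem_far.1 t.2).1
    simp [Φ, this]
  have mΦ' : ∀ S t, t ∈ Φ S ↔ t = x ∨ ∃ h : t ∈ far G x, ⟨t, h⟩ ∈ S := fun S t => by simp [Φ]
  have inj : Function.Injective Φ := fun S S' h => by ext t; rw [← mΦ, h, mΦ]
  have a : ∀ S, S = S₁ ∨ S = S₂ → Φ S ∈ (coc G).filter fun S => x ∈ S ∧ y ∈ S := fun S hS => by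
    obtain ⟨c, hyS, hg⟩ := h1 S hS
    refine mem_filter.2 ⟨mem_coc.2 ⟨?_, fun u hu v hv h => ?_⟩, mem_insert_self _ _,
      (mΦ S ⟨y, hy⟩).2 hyS⟩
    · rw [card_insert_of_notMem (by simp [mem_far]), card_map, c]
    · rcases (mΦ' S u).1 hu with rfl | ⟨hu', hu⟩
      · rcases (mΦ' S v).1 hv with rfl | ⟨hv', -⟩
        · exact h.ne rfl
        · exact (mem_far.1 hv').2 h
      · rcases (mΦ' S v).1 hv with rfl | ⟨hv', hv⟩
        · exact (mem_far.1 hu').2 h.symm
        · exact hg _ hu _ hv (om_nbr hG hv' h)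
  rw [← card_pair (inj.ne hne)]
  congr 1
  ext T
  rw [mem_insert, mem_singleton]
  refine ⟨fun hT => ?_, fun h => h.elim (fun e => e ▸ a _ (Or.inl rfl)) (fun e => e ▸ a _ (Or.inr rfl))⟩
  obtain ⟨hT, hx, hyT⟩ := mem_filter.1 hT
  have hT' := mem_coc.1 hT
  let S : Finset (far G x) := univ.filter fun t => (t : V) ∈ T
  have mS : ∀ t, t ∈ S ↔ (t : V) ∈ T := fun t => by simp [S]
  have e : Φ S = T := by
    ext t
    rw [mΦ']
    refine ⟨fun h => h.elim (fun e => e ▸ hx) (fun ⟨_, h⟩ => (mS _).1 h), fun h => ?_⟩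
    by_cases e : t = x
    · exact Or.inl e
    · exact Or.inr ⟨mem_far.2 ⟨e, hT'.2 x hx t h⟩, (mS _).2 h⟩
  have c : S.card = 20 := by
    have := hT'.1
    rw [← e, card_insert_of_notMem (by simp [mem_far]), card_map] at this
    omega
  refine (h2 S c ((mS _).2 hyT) fun z => ?_).imp (fun h => by rw [← e, h]) (fun h => by rw [← e, h])
  have e1 := om_dot hG z.2 (hoffman hG hT)
  rw [← sum_far hG z.2, sum_eq_zero (s := univ) (f := fun t => ad G x t * ad G z t * _) (fun t _ => by
    split_ifs with h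
    · rw [ad_not (hT'.2 x hx t h), zero_mul, zero_mul]
    · rw [mul_zero]), if_pos hx] at e1
  simp only [mul_ite, mul_one, mul_zero, ← sum_filter, sum_const, filter_mem_eq_inter, univ_inter,
    hT'.1] at e1
  rw [show ∑ u ∈ S, om G x z u = _ from e1]
  simp only [mS]
  split_ifs <;> norm_num

theorem coc_adj (h : G.Adj x y) : ((coc G).filter fun S => x ∈ S ∧ y ∈ S).card = 0 := by
  rw [card_eq_zero, filter_eq_empty_iff]
  exact fun S hS h' => (mem_coc.1 hS).2 x h'.1 y h'.2 h

theorem coc_six (x : V) : ((coc G).filter (x ∈ ·)).card = 6 := by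
  have := sum_inter ((coc G).filter (x ∈ ·)) (far G x)
  rw [sum_congr rfl (g := fun _ => 20), sum_congr (s₁ := far G x) rfl (g := fun _ => 2), sum_const,
    sum_const] at this
  · have h := card_far hG x
    simp only [smul_eq_mul] at this
    omega
  · intro y hy
    rw [filter_filter, coc_two hG hy]
  · intro S hS
    obtain ⟨hS, hx⟩ := mem_filter.1 hS
    rw [mem_coc] at hS
    have : far G x ∩ S = S.erase x := by
      ext t
      simp only [mem_inter, mem_far, mem_erase]
      exact ⟨fun h => ⟨h.1.1, h.2⟩, fun h => ⟨⟨h.1, hS.2 x hx t h.2⟩, h.2⟩⟩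
    rw [this, card_erase_of_mem hx, hS.1]

theorem coc_card : (coc G).card = 22 := by
  have := sum_inter (coc G) univ
  rw [sum_congr rfl (g := fun _ => 21), sum_congr (s₁ := univ) rfl (g := fun _ => 6), sum_const, sum_const,
    card_univ, hG.card] at this
  · simp only [smul_eq_mul] at this
    omega
  · exact fun x _ => coc_six hG x
  · exact fun S hS => by rw [univ_inter, (mem_coc.1 hS).1]

theorem exists_bg : ∃ B : Set (Finset (coc G)), IsSteinerSystem 3 6 B ∧
    Fintype.card (coc G) = 22 ∧ Nonempty (G ≃g blockGraph B) := by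
  let β : V → Finset (coc G) := fun w => univ.filter fun S => w ∈ (S : Finset V)
  have cβ : ∀ w x, (β w ∩ β x).card = ((coc G).filter fun S => w ∈ S ∧ x ∈ S).card := fun w x => by
    rw [← card_map (Function.Embedding.subtype _)]
    congr 1
    ext a
    simp only [β, mem_map, mem_inter, mem_filter, mem_univ, true_and, Function.Embedding.coe_subtype,
      Subtype.exists, exists_and_right, exists_eq_right, exists_prop]
    tauto
  have c6 : ∀ w, (β w).card = 6 := fun w => by
    rw [← inter_self (β w), cβ, ← coc_six hG w]; simp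
  have c3 : ∀ w x, x ≠ w → (β w ∩ β x).card < 3 := fun w x h => by
    by_cases h' : G.Adj w x
    · rw [cβ, coc_adj hG h']; norm_num
    · rw [cβ, coc_two hG (mem_far.2 ⟨h, h'⟩)]; norm_num
  have inj : Function.Injective β := fun w x h => by
    by_contra hne
    have := c3 w x (Ne.symm hne)
    rw [← h, inter_self, c6 w] at this
    omega
  have h22 : Fintype.card (coc G) = 22 := by rw [Fintype.card_coe, coc_card hG]
  have hB : IsSteinerSystem 3 6 ((univ.image β : Finset _) : Set (Finset (coc G))) := by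
    refine steiner_of_count _ (fun b hb => ?_) (fun b hb c hc h => ?_) ?_
    · obtain ⟨w, -, rfl⟩ := mem_image.1 hb
      exact c6 w
    · obtain ⟨w, -, rfl⟩ := mem_image.1 hb
      obtain ⟨x, -, rfl⟩ := mem_image.1 hc
      exact c3 w x (fun e => h (by rw [e]))
    · rw [card_image_of_injective _ inj, h22, card_univ, hG.card]
      decide
  refine ⟨_, hB, h22, ⟨⟨Equiv.ofBijective (fun w => ⟨β w, mem_image_of_mem β (mem_univ w)⟩)
    ⟨fun w x h => inj (congrArg Subtype.val h), fun b => ?_⟩, ?_⟩⟩⟩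
  · obtain ⟨w, -, h⟩ := mem_image.1 b.2
    exact ⟨w, Subtype.ext h⟩
  · intro w x
    rw [bg_adj hB]
    show Disjoint (β w) (β x) ↔ _
    rw [disjoint_iff_inter_eq_empty, ← card_eq_zero]
    refine ⟨fun h => ?_, fun h => by rw [cβ, coc_adj hG h]⟩
    by_contra h'
    by_cases e : x = w
    · rw [e, inter_self, c6] at h
      omega
    · rw [cβ, coc_two hG (mem_far.2 ⟨e, h'⟩)] at h
      omega

end s77

/-- isomorphism of block graphs induced by an isomorphism of designs -/
def bgIso {α β : Type*} {B : Set (Finset α)} {B' : Set (Finset β)} (e : α ≃ β)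
    (h : ∀ b, b ∈ B ↔ b.map e.toEmbedding ∈ B') : blockGraph B ≃g blockGraph B' where
  toEquiv := (Equiv.finsetCongr e).subtypeEquiv h
  map_rel_iff' := by
    intro x y
    have k : ∀ x y : B, Disjoint (((Equiv.finsetCongr e).subtypeEquiv h x : B') : Finset β)
        (((Equiv.finsetCongr e).subtypeEquiv h y : B') : Finset β) ↔
        Disjoint (x : Finset α) (y : Finset α) := fun x y => disjoint_map e.toEmbedding
    simp only [blockGraph, SimpleGraph.fromRel_adj, k, ne_eq, EmbeddingLike.apply_eq_iff_eq]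

theorem srg77_iso {V W : Type*} [Fintype V] [Fintype W] {G : SimpleGraph V} {H : SimpleGraph W}
    [DecidableRel G.Adj] [DecidableRel H.Adj] (hG : G.IsSRGWith 77 16 0 4)
    (hH : H.IsSRGWith 77 16 0 4) : Nonempty (G ≃g H) := by
  classical
  obtain ⟨B, hB, c, ⟨φ⟩⟩ := exists_bg hG
  obtain ⟨B', hB', c', ⟨φ'⟩⟩ := exists_bg hH
  obtain ⟨j, hj⟩ := model22 c hB
  obtain ⟨j', hj'⟩ := model22 c' hB'
  obtain ⟨e, -, he⟩ := hj.exists_equiv hj'
  exact ⟨(φ.trans (bgIso e he)).trans φ'.symm⟩

end Cfsg.Agent.Stn
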