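import Cfsg.Agent.Stn.Srg

set_option autoImplicit false

namespace Cfsg.Agent.Stn
open Finset Cfsg
open scoped Pointwise

theorem steiner_of_count {α : Type*} [Fintype α] [DecidableEq α] {t k : ℕ} (C : Finset (Finset α))
    (h1 : ∀ b ∈ C, b.card = k) (h2 : ∀ b ∈ C, ∀ c ∈ C, b ≠ c → (b ∩ c).card < t)
    (h3 : C.card * k.choose t = (Fintype.card α).choose t) :
    IsSteinerSystem t k (C : Set (Finset α)) := by
  have hu : ∀ s : Finset α, s.card = t → ∀ b ∈ C, ∀ c ∈ C, s ⊆ b → s ⊆ c → b = c := by
    intro s hs b hb c hc sb sc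
    by_contra h
    have := h2 b hb c hc h
    have := card_le_card (subset_inter sb sc)
    omega
  have e : C.biUnion (powersetCard t ·) = powersetCard t univ := by
    apply eq_of_subset_of_card_le
    · intro s hs
      obtain ⟨b, -, h⟩ := mem_biUnion.1 hs
      exact mem_powersetCard.2 ⟨subset_univ _, (mem_powersetCard.1 h).2⟩
    · rw [card_biUnion, card_powersetCard, card_univ, ← h3,
        sum_congr rfl (g := fun _ => k.choose t) (fun b hb => by rw [card_powersetCard, h1 b hb])]
      · simp
      · intro b hb c hc h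
        refine disjoint_left.2 fun s sb sc => h ?_
        rw [mem_powersetCard] at sb sc
        exact hu s sb.2 b hb c hc sb.1 sc.1
  refine ⟨h1, fun s hs => ?_⟩
  have : s ∈ C.biUnion (powersetCard t ·) := e ▸ mem_powersetCard.2 ⟨subset_univ _, hs⟩
  obtain ⟨b, hb, h⟩ := mem_biUnion.1 this
  exact ⟨b, ⟨hb, (mem_powersetCard.1 h).1⟩, fun c hc =>
    hu s hs c hc.1 b hb hc.2 (mem_powersetCard.1 h).1⟩

section gen
variable {V : Type*} [Fintype V] [DecidableEq V] {G : SimpleGraph V} [DecidableRel G.Adj]
  {n k l m : ℕ}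

theorem cn_fin (v w : V) :
    Fintype.card (G.commonNeighbors v w) = (G.neighborFinset v ∩ G.neighborFinset w).card := by
  rw [cn_eq, ← Set.ncard_coe_finset]; congr 1; ext; simp

omit [DecidableEq V] in
theorem srg_deg (hG : G.IsSRGWith n k l m) (x : V) : (G.neighborFinset x).card = k := hG.regular x

theorem srg_lam (hG : G.IsSRGWith n k l m) {x y : V} (h : G.Adj x y) :
    (G.neighborFinset x ∩ G.neighborFinset y).card = l := by
  rw [← cn_fin]; exact hG.of_adj x y h

theorem srg_mu (hG : G.IsSRGWith n k l m) {x y : V} (h' : x ≠ y) (h : ¬ G.Adj x y) :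
    (G.neighborFinset x ∩ G.neighborFinset y).card = m := by
  rw [← cn_fin]; exact hG.of_not_adj h' h

theorem srg_tri (hG : G.IsSRGWith n k 0 m) {x y z : V} (h : G.Adj x y) (h1 : G.Adj x z)
    (h2 : G.Adj y z) : False := by
  have := card_eq_zero.1 (srg_lam hG h)
  have h3 : z ∈ G.neighborFinset x ∩ G.neighborFinset y := by simp [h1, h2]
  rw [this] at h3
  simp at h3

/-- the vertices at distance two -/
def far (G : SimpleGraph V) [DecidableRel G.Adj] (v : V) : Finset V :=
  univ.filter fun w => w ≠ v ∧ ¬ G.Adj v w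

theorem mem_far {v w : V} : w ∈ far G v ↔ w ≠ v ∧ ¬ G.Adj v w := by simp [far]

theorem card_far (hG : G.IsSRGWith n k l m) (v : V) : (far G v).card + k + 1 = n := by
  have e : far G v = (insert v (G.neighborFinset v))ᶜ := by
    ext w; simp [mem_far]
  have := card_add_card_compl (insert v (G.neighborFinset v))
  rw [card_insert_of_notMem (by simp), srg_deg hG, hG.card] at this
  rw [e]; omega

theorem far_common (hG : G.IsSRGWith n k 0 m) {v a b : V} (ha : G.Adj v a) (hb : G.Adj v b) :
    ((far G v).filter (fun w => G.Adj w a ∧ G.Adj w b)).card + 1 = if a = b then k else m := by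
  have e : (far G v).filter (fun w => G.Adj w a ∧ G.Adj w b) =
      (G.neighborFinset a ∩ G.neighborFinset b).erase v := by
    ext w
    simp only [mem_filter, mem_far, mem_erase, mem_inter, SimpleGraph.mem_neighborFinset]
    exact ⟨fun h => ⟨h.1.1, h.2.1.symm, h.2.2.symm⟩, fun h =>
      ⟨⟨h.1, fun h' => srg_tri hG ha h' h.2.1⟩, h.2.1.symm, h.2.2.symm⟩⟩
  rw [e, card_erase_add_one (by simp [ha.symm, hb.symm])]
  split_ifs with h
  · rw [h, inter_self, srg_deg hG]
  · exact srg_mu hG h (fun h' => srg_tri hG ha hb h')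

theorem far_deg (hG : G.IsSRGWith n k 0 m) {v w : V} (hw : w ∈ far G v) :
    ((far G v).filter (G.Adj w ·)).card + m = k := by
  rw [mem_far] at hw
  have h1 := srg_mu hG hw.1.symm hw.2
  have h2 := card_filter_add_card_filter_not (s := G.neighborFinset w) (G.Adj v ·)
  rw [srg_deg hG] at h2
  have e1 : (G.neighborFinset w).filter (G.Adj v ·) = G.neighborFinset v ∩ G.neighborFinset w := by
    ext x; simp [and_comm]
  have e2 : (G.neighborFinset w).filter (fun x => ¬ G.Adj v x) = (far G v).filter (G.Adj w ·) := by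
    ext x
    simp only [mem_filter, mem_far, SimpleGraph.mem_neighborFinset]
    exact ⟨fun h => ⟨⟨fun e => hw.2 (e ▸ h.1.symm), h.2⟩, h.1⟩, fun h => ⟨h.2, h.1.2⟩⟩
  rw [e1, e2, h1] at h2
  omega

omit [Fintype V] [DecidableEq V] in
theorem sum_card_filter (S T : Finset V) :
    ∑ w ∈ S, (T.filter (G.Adj w ·)).card = ∑ a ∈ T, (S.filter (G.Adj · a)).card := by
  simp only [card_filter]
  exact sum_comm

omit [Fintype V] [DecidableEq V] in
theorem sum_card_filter_sq (S T : Finset V) :
    ∑ w ∈ S, (T.filter (G.Adj w ·)).card ^ 2 =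
      ∑ a ∈ T, ∑ b ∈ T, (S.filter (fun w => G.Adj w a ∧ G.Adj w b)).card := by
  simp only [card_filter, sq, sum_mul_sum]
  rw [sum_comm]
  refine sum_congr rfl fun a _ => ?_
  rw [sum_comm]
  refine sum_congr rfl fun b _ => sum_congr rfl fun w _ => ?_
  by_cases h1 : G.Adj w a <;> by_cases h2 : G.Adj w b <;> simp [h1, h2]

theorem meet_two (hG : G.IsSRGWith 100 22 0 6) {v w x : V} (hw : w ∈ far G v) (hx : x ∈ far G v)
    (hne : x ≠ w) (hn : ¬ G.Adj w x) :
    ((G.neighborFinset v ∩ G.neighborFinset w).filter (G.Adj x ·)).card = 2 := by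
  set T := G.neighborFinset v ∩ G.neighborFinset w with hT
  have hw' := mem_far.1 hw
  have cT : T.card = 6 := srg_mu hG hw'.1.symm hw'.2
  have hTv : ∀ a ∈ T, G.Adj v a := fun a ha => by simpa using (mem_inter.1 ha).1
  have hTw : ∀ a ∈ T, G.Adj w a := fun a ha => by simpa using (mem_inter.1 ha).2
  have c77 := card_far hG v
  have s1 : ∑ y ∈ far G v, (T.filter (G.Adj y ·)).card = 126 := by
    rw [sum_card_filter, sum_congr rfl (g := fun _ => 21), sum_const, cT]
    · rfl
    · intro a ha
      have := far_common hG (hTv a ha) (hTv a ha)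
      simp only [and_self, if_true] at this
      omega
  have s2 : ∑ y ∈ far G v, (T.filter (G.Adj y ·)).card ^ 2 = 276 := by
    rw [sum_card_filter_sq, sum_congr rfl (g := fun _ => 46), sum_const, cT]
    · rfl
    · intro a ha
      rw [← add_sum_erase _ _ ha, sum_congr rfl (g := fun _ => 5), sum_const,
        card_erase_of_mem ha, cT]
      · have := far_common hG (hTv a ha) (hTv a ha)
        rw [if_pos rfl] at this
        simp only [smul_eq_mul]
        omega
      · intro b hb
        have := far_common hG (hTv a ha) (hTv b (mem_of_mem_erase hb))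
        rw [if_neg (ne_of_mem_erase hb).symm] at this
        omega
  have s3 : ∑ y ∈ far G v, (((T.filter (G.Adj y ·)).card : ℤ) - 2) ^ 2 = 80 := by
    have e : ∀ i : ℤ, (i - 2) ^ 2 = i ^ 2 - 4 * i + 4 := fun i => by ring
    simp only [e, sum_add_distrib, sum_sub_distrib, ← mul_sum, sum_const]
    have s1' := congrArg (Nat.cast (R := ℤ)) s1
    have s2' := congrArg (Nat.cast (R := ℤ)) s2
    push_cast at s1' s2'
    rw [s1', s2', show (far G v).card = 77 by omega]
    norm_num
  have d16 := far_deg hG hw
  have s4 : ∑ y ∈ insert x (insert w ((far G v).filter (G.Adj w ·))),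
      (((T.filter (G.Adj y ·)).card : ℤ) - 2) ^ 2 ≤ 80 := by
    rw [← s3]
    refine sum_le_sum_of_subset_of_nonneg ?_ (fun _ _ _ => sq_nonneg _)
    exact insert_subset hx (insert_subset hw (filter_subset _ _))
  rw [sum_insert (by simp [hne, hn]), sum_insert (by simp), filter_true_of_mem hTw, cT,
    sum_congr rfl (g := fun _ => 4), sum_const,
    show ((far G v).filter (G.Adj w ·)).card = 16 by omega] at s4
  · have : (((T.filter (G.Adj x ·)).card : ℤ) - 2) ^ 2 ≤ 0 := by
      norm_num at s4 ⊢; linarith
    have := pow_eq_zero_iff (two_ne_zero) |>.1 (le_antisymm this (sq_nonneg _))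
    omega
  · intro y hy
    rw [filter_false_of_mem]
    · norm_num
    · exact fun a ha h => srg_tri hG (mem_filter.1 hy).2 (hTw a ha) h

theorem exists_pbg (hG : G.IsSRGWith 100 22 0 6) (v : V) :
    ∃ B : Set (Finset {a // G.Adj v a}), IsSteinerSystem 3 6 B ∧
      Fintype.card {a // G.Adj v a} = 22 ∧ ∃ φ : pointBlockGraph B ≃g G, φ none = v := by
  let β : V → Finset {a // G.Adj v a} := fun w => univ.filter fun a => G.Adj w a
  have hβ : ∀ w a, a ∈ β w ↔ G.Adj w a := fun w a => by simp [β]
  have cβ : ∀ w x, (β w ∩ β x).card =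
      ((G.neighborFinset v ∩ G.neighborFinset w).filter (G.Adj x ·)).card := fun w x => by
    rw [← card_map (Function.Embedding.subtype _)]
    congr 1
    ext a
    simp only [mem_map, mem_inter, hβ, Function.Embedding.coe_subtype, Subtype.exists,
      exists_and_right, exists_eq_right, mem_filter, SimpleGraph.mem_neighborFinset, exists_prop]
  have c6 : ∀ w ∈ far G v, (β w).card = 6 := fun w hw => by
    have hw' := mem_far.1 hw
    rw [← inter_self (β w), cβ, filter_true_of_mem, srg_mu hG hw'.1.symm hw'.2]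
    exact fun a ha => by simpa using (mem_inter.1 ha).2
  have c0 : ∀ w x, G.Adj w x → Disjoint (β w) (β x) := fun w x h =>
    disjoint_left.2 fun a h1 h2 => srg_tri hG h ((hβ _ _).1 h1) ((hβ _ _).1 h2)
  have c2 : ∀ w ∈ far G v, ∀ x ∈ far G v, x ≠ w → ¬ G.Adj w x → (β w ∩ β x).card = 2 :=
    fun w hw x hx h h' => by rw [cβ, meet_two hG hw hx h h']
  have c3 : ∀ w ∈ far G v, ∀ x ∈ far G v, x ≠ w → (β w ∩ β x).card < 3 := fun w hw x hx h => by
    by_cases h' : G.Adj w x
    · rw [disjoint_iff_inter_eq_empty.1 (c0 w x h')]; simp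
    · rw [c2 w hw x hx h h']; norm_num
  have inj : ∀ w ∈ far G v, ∀ x ∈ far G v, β w = β x → w = x := fun w hw x hx h => by
    by_contra hne
    have := c3 w hw x hx (Ne.symm hne)
    rw [← h, inter_self, c6 w hw] at this
    omega
  have h22 : Fintype.card {a // G.Adj v a} = 22 := by
    rw [Fintype.card_subtype, ← srg_deg hG v]; congr 1; ext; simp
  have hB : IsSteinerSystem 3 6 (((far G v).image β : Finset _) : Set (Finset {a // G.Adj v a})) := by
    refine steiner_of_count _ (fun b hb => ?_) (fun b hb c hc h => ?_) ?_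
    · obtain ⟨w, hw, rfl⟩ := mem_image.1 hb
      exact c6 w hw
    · obtain ⟨w, hw, rfl⟩ := mem_image.1 hb
      obtain ⟨x, hx, rfl⟩ := mem_image.1 hc
      exact c3 w hw x hx (fun e => h (by rw [e]))
    · have := card_far hG v
      rw [card_image_of_injOn inj, h22, show (far G v).card = 77 by omega]
      decide
  refine ⟨_, hB, h22, ?_⟩
  have ex : ∀ b : (((far G v).image β : Finset _) : Set (Finset {a // G.Adj v a})),
      ∃ w ∈ far G v, β w = b := fun b => mem_image.1 b.2
  choose r hr hr' using ex
  let f : Option ({a // G.Adj v a} ⊕ (((far G v).image β : Finset _) : Set (Finset {a // G.Adj v a}))) → V :=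
    fun x => match x with
      | none => v
      | some (.inl a) => a
      | some (.inr b) => r b
  have hf : Function.Bijective f := by
    constructor
    · rintro (_ | a | b) (_ | a' | b') h
      · rfl
      · exact absurd h a'.2.ne
      · exact absurd h (mem_far.1 (hr b')).1.symm
      · exact absurd h a.2.ne'
      · rw [Subtype.ext h]
      · exact absurd (show G.Adj v (r b') from (show (a : V) = r b' from h) ▸ a.2)
          (mem_far.1 (hr b')).2
      · exact absurd h (mem_far.1 (hr b)).1
      · exact absurd (show G.Adj v (r b) from (show r b = a' from h).symm ▸ a'.2)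
          (mem_far.1 (hr b)).2
      · have : b = b' := Subtype.ext (by rw [← hr' b, ← hr' b', show r b = r b' from h])
        rw [this]
    · intro w
      by_cases h1 : w = v
      · exact ⟨none, h1.symm⟩
      by_cases h2 : G.Adj v w
      · exact ⟨some (.inl ⟨w, h2⟩), rfl⟩
      have hw : w ∈ far G v := mem_far.2 ⟨h1, h2⟩
      exact ⟨some (.inr ⟨β w, mem_image_of_mem β hw⟩), inj _ (hr _) _ hw (hr' _)⟩
  refine ⟨⟨Equiv.ofBijective f hf, ?_⟩, rfl⟩
  rintro (_ | a | b) (_ | a' | b') <;>
    simp only [Equiv.ofBijective_apply, f, pa_nn, pa_np, pa_pn, pa_nb, pa_bn, pa_pp, pa_pb, pa_bp,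
      pa_bb hB, iff_true, iff_false]
  · simp
  · exact a'.2
  · exact (mem_far.1 (hr b')).2
  · exact a.2.symm
  · exact fun h => srg_tri hG a.2 a'.2 h
  · rw [← hr' b', hβ, G.adj_comm]
  · exact fun h => (mem_far.1 (hr b)).2 h.symm
  · rw [← hr' b, hβ]
  · rw [← hr' b, ← hr' b']
    refine ⟨c0 _ _, fun h => ?_⟩
    by_contra h'
    by_cases e : r b' = r b
    · rw [e] at h
      exact not_disj_self hB (mem_image_of_mem β (hr b)) h
    · have := c2 _ (hr b) _ (hr b') e h'
      rw [disjoint_iff_inter_eq_empty.1 h] at this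
      simp at this

end gen

section iso
variable {α β : Type*} {B : Set (Finset α)} {B' : Set (Finset β)}

/-- isomorphism of point-block graphs induced by an isomorphism of designs -/
def pbgIso (e : α ≃ β) (h : ∀ b, b ∈ B ↔ b.map e.toEmbedding ∈ B') :
    pointBlockGraph B ≃g pointBlockGraph B' where
  toEquiv := Equiv.optionCongr (Equiv.sumCongr e ((Equiv.finsetCongr e).subtypeEquiv h))
  map_rel_iff' := by
    have k : ∀ x y, pointBlockRel B'
        (Equiv.optionCongr (Equiv.sumCongr e ((Equiv.finsetCongr e).subtypeEquiv h)) x)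
        (Equiv.optionCongr (Equiv.sumCongr e ((Equiv.finsetCongr e).subtypeEquiv h)) y) ↔
        pointBlockRel B x y := by
      rintro (_ | a | b) (_ | a' | b')
      any_goals exact Iff.rfl
      · exact mem_map' e.toEmbedding
      · exact disjoint_map e.toEmbedding
    intro x y
    simp only [pointBlockGraph, SimpleGraph.fromRel_adj, k, ne_eq, EmbeddingLike.apply_eq_iff_eq]

theorem pbgIso_none (e : α ≃ β) (h : ∀ b, b ∈ B ↔ b.map e.toEmbedding ∈ B') :
    pbgIso e h none = none := rfl
theorem pbgIso_inl (e : α ≃ β) (h : ∀ b, b ∈ B ↔ b.map e.toEmbedding ∈ B') (a : α) :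
    pbgIso e h (some (.inl a)) = some (.inl (e a)) := rfl
theorem pbgIso_inr (e : α ≃ β) (h : ∀ b, b ∈ B ↔ b.map e.toEmbedding ∈ B') (b : B) :
    pbgIso e h (some (.inr b)) = some (.inr ⟨b.1.map e.toEmbedding, (h b).1 b.2⟩) := rfl

end iso

theorem srg100_iso {V W : Type*} [Fintype V] [Fintype W] {G : SimpleGraph V} {H : SimpleGraph W}
    [DecidableRel G.Adj] [DecidableRel H.Adj] (hG : G.IsSRGWith 100 22 0 6)
    (hH : H.IsSRGWith 100 22 0 6) (v : V) (w : W) : ∃ φ : G ≃g H, φ v = w := by
  classical
  obtain ⟨B, hB, c, φ, hφ⟩ := exists_pbg hG v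
  obtain ⟨B', hB', c', φ', hφ'⟩ := exists_pbg hH w
  obtain ⟨j, hj⟩ := model22 c hB
  obtain ⟨j', hj'⟩ := model22 c' hB'
  obtain ⟨e, -, he⟩ := hj.exists_equiv hj'
  refine ⟨(φ.symm.trans (pbgIso e he)).trans φ', ?_⟩
  have : φ.symm v = none := φ.injective (by rw [hφ]; exact φ.apply_symm_apply v)
  show φ' (pbgIso e he (φ.symm v)) = w
  rw [this, pbgIso_none, hφ']

theorem card_aut_pbg {α : Type*} [Fintype α] [DecidableEq α] (hα : Fintype.card α = 22)
    {B : Set (Finset α)} (hB : IsSteinerSystem 3 6 B) :
    Nat.card (pointBlockGraph B ≃g pointBlockGraph B) = 88704000 := by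
  classical
  have := Fintype.ofFinite B
  have hs := srg100 hα hB
  have : MulAction.IsPretransitive (pointBlockGraph B ≃g pointBlockGraph B) (Option (α ⊕ B)) :=
    ⟨fun x y => srg100_iso hs hs x y⟩
  have h1 := MulAction.index_stabilizer_of_transitive (pointBlockGraph B ≃g pointBlockGraph B)
    (none : Option (α ⊕ B))
  rw [Nat.card_eq_fintype_card, hs.card] at h1
  rw [← Subgroup.index_mul_card (MulAction.stabilizer _ (none : Option (α ⊕ B))), h1]
  have hm : ∀ (σ : Equiv.Perm α) (b : Finset α), b.map σ.toEmbedding = σ • b := fun σ b => by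
    rw [map_eq_image]; rfl
  let F : setSystemAut B → MulAction.stabilizer (pointBlockGraph B ≃g pointBlockGraph B)
      (none : Option (α ⊕ B)) := fun σ =>
    ⟨pbgIso σ.1 (fun b => by rw [hm, aut_iff]), rfl⟩
  have hF : Function.Bijective F := by
    constructor
    · intro σ τ h
      ext a
      have := congrArg (fun φ => φ.1 (some (.inl a))) h
      simpa [F, pbgIso_inl] using this
    · rintro ⟨φ, hφ⟩
      have hφ' : φ none = none := hφ
      have e1 : ∀ a, ∃ a', φ (some (.inl a)) = some (.inl a') := fun a => by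
        have := φ.map_rel_iff.2 (pa_np (B := B) a)
        rw [hφ'] at this
        rcases h : φ (some (.inl a)) with _ | a' | b' <;> simp_all
      have e2 : ∀ b, ∃ b', φ (some (.inr b)) = some (.inr b') := fun b => by
        have := φ.map_rel_iff.not.2 (pa_nb (B := B) b)
        rw [hφ'] at this
        rcases h : φ (some (.inr b)) with _ | a' | b'
        · rw [← hφ'] at h
          simpa using φ.injective h
        · simp_all
        · exact ⟨b', rfl⟩
      choose s hs using e1
      choose r hr using e2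
      have si : Function.Injective s := fun a a' h => by
        have := φ.injective (show φ (some (.inl a)) = φ (some (.inl a')) by rw [hs, hs, h])
        simpa using this
      let σ : Equiv.Perm α := Equiv.ofBijective s (Finite.injective_iff_bijective.1 si)
      have k : ∀ b : B, σ • (b : Finset α) = r b := fun b => by
        ext x
        obtain ⟨a, rfl⟩ := σ.surjective x
        have := φ.map_rel_iff (a := some (.inl a)) (b := some (.inr b))
        rw [hs, hr, pa_pb, pa_pb] at this
        exact (smul_mem_smul_finset_iff σ).trans this.symm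
      refine ⟨⟨σ, mem_aut.2 fun b hb => k ⟨b, hb⟩ ▸ (r _).2⟩, Subtype.ext (RelIso.ext ?_)⟩
      rintro (_ | a | b)
      · exact hφ'.symm
      · exact (hs a).symm
      · rw [hr]
        refine (pbgIso_inr _ _ _).trans ?_
        congr 2
        exact Subtype.ext ((hm _ _).trans (k b))
  obtain ⟨j, hj⟩ := model22 hα hB
  obtain ⟨ψ, -⟩ := aut22 hj
  rw [← Nat.card_congr (Equiv.ofBijective F hF), ← Nat.card_congr ψ.toEquiv, card_m22_2]

/-- conjugating automorphism groups of graphs -/
def autCongr {V W : Type*} {G : SimpleGraph V} {H : SimpleGraph W} (φ : G ≃g H) :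
    (G ≃g G) ≃* (H ≃g H) where
  toFun σ := (φ.symm.trans σ).trans φ
  invFun τ := (φ.trans τ).trans φ.symm
  left_inv σ := RelIso.ext fun x => by simp
  right_inv σ := RelIso.ext fun x => by simp
  map_mul' σ τ := RelIso.ext fun x => by simp

theorem card_aut100 {V : Type*} [Fintype V] {G : SimpleGraph V} [DecidableRel G.Adj]
    (hG : G.IsSRGWith 100 22 0 6) : Nat.card (G ≃g G) = 88704000 := by
  classical
  have : Nonempty V := Fintype.card_pos_iff.1 (by rw [hG.card]; norm_num)
  obtain ⟨B, hB, c, φ, -⟩ := exists_pbg hG (Classical.arbitrary V)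
  rw [← card_aut_pbg c hB, Nat.card_congr (autCongr φ).toEquiv]

end Cfsg.Agent.Stn
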