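/-
Monomial automorphisms of linear codes.
-/
import Mathlib
import Cfsg.Prelude.Def_SporadicCombinatorics

set_option autoImplicit false

namespace Cfsg.Agent.Stn

open Equiv

section
variable {α F : Type*} [Field F]

/-- the monomial map preserves the code -/
def Pres (C : Submodule F (α → F)) (σ : Perm α) (c : α → Fˣ) : Prop :=
  ∀ x ∈ C, monomialMap σ c x ∈ C

def monoL (σ : Perm α) (c : α → Fˣ) : (α → F) →ₗ[F] (α → F) where
  toFun := monomialMap σ c
  map_add' x y := by ext i; simp [monomialMap, mul_add]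
  map_smul' a x := by ext i; simp [monomialMap, mul_left_comm]

theorem pres_of_span {C : Submodule F (α → F)} {S : Set (α → F)} (h : C ≤ Submodule.span F S)
    {σ : Perm α} {c : α → Fˣ} (hS : ∀ x ∈ S, monomialMap σ c x ∈ C) : Pres C σ c := fun _ hx =>
  (Submodule.span_le (p := C.comap (monoL σ c))).2 hS (h hx)

theorem mono_mul (σ τ : Perm α) (c d : α → Fˣ) (x : α → F) :
    monomialMap σ c (monomialMap τ d x) = monomialMap (σ * τ) (fun i => c i * d (σ.symm i)) x := by
  ext i
  simp only [monomialMap, Units.val_mul, mul_assoc]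
  rfl

theorem mono_one (x : α → F) : monomialMap 1 1 x = x := by
  ext i
  simp [monomialMap]
  rfl

theorem mono_inv (σ : Perm α) (c : α → Fˣ) (x : α → F) :
    monomialMap σ⁻¹ (fun i => (c (σ i))⁻¹) (monomialMap σ c x) = x := by
  ext i
  simp [monomialMap, Perm.inv_def]

theorem Pres.mul {C : Submodule F (α → F)} {σ τ : Perm α} {c d : α → Fˣ} (h : Pres C σ c)
    (h' : Pres C τ d) : Pres C (σ * τ) (fun i => c i * d (σ.symm i)) := fun x hx => by
  rw [← mono_mul]
  exact h _ (h' x hx)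

theorem Pres.smul {C : Submodule F (α → F)} {σ : Perm α} {c : α → Fˣ} (h : Pres C σ c) (u : Fˣ) :
    Pres C σ (fun i => u * c i) := fun x hx => by
  have : monomialMap σ (fun i => u * c i) x = (u : F) • monomialMap σ c x := by
    ext i
    simp [monomialMap, mul_assoc]
  rw [this]
  exact C.smul_mem _ (h x hx)

variable [Finite α] [Finite F]

theorem Pres.inv {C : Submodule F (α → F)} {σ : Perm α} {c : α → Fˣ} (h : Pres C σ c) :
    Pres C σ⁻¹ (fun i => (c (σ i))⁻¹) := fun y hy => by
  let f : C → C := fun x => ⟨_, h x x.2⟩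
  have : Function.Injective f := fun x x' e => Subtype.ext (by
    rw [← mono_inv σ c x, ← mono_inv σ c x']
    exact congrArg _ (congrArg Subtype.val e))
  obtain ⟨x, hx⟩ := Finite.surjective_of_injective this ⟨y, hy⟩
  rw [← show monomialMap σ c x = y from congrArg Subtype.val hx, mono_inv]
  exact x.2

/-- the permutation parts of the monomial automorphisms -/
def monoP (C : Submodule F (α → F)) : Subgroup (Perm α) where
  carrier := {σ | ∃ c, Pres C σ c}
  one_mem' := ⟨1, fun x hx => by rwa [mono_one]⟩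
  mul_mem' := fun ⟨_, h⟩ ⟨_, h'⟩ => ⟨_, h.mul h'⟩
  inv_mem' := fun ⟨_, h⟩ => ⟨_, h.inv⟩

theorem mono_card [Nonempty α] (C : Submodule F (α → F))
    (hd : ∀ c, Pres C 1 c → ∀ i j, c i = c j) :
    Nat.card {f : Perm α × (α → Fˣ) // Pres C f.1 f.2} = Nat.card (monoP C) * Nat.card Fˣ := by
  rw [← Nat.card_prod]
  choose c hc using fun σ : monoP C => σ.2
  obtain ⟨a⟩ : Nonempty α := inferInstance
  refine (Nat.card_congr (Equiv.ofBijective
    (fun p : monoP C × Fˣ => (⟨(p.1, fun i => p.2 * c p.1 i), (hc p.1).smul _⟩ :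
      {f : Perm α × (α → Fˣ) // Pres C f.1 f.2})) ⟨?_, ?_⟩)).symm
  · rintro ⟨σ, u⟩ ⟨τ, v⟩ e
    simp only [Subtype.mk.injEq, Prod.mk.injEq] at e
    obtain rfl : σ = τ := Subtype.ext e.1
    rw [mul_right_cancel (congrFun e.2 a)]
  · rintro ⟨⟨σ, d⟩, h⟩
    have h1 := h.mul (hc ⟨σ, d, h⟩).inv
    simp only [mul_inv_cancel, apply_symm_apply] at h1
    refine ⟨(⟨σ, d, h⟩, d a * (c ⟨σ, d, h⟩ a)⁻¹), Subtype.ext (Prod.ext rfl (funext fun i => ?_))⟩
    have := hd _ h1 a i
    simp only at this ⊢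
    rw [this, inv_mul_cancel_right]

end

end Cfsg.Agent.Stn
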