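/-
The ternary code of length 12.
-/
import Cfsg.Agent.Stn.Mono
import Cfsg.Agent.Stn.W12
import Cfsg.Agent.Gol.Fam

set_option autoImplicit false

namespace Cfsg.Agent.Stn

open Finset Equiv Gol
open scoped Pointwise

/-- the code word with given values on an information set -/
def W6 (a b c d e f : ZMod 3) : ArrayPt → ZMod 3 := fun p =>
  ![![a, b, c], ![d, e, a + b + c + 2 * d + 2 * e],
    ![f, 2 * b + c + 2 * d + e + f, a + 2 * b + d + 2 * e + f],
    ![a + 2 * b + 2 * c + 2 * d + 2 * f, a + c + d + e + 2 * f, 2 * a + 2 * b + c + 2 * e + 2 * f]]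
    p.1 p.2

def IsW (x : ArrayPt → ZMod 3) : Prop :=
  ∃ s : ZMod 3, (∀ i : Fin 4, ∑ r : ZMod 3, x (i, r) = -s) ∧ ∀ a b : ZMod 3,
    ∑ i : Fin 4, x (i, (a • ![0, 1, 1, 1] + b • ![1, 0, 1, 2] : Fin 4 → ZMod 3) i) = s

instance decIsW (x : ArrayPt → ZMod 3) : Decidable (IsW x) := by unfold IsW; infer_instance

theorem mem_tern {x : ArrayPt → ZMod 3} : x ∈ ternaryGolayCode ↔ IsW x := by
  refine exists_congr fun s => and_congr_right fun _ => ⟨fun h a b => h _ ?_, fun h t ht => ?_⟩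
  · exact Submodule.mem_span_pair.2 ⟨a, b, rfl⟩
  · obtain ⟨a, b, rfl⟩ := Submodule.mem_span_pair.1 ht
    exact h a b

theorem eq_W6 {x : ArrayPt → ZMod 3} (h : x ∈ ternaryGolayCode) :
    x = W6 (x (0, 0)) (x (0, 1)) (x (0, 2)) (x (1, 0)) (x (1, 1)) (x (2, 0)) := by
  obtain ⟨s, c, t⟩ := mem_tern.1 h
  have h3 : (3 : ZMod 3) = 0 := rfl
  have c0 : x (0, 0) + x (0, 1) + x (0, 2) = -s := (Fin.sum_univ_three _).symm.trans (c 0)
  have c1 : x (1, 0) + x (1, 1) + x (1, 2) = -s := (Fin.sum_univ_three _).symm.trans (c 1)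
  have t0 : x (0, 0) + x (1, 0) + x (2, 0) + x (3, 0) = s := (Fin.sum_univ_four _).symm.trans (t 0 0)
  have t1 : x (0, 1) + x (1, 0) + x (2, 1) + x (3, 2) = s := (Fin.sum_univ_four _).symm.trans (t 0 1)
  have t4 : x (0, 1) + x (1, 1) + x (2, 2) + x (3, 0) = s := (Fin.sum_univ_four _).symm.trans (t 1 1)
  have t5 : x (0, 2) + x (1, 1) + x (2, 0) + x (3, 2) = s := (Fin.sum_univ_four _).symm.trans (t 1 2)
  have t7 : x (0, 1) + x (1, 2) + x (2, 0) + x (3, 1) = s := (Fin.sum_univ_four _).symm.trans (t 2 1)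
  have e : ∀ P : ArrayPt → Prop, P (0, 0) → P (0, 1) → P (0, 2) → P (1, 0) → P (1, 1) → P (1, 2) →
      P (2, 0) → P (2, 1) → P (2, 2) → P (3, 0) → P (3, 1) → P (3, 2) → ∀ p, P p := by
    rintro P _ _ _ _ _ _ _ _ _ _ _ _ ⟨i, r⟩
    fin_cases i <;> fin_cases r <;> assumption
  refine funext (e _ rfl rfl rfl rfl rfl ?_ rfl ?_ ?_ ?_ ?_ ?_)
  · change _ = x (0, 0) + x (0, 1) + x (0, 2) + 2 * x (1, 0) + 2 * x (1, 1)
    linear_combination 2 * c0 + c1 - (x (0, 0) + x (0, 1) + x (0, 2) + x (1, 0) + x (1, 1) + s) * h3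
  · change _ = 2 * x (0, 1) + x (0, 2) + 2 * x (1, 0) + x (1, 1) + x (2, 0)
    linear_combination t1 + 2 * t5 -
      (x (0, 1) + x (0, 2) + x (1, 0) + x (1, 1) + x (2, 0) + x (3, 2) - s) * h3
  · change _ = x (0, 0) + 2 * x (0, 1) + x (1, 0) + 2 * x (1, 1) + x (2, 0)
    linear_combination 2 * t0 + t4 -
      (x (0, 0) + x (0, 1) + x (1, 0) + x (1, 1) + x (2, 0) + x (3, 0) - s) * h3
  · change _ = x (0, 0) + 2 * x (0, 1) + 2 * x (0, 2) + 2 * x (1, 0) + 2 * x (2, 0)
    linear_combination c0 + t0 - (x (0, 0) + x (0, 1) + x (0, 2) + x (1, 0) + x (2, 0)) * h3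
  · change _ = x (0, 0) + x (0, 2) + x (1, 0) + x (1, 1) + 2 * x (2, 0)
    linear_combination 2 * c0 + 2 * c1 + t7 -
      (x (0, 0) + x (0, 1) + x (0, 2) + x (1, 0) + x (1, 1) + x (1, 2) + x (2, 0) + s) * h3
  · change _ = 2 * x (0, 0) + 2 * x (0, 1) + x (0, 2) + 2 * x (1, 1) + 2 * x (2, 0)
    linear_combination c0 + t5 - (x (0, 0) + x (0, 1) + x (0, 2) + x (1, 1) + x (2, 0)) * h3

/-- a basis -/
def G6 : Fin 6 → ArrayPt → ZMod 3 := ![W6 1 0 0 0 0 0, W6 0 1 0 0 0 0, W6 0 0 1 0 0 0,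
  W6 0 0 0 1 0 0, W6 0 0 0 0 1 0, W6 0 0 0 0 0 1]

theorem W6_eq (a b c d e f : ZMod 3) : W6 a b c d e f =
    a • G6 0 + b • G6 1 + c • G6 2 + d • G6 3 + e • G6 4 + f • G6 5 := by
  ext ⟨i, r⟩
  fin_cases i <;> fin_cases r <;> simp [G6, W6] <;> ring

theorem G6_mem (j : Fin 6) : G6 j ∈ ternaryGolayCode := by
  rw [mem_tern]
  revert j
  decide +kernel

theorem W6_span {C : Submodule (ZMod 3) (ArrayPt → ZMod 3)} (h : ∀ j, G6 j ∈ C)
    (a b c d e f : ZMod 3) : W6 a b c d e f ∈ C := by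
  rw [W6_eq]
  refine add_mem (add_mem (add_mem (add_mem (add_mem ?_ ?_) ?_) ?_) ?_) ?_ <;>
    exact C.smul_mem _ (h _)

theorem W6_mem (a b c d e f : ZMod 3) : W6 a b c d e f ∈ ternaryGolayCode :=
  W6_span G6_mem a b c d e f

theorem tern_le : ternaryGolayCode ≤ Submodule.span (ZMod 3) (Set.range G6) := fun x hx => by
  rw [eq_W6 hx]
  exact W6_span (fun j => Submodule.subset_span (Set.mem_range_self j)) _ _ _ _ _ _

/-- the code words, numbered -/
def Wn (n : ℕ) : ArrayPt → ZMod 3 :=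
  W6 n (n / 3 : ℕ) (n / 9 : ℕ) (n / 27 : ℕ) (n / 81 : ℕ) (n / 243 : ℕ)

theorem Wn_mem (n : ℕ) : Wn n ∈ ternaryGolayCode := W6_mem ..

theorem Wn_inj {a b : ℕ} (ha : a < 729) (hb : b < 729) (h : Wn a = Wn b) : a = b := by
  have h0 := (ZMod.natCast_eq_natCast_iff' _ _ 3).1 (congrFun h (0, 0))
  have h1 := (ZMod.natCast_eq_natCast_iff' _ _ 3).1 (congrFun h (0, 1))
  have h2 := (ZMod.natCast_eq_natCast_iff' _ _ 3).1 (congrFun h (0, 2))
  have h3 := (ZMod.natCast_eq_natCast_iff' _ _ 3).1 (congrFun h (1, 0))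
  have h4 := (ZMod.natCast_eq_natCast_iff' _ _ 3).1 (congrFun h (1, 1))
  have h5 := (ZMod.natCast_eq_natCast_iff' _ _ 3).1 (congrFun h (2, 0))
  omega

theorem exists_Wn {x : ArrayPt → ZMod 3} (h : x ∈ ternaryGolayCode) : ∃ n < 729, Wn n = x := by
  have : ∀ a b c d e f : ZMod 3, let n := a.val + 3 * b.val + 9 * c.val + 27 * d.val + 81 * e.val +
      243 * f.val
      n < 729 ∧ (n : ZMod 3) = a ∧ ((n / 3 : ℕ) : ZMod 3) = b ∧ ((n / 9 : ℕ) : ZMod 3) = c ∧
      ((n / 27 : ℕ) : ZMod 3) = d ∧ ((n / 81 : ℕ) : ZMod 3) = e ∧ ((n / 243 : ℕ) : ZMod 3) = f := by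
    decide +kernel
  obtain ⟨h0, h1, h2, h3, h4, h5, h6⟩ :=
    this (x (0, 0)) (x (0, 1)) (x (0, 2)) (x (1, 0)) (x (1, 1)) (x (2, 0))
  refine ⟨_, h0, ?_⟩
  rw [Wn, h1, h2, h3, h4, h5, h6, ← eq_W6 h]

theorem ncard_tern {P : (ArrayPt → ZMod 3) → Prop} [DecidablePred P] :
    {x | x ∈ ternaryGolayCode ∧ P x}.ncard = lcnt (fun n => decide (P (Wn n))) (List.range 729) :=
  ncard_eq_countP (f := Wn) List.nodup_range
    (fun _ ha _ hb => Wn_inj (List.mem_range.1 ha) (List.mem_range.1 hb))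
    (fun x hx => by simpa using exists_Wn hx.1) fun n _ => by simp [Wn_mem]

theorem tern_wt : ∀ n < 729, n ≠ 0 → (ternarySupport (Wn n)).card = 6 ∨
    (ternarySupport (Wn n)).card = 9 ∨ (ternarySupport (Wn n)).card = 12 := by decide +kernel

theorem tern_self : ∀ n < 729, ∑ p, Wn n p * Wn n p = 0 := by decide +kernel

def ixA (p : ArrayPt) : ℕ := 3 * p.1.val + p.2.val

def posA (k : ℕ) : ArrayPt := (Fin.ofNat 4 (k / 3), (k : ZMod 3))

def jA : ArrayPt ↪ GolayPt := ⟨fun p => pt (ixA p), by decide +kernel⟩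

theorem jA_rng : ∀ p, p ∈ toF 4095 ↔ ∃ a, jA a = p := by decide +kernel

noncomputable def msk (x : ArrayPt → ZMod 3) : ℕ := pack 1 (fun k => if x (posA k) = 0 then 0 else 1) 12

theorem msk_lt (x : ArrayPt → ZMod 3) : msk x < 4096 :=
  pack_lt (w := 1) (k := 12) fun _ _ => by split_ifs <;> norm_num

theorem toF_msk (x : ArrayPt → ZMod 3) : toF (msk x) = (ternarySupport x).map jA := by
  have h1 : ∀ a, ixA a < 12 ∧ posA (ixA a) = a := by decide +kernel
  have h2 : ∀ a, jA a ∈ toF (msk x) ↔ x a ≠ 0 := fun a => by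
    have := dig_pack (w := 1) (f := fun k => if x (posA k) = 0 then 0 else 1) (k := 12)
      (fun _ _ => by split_ifs <;> norm_num) (h1 a).1
    rw [(h1 a).2, one_mul, pow_one] at this
    rw [show jA a = pt (ixA a) from rfl, pt_mem_toF (by have := (h1 a).1; omega),
      Nat.testBit_eq_decide_div_mod_eq, msk, this]
    simp
  ext p
  constructor
  · intro hp
    have : p ∈ toF 4095 := by
      refine (toF_subset (by have := msk_lt x; omega)).2 ?_ hp
      rw [show 4095 = 2 ^ 12 - 1 from rfl, Nat.and_two_pow_sub_one_eq_mod]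
      exact Nat.mod_eq_of_lt (msk_lt x)
    obtain ⟨a, rfl⟩ := (jA_rng p).1 this
    exact mem_map_of_mem _ (mem_filter.2 ⟨mem_univ _, (h2 a).1 hp⟩)
  · intro hp
    obtain ⟨a, ha, rfl⟩ := mem_map.1 hp
    exact (h2 a).2 (mem_filter.1 ha).2

def hexT : List ℕ := [63, 222, 237, 243, 347, 366, 373, 413, 427, 438, 455, 504, 591, 630, 633, 667,
  679, 700, 725, 746, 791, 813, 826, 860, 867, 910, 945, 969, 978, 996, 1117, 1127,
  1146, 1175, 1198, 1209, 1227, 1268, 1295, 1331, 1340, 1366, 1385, 1434, 1445, 1484, 1489, 1506,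
  1566, 1579, 1589, 1619, 1644, 1677, 1714, 1734, 1752, 1761, 1817, 1830, 1861, 1866, 1904, 1923,
  1940, 1960, 2135, 2155, 2172, 2191, 2229, 2234, 2265, 2278, 2334, 2343, 2361, 2381, 2418, 2451,
  2476, 2506, 2516, 2529, 2589, 2606, 2611, 2650, 2661, 2710, 2729, 2755, 2764, 2800, 2827, 2868,
  2886, 2897, 2920, 2949, 2968, 2978, 3099, 3117, 3126, 3150, 3185, 3228, 3235, 3269, 3282, 3304,
  3349, 3370, 3395, 3416, 3428, 3462, 3465, 3504, 3591, 3640, 3657, 3668, 3682, 3722, 3729, 3748,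
  3852, 3858, 3873, 4032]

/-- the hexads of the ternary code -/
def HT : Set (Finset ArrayPt) :=
  {h | ∃ x ∈ ternaryGolayCode, ternarySupport x = h ∧ h.card = 6}

theorem hexT_chk1 : nall (fun n => force (msk (Wn n)) fun m =>
    bif' (Nat.beq (pc m) 6) (lany (Nat.beq m) hexT) true) 729 = true := by decide +kernel

theorem hexT_chk2 : subL hexT ((List.range 729).map fun n => msk (Wn n)) = true := by
  decide +kernel

theorem hexT_chk3 : lall (fun a => Nat.beq (pc a) 6 && lall (fun b =>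
    bif' (Nat.ble 5 (pc (Nat.land a b))) (Nat.beq a b) true) hexT) hexT = true := by decide +kernel

theorem hexT_chk4 : lall (fun r => lany (fun T => Nat.beq (Nat.land r T) r) hexT)
    (subsL [0, 1, 2, 3, 4, 5, 6, 7, 8, 9, 10, 11] 5) = true := by decide +kernel

theorem mem_HT {b : Finset ArrayPt} : b ∈ HT ↔ ∃ n ∈ hexT, toF n = b.map jA := by
  constructor
  · rintro ⟨x, hx, rfl, h6⟩
    obtain ⟨n, hn, rfl⟩ := exists_Wn hx
    have := nall_iff.1 hexT_chk1 n hn
    rw [force_eq, ← card_toF, toF_msk, card_map, h6] at this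
    exact ⟨_, mem_of_lany this, toF_msk _⟩
  · rintro ⟨m, hm, e⟩
    obtain ⟨n, -, rfl⟩ := List.mem_map.1 (subL_sound hexT_chk2 m hm)
    have := lall_iff.1 hexT_chk3 _ hm
    simp only [Bool.and_eq_true, Nat.beq_eq] at this
    refine ⟨_, Wn_mem n, map_injective jA ((toF_msk _).symm.trans e), ?_⟩
    rw [← card_map jA, ← e, card_toF, this.1]

theorem steiner_HT : IsSteinerSystem 5 6 HT := by
  refine ⟨fun b hb => by obtain ⟨-, -, -, h⟩ := hb; exact h, fun s hs => ?_⟩
  obtain ⟨y, hy, e⟩ := subsL_complete (l := [0, 1, 2, 3, 4, 5, 6, 7, 8, 9, 10, 11]) (s := s.map jA)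
    (k := 5) (fun p hp => by
      obtain ⟨a, -, rfl⟩ := mem_map.1 hp
      exact (by decide +kernel : ∀ a, idx (jA a) ∈ [0, 1, 2, 3, 4, 5, 6, 7, 8, 9, 10, 11]) a) (by rw [card_map, hs])
  obtain ⟨n, hn, e'⟩ := lany_iff.1 (lall_iff.1 hexT_chk4 y hy)
  obtain ⟨m, -, rfl⟩ := List.mem_map.1 (subL_sound hexT_chk2 n hn)
  have h1 : s ⊆ ternarySupport (Wn m) := by
    rw [← map_subset_map (f := jA), ← e, ← toF_msk, ← Nat.eq_of_beq_eq_true e']
    change toF (y &&& _) ⊆ _
    rw [toF_and]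
    exact inter_subset_right
  refine ⟨_, ⟨mem_HT.2 ⟨_, hn, toF_msk _⟩, h1⟩, fun b ⟨hb, hb'⟩ => ?_⟩
  obtain ⟨k, hk, e2⟩ := mem_HT.1 hb
  have := lall_iff.1 hexT_chk3 _ hk
  simp only [Bool.and_eq_true] at this
  have h2 := lall_iff.1 this.2 _ hn
  have h3 : 5 ≤ pc (Nat.land k (msk (Wn m))) := by
    change 5 ≤ pc (k &&& _)
    rw [← card_inter_toF, e2, toF_msk, ← map_inter, card_map, ← hs]
    exact card_le_card (subset_inter hb' h1)
  rw [Nat.ble_eq_true_of_le h3, bif'_true] at h2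
  apply map_injective jA
  rw [← e2, ← toF_msk, Nat.eq_of_beq_eq_true h2]

theorem tern_diag {c : ArrayPt → (ZMod 3)ˣ} (h : Pres ternaryGolayCode 1 c) :
    ∀ p q, c p = c q := by
  let q : Fin 6 → ArrayPt := ![(0, 0), (0, 1), (0, 2), (1, 0), (1, 1), (2, 0)]
  have hq : ∀ j k, k ≠ j → G6 j (q k) = 0 := by decide +kernel
  have h0 : ∀ p, W6 0 0 0 0 0 0 p = 0 := by decide +kernel
  have k : ∀ j p, G6 j p ≠ 0 → c p = c (q j) := fun j p hp => by
    have h1 := eq_W6 (sub_mem (h _ (G6_mem j)) (Submodule.smul_mem _ (c (q j) : ZMod 3) (G6_mem j)))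
    have h2 : ∀ k, (monomialMap 1 c (G6 j) - (c (q j) : ZMod 3) • G6 j) (q k) = 0 := fun k => by
      change (c (q k) : ZMod 3) * G6 j (q k) - c (q j) * G6 j (q k) = 0
      by_cases e : k = j
      · rw [e, sub_self]
      · rw [hq j k e, mul_zero, mul_zero, sub_self]
    replace h1 : _ = W6 0 0 0 0 0 0 := h1.trans (by
      congr 1
      exacts [h2 0, h2 1, h2 2, h2 3, h2 4, h2 5])
    have h3 : (c p : ZMod 3) * G6 j p - c (q j) * G6 j p = 0 := (congrFun h1 p).trans (h0 p)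
    exact Units.ext (mul_right_cancel₀ hp (sub_eq_zero.1 h3))
  have : ∀ p, c p = c (q 0) := fun p => by
    obtain ⟨j, r, h1, h2, h3⟩ := (by decide +kernel :
      ∀ p, ∃ j r, G6 j p ≠ 0 ∧ G6 j r ≠ 0 ∧ G6 0 r ≠ 0) p
    rw [k j p h1, ← k j r h2, k 0 r h3]
  exact fun p q => (this p).trans (this q).symm

def fA (c : ℕ) (p : ArrayPt) : ArrayPt := posA (dg4 c (ixA p))

def sA (c : ℕ) (p : ArrayPt) : (ZMod 3)ˣ := if c.testBit (ixA p) then -1 else 1

def autT : List (ℕ × ℕ × ℕ) := [(205163983024656, 205163983024656, 0), (114875801285121, 114875801285121, 0),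
  (171143312191746, 186601419583521, 0), (203987229090051, 200838984500001, 2764),
  (149235455697156, 167656838677281, 1940), (188533650432261, 188465698652961, 3428),
  (203028566319366, 203798352446241, 2514), (111366534013191, 95138016215841, 3102),
  (98289112523016, 129331828900641, 1224), (134738834825481, 151774303765281, 3746),
  (77607836262666, 106195122340641, 2824), (163099914215691, 8479751947041, 430),
  (148896472117536, 148896472117536, 0), (183040958800176, 118230153958176, 2764),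
  (117199865061696, 134787001041696, 1940), (167587380142416, 148135453475616, 3428),
  (95969627808096, 113630368056096, 2514), (186389881889136, 100781785563936, 3102),
  (128339622961536, 164384360514336, 1224), (82852190560656, 184818442388256, 3746),
  (199520902390176, 195118630322976, 2824), (148040433476016, 27948870026016, 430),
  (167926364906256, 167926364906256, 2764), (135818296632336, 184072505803536, 1940),
  (201938729903376, 203992259183376, 3428), (152511949514256, 169717554103056, 2514),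
  (92816805144336, 97264529457936, 3102), (165301675304976, 111817503752976, 1224),
  (185219212847376, 135422825480976, 3746), (115772311677456, 143646984323856, 2824),
  (76520923278096, 42435747726096, 430), (147865428247056, 147865428247056, 0),
  (186605193351696, 171139535290896, 0), (199605510955536, 202694063505936, 6),
  (116911320035856, 99399427965456, 4090), (96304787325456, 129277051159056, 4092),
  (128266436579856, 115692283773456, 6), (82916315210256, 179793663050256, 4092),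
  (167424912765456, 61273455280656, 4090), (132399770186256, 132399770186256, 0),
  (183942805598736, 153208536773136, 6), (80841396400656, 95285065495056, 4090),
  (110731096240656, 164327252963856, 4092), (153208536773136, 183942805598736, 6),
  (164327252963856, 110731096240656, 4092), (95285065495056, 80841396400656, 4090)]

theorem autT_chk : ∀ e ∈ autT, (∀ p, fA e.2.1 (fA e.1 p) = p) ∧ (∀ p, fA e.1 (fA e.2.1 p) = p) ∧
    ∀ j, IsW fun p => (sA e.2.2 p : ZMod 3) * G6 j (fA e.2.1 p) := by decide +kernel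

theorem autT_chk2 : ∀ i < 5, ∀ y, (∀ j < i, y ≠ posA j) →
    ∃ e ∈ autT, (∀ j < i, fA e.1 (posA j) = posA j) ∧ fA e.1 (posA i) = y := by decide +kernel

theorem monoP_le : monoP ternaryGolayCode ≤ setSystemAut HT := by
  rintro σ ⟨c, hc⟩
  refine mem_aut.2 ?_
  rintro _ ⟨x, hx, rfl, h6⟩
  refine ⟨_, hc x hx, ?_, by rwa [card_smul_finset]⟩
  ext p
  rw [← inv_smul_mem_iff]
  simp [ternarySupport, monomialMap, Perm.inv_def]

theorem monoP_eq : monoP ternaryGolayCode = setSystemAut HT := by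
  refine le_antisymm monoP_le fun σ hσ => ?_
  have hp : ∀ i < 5, ∀ j < i, posA i ≠ posA j := by decide +kernel
  obtain ⟨g, hg, e⟩ := trans_chain (monoP ternaryGolayCode) Set.univ (fun _ _ _ _ => trivial) posA 5
    (fun i hi y _ hy => by
      obtain ⟨e, he, h1, h2⟩ := autT_chk2 i hi y hy
      obtain ⟨h3, h4, h5⟩ := autT_chk e he
      refine ⟨⟨fA e.1, fA e.2.1, h3, h4⟩, ⟨sA e.2.2, pres_of_span tern_le ?_⟩, h1, h2⟩
      rintro _ ⟨j, rfl⟩
      exact mem_tern.2 (h5 j))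
    (fun i => σ (posA i)) (fun _ _ => trivial) fun i hi j hj h => hp i hi j hj (σ.injective h)
  obtain ⟨j, h⟩ := model12 (α := ArrayPt) (by decide) steiner_HT
  obtain ⟨φ, hφ⟩ := aut12 h
  obtain ⟨k, hk⟩ := φ.surjective ⟨g⁻¹ * σ, mul_mem (inv_mem (monoP_le hg)) hσ⟩
  have hk' : ∀ i < 5, (k : M24) • j (posA i) = j (posA i) := fun i hi => by
    rw [← hφ, hk]
    change j ((g⁻¹ * σ) (posA i)) = _
    rw [Perm.mul_apply, ← e i hi]
    simp
  have : (k : M24) = 1 := fix5 (St12.1 k.2)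
    ((show [posA 0, posA 1, posA 2, posA 3, posA 4].Nodup by decide +kernel).map j.injective)
    (fun x hx => by
      obtain ⟨a, -, rfl⟩ := List.mem_map.1
        (show x ∈ [posA 0, posA 1, posA 2, posA 3, posA 4].map j from hx)
      exact (h.rng _).2 ⟨a, rfl⟩) (by simp [hk'])
  rw [show k = 1 from Subtype.ext this, map_one] at hk
  rw [← inv_mul_eq_one.1 (congrArg Subtype.val hk).symm]
  exact hg

theorem card_aut_HT : Nat.card (setSystemAut HT) = 95040 := by
  obtain ⟨j, h⟩ := model12 (α := ArrayPt) (by decide) steiner_HT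
  obtain ⟨φ, -⟩ := aut12 h
  rw [← Nat.card_congr φ.toEquiv, card_m12]

end Cfsg.Agent.Stn
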