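/-
The hexacode.
-/
import Cfsg.Agent.Stn.Mono
import Cfsg.Agent.Gol.Simp

set_option autoImplicit false

namespace Cfsg.Agent.Stn

open Finset Equiv Gol

def w4 : F4 := ⟨0, 1⟩

def H3 {F : Type*} [Field F] (ω a b c : F) : Fin 6 → F :=
  a • ![ω, ω ^ 2, ω ^ 2, ω, ω ^ 2, ω] + b • ![ω ^ 2, ω, ω, ω ^ 2, ω ^ 2, ω] +
    c • ![ω ^ 2, ω, ω ^ 2, ω, ω, ω ^ 2]

theorem mem_hexa {F : Type*} [Field F] {ω : F} {x : Fin 6 → F} :
    x ∈ hexacode F ω ↔ ∃ a b c, H3 ω a b c = x := Submodule.mem_span_triple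

theorem exists_e4 {F : Type*} [Field F] [Fintype F] (hF : Fintype.card F = 4) {ω : F}
    (hω : ω ^ 2 + ω + 1 = 0) : ∃ e : F4 ≃+* F, e w4 = ω := by
  let e := FiniteField.ringEquivOfCardEq (card_F4.trans hF.symm)
  have h : e.symm ω ^ 2 + e.symm ω + 1 = 0 := by
    rw [← map_pow, ← map_one e.symm, ← map_add, ← map_add, hω, map_zero]
  rcases (by decide +kernel : ∀ r : F4, r ^ 2 + r + 1 = 0 → r = w4 ∨ r = star w4) _ h with h | h
  · exact ⟨e, by rw [← h, e.apply_symm_apply]⟩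
  · exact ⟨starRingAut.trans e, by
      change e (star w4) = ω
      rw [← h, e.apply_symm_apply]⟩

theorem map_H3 {F K : Type*} [Field F] [Field K] (e : F ≃+* K) (ω a b c : F) :
    e ∘ H3 ω a b c = H3 (e ω) (e a) (e b) (e c) := by
  ext i
  fin_cases i <;> simp [H3]

theorem map_hexa {F K : Type*} [Field F] [Field K] (e : F ≃+* K) (ω : F) {x : Fin 6 → F}
    (h : x ∈ hexacode F ω) : e ∘ x ∈ hexacode K (e ω) := by
  obtain ⟨a, b, c, rfl⟩ := mem_hexa.1 h
  exact mem_hexa.2 ⟨_, _, _, (map_H3 ..).symm⟩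

theorem map_pres {F K : Type*} [Field F] [Field K] (e : F ≃+* K) (ω : F) {σ : Perm (Fin 6)}
    {c : Fin 6 → Fˣ} (h : Pres (hexacode F ω) σ c) :
    Pres (hexacode K (e ω)) σ fun i => Units.map (e : F →* K) (c i) := fun x hx => by
  have h1 := map_hexa e.symm _ hx
  rw [e.symm_apply_apply] at h1
  convert map_hexa e ω (h _ h1) using 1
  ext i
  simp [monomialMap]

/-- systematic form -/
def S3 (a b c : F4) : Fin 6 → F4 :=
  ![a, b, c, a + b + c, ⟨1, 1⟩ * a + w4 * b + c, w4 * a + ⟨1, 1⟩ * b + c]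

theorem mem_hexa4 {x : Fin 6 → F4} : x ∈ hexacode F4 w4 ↔ x = S3 (x 0) (x 1) (x 2) := by
  rw [mem_hexa]
  constructor
  · rintro ⟨a, b, c, rfl⟩
    revert a b c
    decide +kernel
  · intro h
    rw [h]
    exact (by decide +kernel : ∀ a b c : F4, ∃ a' b' c', H3 w4 a' b' c' = S3 a b c) _ _ _

def G3 : Fin 3 → Fin 6 → F4 := ![S3 1 0 0, S3 0 1 0, S3 0 0 1]

theorem G3_mem (j : Fin 3) : G3 j ∈ hexacode F4 w4 := by
  rw [mem_hexa4]
  revert j
  decide +kernel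

theorem hexa_le : hexacode F4 w4 ≤ Submodule.span F4 (Set.range G3) := fun x hx => by
  rw [mem_hexa4.1 hx, (by decide +kernel :
    ∀ a b c : F4, S3 a b c = a • G3 0 + b • G3 1 + c • G3 2)]
  refine add_mem (add_mem ?_ ?_) ?_ <;>
    exact Submodule.smul_mem _ _ (Submodule.subset_span (Set.mem_range_self _))

def Hn (n : ℕ) : Fin 6 → F4 := S3 (d4 n) (d4 (n / 4)) (d4 (n / 16))

theorem Hn_mem (n : ℕ) : Hn n ∈ hexacode F4 w4 := mem_hexa4.2 rfl

theorem Hn_inj {a b : ℕ} (ha : a < 64) (hb : b < 64) (h : Hn a = Hn b) : a = b := by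
  have : ∀ n < 64, c4 (Hn n 0) + 4 * c4 (Hn n 1) + 16 * c4 (Hn n 2) = n := by decide +kernel
  rw [← this a ha, h, this b hb]

theorem exists_Hn {x : Fin 6 → F4} (h : x ∈ hexacode F4 w4) : ∃ n < 64, Hn n = x := by
  rw [mem_hexa4.1 h]
  exact ⟨c4 (x 0) + 4 * c4 (x 1) + 16 * c4 (x 2), (by decide +kernel : ∀ a b c : F4,
    c4 a + 4 * c4 b + 16 * c4 c < 64 ∧ Hn (c4 a + 4 * c4 b + 16 * c4 c) = S3 a b c) _ _ _⟩

section
variable {F : Type*} [Field F] [DecidableEq F] (e : F4 ≃+* F)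

omit [DecidableEq F] in
theorem exists_Hn' {x : Fin 6 → F} (h : x ∈ hexacode F (e w4)) : ∃ n < 64, e ∘ Hn n = x := by
  have h1 := map_hexa e.symm _ h
  rw [e.symm_apply_apply] at h1
  obtain ⟨n, hn, h2⟩ := exists_Hn h1
  refine ⟨n, hn, ?_⟩
  rw [h2]
  ext i
  simp

theorem wt_map (x : Fin 6 → F4) :
    (univ.filter fun i => (e ∘ x) i ≠ 0).card = (univ.filter fun i => x i ≠ 0).card := by
  simp

theorem ncard_hexa (P : ℕ → Prop) [DecidablePred P] :
    {x | x ∈ hexacode F (e w4) ∧ P (univ.filter fun i => x i ≠ 0).card}.ncard =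
      lcnt (fun n => decide (P (univ.filter fun i => Hn n i ≠ 0).card)) (List.range 64) :=
  ncard_eq_countP (f := fun n => e ∘ Hn n) List.nodup_range
    (fun _ ha _ hb h => Hn_inj (List.mem_range.1 ha) (List.mem_range.1 hb)
      (e.injective.comp_left h))
    (fun x hx => by simpa using exists_Hn' e hx.1) fun n _ => by
      rw [Set.mem_ofPred_eq, wt_map, decide_eq_true_eq]
      exact and_iff_right (map_hexa e _ (Hn_mem n))

end

theorem hexa_wt : ∀ n < 64, n ≠ 0 → (univ.filter fun i => Hn n i ≠ 0).card = 4 ∨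
    (univ.filter fun i => Hn n i ≠ 0).card = 6 := by decide +kernel

theorem hexa_diag4 {c : Fin 6 → F4ˣ} (h : Pres (hexacode F4 w4) 1 c) : ∀ i j, c i = c j := by
  have k : ∀ (j : Fin 3) (p : Fin 6), 3 ≤ p → (c p : F4) = ![(c 0 : F4), c 1, c 2] j :=
    fun j p hp => (by decide +kernel : ∀ (j : Fin 3) (p : Fin 6), 3 ≤ p → ∀ a b c d : F4,
      d * G3 j p = S3 (a * G3 j 0) (b * G3 j 1) (c * G3 j 2) p → d = ![a, b, c] j) j p hp _ _ _ _
      (congrFun (mem_hexa4.1 (h _ (G3_mem j))) p)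
  have : ∀ p, (c p : F4) = c 0 := fun p => by
    fin_cases p
    exacts [rfl, (k 1 3 (by decide)).symm.trans (k 0 3 (by decide)),
      (k 2 3 (by decide)).symm.trans (k 0 3 (by decide)), k 0 3 (by decide), k 0 4 (by decide),
      k 0 5 (by decide)]
  exact fun p q => Units.ext ((this p).trans (this q).symm)

theorem swap_not : swap 0 1 ∉ monoP (hexacode F4 w4) := by
  rintro ⟨c, h⟩
  have k := fun j => mem_hexa4.1 (h _ (G3_mem j))
  exact (by decide +kernel : ∀ a b c d f : F4, a ≠ 0 →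
      d * G3 0 3 = S3 (a * G3 0 1) (b * G3 0 0) (c * G3 0 2) 3 →
      f * G3 0 4 = S3 (a * G3 0 1) (b * G3 0 0) (c * G3 0 2) 4 →
      d * G3 1 3 = S3 (a * G3 1 1) (b * G3 1 0) (c * G3 1 2) 3 →
      f * G3 1 4 = S3 (a * G3 1 1) (b * G3 1 0) (c * G3 1 2) 4 →
      False) (c 0) (c 1) (c 2) (c 3) (c 4) (c 0).ne_zero
    (congrFun (k 0) 3) (congrFun (k 0) 4) (congrFun (k 1) 3) (congrFun (k 1) 4)

def fH (c : ℕ) (i : Fin 6) : Fin 6 := Fin.ofNat 6 (dg4 c i)

def u4 : F4ˣ := ⟨w4, ⟨1, 1⟩, by decide +kernel, by decide +kernel⟩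

def sH (c : ℕ) (i : Fin 6) : F4ˣ := u4 ^ dg4 c i

def autH : List (ℕ × ℕ × ℕ) := [(5517840, 5517840, 0), (4534785, 4534785, 0),
  (5517570, 5517345, 2162688), (4530435, 4522785, 1179648), (5447940, 5260065, 1180176),
  (3416325, 283425, 1179936), (4534560, 4534560, 2162688), (5513520, 5509920, 1179648),
  (3481920, 4281120, 1180176), (4399440, 1393440, 1179936), (4530960, 4530960, 0),
  (5448720, 5391120, 2236944), (3417360, 2380560, 1118496), (3490320, 4411920, 2236944),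
  (4411920, 3490320, 1118496)]

theorem autH_chk : ∀ e ∈ autH, (∀ p, fH e.2.1 (fH e.1 p) = p) ∧ (∀ p, fH e.1 (fH e.2.1 p) = p) ∧
    ∀ j, (fun p => (sH e.2.2 p : F4) * G3 j (fH e.2.1 p)) = S3 ((sH e.2.2 0 : F4) * G3 j (fH e.2.1 0))
      ((sH e.2.2 1 : F4) * G3 j (fH e.2.1 1)) ((sH e.2.2 2 : F4) * G3 j (fH e.2.1 2)) := by
  decide +kernel

theorem autH_chk2 : ∀ i < 4, ∀ y, (∀ j < i, y ≠ Fin.ofNat 6 j) →
    ∃ e ∈ autH, (∀ j < i, fH e.1 (Fin.ofNat 6 j) = Fin.ofNat 6 j) ∧ fH e.1 (Fin.ofNat 6 i) = y := by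
  decide +kernel

theorem monoP_hexa4 : monoP (hexacode F4 w4) = alternatingGroup (Fin 6) := by
  have key : ∀ x : Fin 4 ↪ Fin 6, ∃ g ∈ monoP (hexacode F4 w4), ∀ i : Fin 4,
      g • Fin.ofNat 6 i = x i := fun x => by
    obtain ⟨g, hg, e⟩ := trans_chain (monoP (hexacode F4 w4)) Set.univ (fun _ _ _ _ => trivial)
      (Fin.ofNat 6) 4 (fun i hi y _ hy => by
        obtain ⟨e, he, h1, h2⟩ := autH_chk2 i hi y hy
        obtain ⟨h3, h4, h5⟩ := autH_chk e he
        refine ⟨⟨fH e.1, fH e.2.1, h3, h4⟩, ⟨sH e.2.2, pres_of_span hexa_le ?_⟩, h1, h2⟩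
        rintro _ ⟨j, rfl⟩
        exact mem_hexa4.2 (h5 j))
      (fun i => x (Fin.ofNat 4 i)) (fun _ _ => trivial) fun i hi j hj h => by
        have := congrArg Fin.val (x.injective h)
        simp only [Fin.val_ofNat] at this
        omega
    exact ⟨g, hg, fun i => by simpa using e i i.2⟩
  have h1 : alternatingGroup (Fin 6) ≤ monoP (hexacode F4 w4) := by
    refine IsMultiplyPretransitive.alternatingGroup_le (α := Fin 6) _ ?_
    rw [Nat.card_fin, MulAction.isMultiplyPretransitive_iff]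
    intro x y
    obtain ⟨g, hg, e⟩ := key x
    obtain ⟨k, hk, e'⟩ := key y
    refine ⟨⟨k * g⁻¹, mul_mem hk (inv_mem hg)⟩, ?_⟩
    ext i : 1
    change (k * g⁻¹) • x i = y i
    rw [← e, ← e', mul_smul, inv_smul_smul]
  refine le_antisymm (fun σ hσ => ?_) h1
  by_contra h
  refine swap_not ?_
  have : σ⁻¹ * swap 0 1 ∈ alternatingGroup (Fin 6) := by
    rw [Perm.mem_alternatingGroup] at h ⊢
    rw [map_mul, Perm.sign_inv, Perm.sign_swap (by decide),
      (Int.units_eq_one_or _).resolve_left h]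
    simp
  simpa using mul_mem hσ (h1 this)

section
variable {F : Type*} [Field F] [Finite F] (e : F4 ≃+* F)

omit [Finite F] in
theorem hexa_diag {c : Fin 6 → Fˣ} (h : Pres (hexacode F (e w4)) 1 c) (i j : Fin 6) : c i = c j := by
  have h1 := map_pres e.symm _ h
  rw [e.symm_apply_apply] at h1
  exact Units.ext (e.symm.injective (congrArg Units.val (hexa_diag4 h1 i j)))

theorem monoP_hexa : monoP (hexacode F (e w4)) = alternatingGroup (Fin 6) := by
  rw [← monoP_hexa4]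
  ext σ
  refine ⟨fun ⟨c, h⟩ => ?_, fun ⟨c, h⟩ => ⟨_, map_pres e _ h⟩⟩
  have h1 := map_pres e.symm _ h
  rw [e.symm_apply_apply] at h1
  exact ⟨_, h1⟩

end

end Cfsg.Agent.Stn
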