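import Mathlib

set_option autoImplicit false

namespace Cfsg.Agent.Stn
open Finset

/-- coordinates of the length 11 ternary code -/
abbrev Ix : Type := Option (Fin 5 ⊕ Fin 5)

/-- the redundant part of the generator matrix -/
def M0 (m n : Fin 5) : ZMod 3 :=
  ((([[0, 1, 1, 1, 1], [1, 0, 1, 2, 2], [2, 2, 0, 1, 2], [1, 2, 2, 0, 1], [2, 1, 2, 2, 0]] :
    List (List ℕ)).getD m []).getD n 0 : ℕ)

/-- generator matrix -/
def gm (m : Fin 5) : Ix → ZMod 3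
  | none => 1
  | some (.inl n) => if m = n then 1 else 0
  | some (.inr n) => M0 m n

/-- code words -/
def cw11 (a : Fin 5 → ZMod 3) (i : Ix) : ZMod 3 := ∑ m, a m * gm m i

theorem cw11_inl (a : Fin 5 → ZMod 3) (n : Fin 5) : cw11 a (some (.inl n)) = a n := by
  simp [cw11, gm]

theorem cw11_inj : Function.Injective cw11 := fun a b h => by
  ext n; rw [← cw11_inl a, h, cw11_inl]

theorem cw11_zero (i : Ix) : cw11 0 i = 0 := by simp [cw11]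

theorem cw11_single (m : Fin 5) (i : Ix) : cw11 (Pi.single m 1) i = gm m i := by
  simp [cw11, Pi.single_apply]

set_option synthInstance.maxSize 4096 in
set_option synthInstance.maxHeartbeats 400000 in
theorem M0_key : ∀ a2 a3 a4 : ZMod 3, 1 + (a2 + a3 + a4) = 0 → a2 * a3 * a4 ≠ 0 →
    ∀ b0 b1 b3 b4 : ZMod 3, 1 + (b1 + b3 + b4) = 0 → 1 + (b0 + a3 * b3 + a4 * b4) = 0 →
    b0 * b1 * b3 * b4 ≠ 0 →
    ∀ c0 c1 c2 c4 : ZMod 3, 1 + (c1 + c2 + c4) = 0 → 1 + (c0 + a2 * c2 + a4 * c4) = 0 →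
    1 + (b0 * c0 + b1 * c1 + b4 * c4) = 0 → c0 * c1 * c2 * c4 ≠ 0 →
    ∀ d0 d1 d2 d3 : ZMod 3, 1 + (d1 + d2 + d3) = 0 → 1 + (d0 + a2 * d2 + a3 * d3) = 0 →
    1 + (b0 * d0 + b1 * d1 + b3 * d3) = 0 → 1 + (c0 * d0 + c1 * d1 + c2 * d2) = 0 →
    d0 * d1 * d2 * d3 ≠ 0 →
    ∃ x y z : Fin 5, Function.Injective ![0, 1, x, y, z] ∧ ∀ m n,
      ![![0, 1, 1, 1, 1], ![1, 0, a2, a3, a4], ![b0, b1, 0, b3, b4], ![c0, c1, c2, 0, c4],
        ![d0, d1, d2, d3, 0]] (![0, 1, x, y, z] m) (![0, 1, x, y, z] n) = M0 m n := by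
  decide +kernel

theorem M0_uniq (M : Fin 5 → Fin 5 → ZMod 3) (h0 : ∀ m, M m m = 0) (h1 : ∀ m n, m ≠ n → M m n ≠ 0)
    (h2 : ∀ n, n ≠ 0 → M 0 n = 1) (h3 : M 1 0 = 1)
    (h4 : ∀ m n, m ≠ n → 1 + ∑ k, M m k * M n k = 0) :
    ∃ π : Fin 5 → Fin 5, Function.Injective π ∧ π 0 = 0 ∧ ∀ m n, M (π m) (π n) = M0 m n := by
  have : Fact (Nat.Prime 3) := ⟨by norm_num⟩
  have a1 := h2 1 (by decide)
  have a2 := h2 2 (by decide)
  have a3 := h2 3 (by decide)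
  have a4 := h2 4 (by decide)
  have e : M = ![![0, 1, 1, 1, 1], ![1, 0, M 1 2, M 1 3, M 1 4], ![M 2 0, M 2 1, 0, M 2 3, M 2 4],
      ![M 3 0, M 3 1, M 3 2, 0, M 3 4], ![M 4 0, M 4 1, M 4 2, M 4 3, 0]] := by
    funext m n
    fin_cases m <;> fin_cases n <;> first | rfl | assumption | exact h0 _
  have k := fun m n h => h4 m n h
  simp only [Fin.sum_univ_five] at k
  have k01 := k 0 1 (by decide)
  have k02 := k 0 2 (by decide)
  have k03 := k 0 3 (by decide)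
  have k04 := k 0 4 (by decide)
  have k12 := k 1 2 (by decide)
  have k13 := k 1 3 (by decide)
  have k14 := k 1 4 (by decide)
  have k23 := k 2 3 (by decide)
  have k24 := k 2 4 (by decide)
  have k34 := k 3 4 (by decide)
  simp only [h0, a1, a2, a3, a4, h3, zero_mul, mul_zero, one_mul, add_zero, zero_add]
    at k01 k02 k03 k04 k12 k13 k14 k23 k24 k34
  obtain ⟨x, y, z, hi, h⟩ := M0_key _ _ _ k01
    (mul_ne_zero (mul_ne_zero (h1 _ _ (by decide)) (h1 _ _ (by decide))) (h1 _ _ (by decide)))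
    _ _ _ _ k02 k12 (mul_ne_zero (mul_ne_zero (mul_ne_zero (h1 _ _ (by decide)) (h1 _ _ (by decide)))
      (h1 _ _ (by decide))) (h1 _ _ (by decide)))
    _ _ _ _ k03 k13 k23 (mul_ne_zero (mul_ne_zero (mul_ne_zero (h1 _ _ (by decide)) (h1 _ _ (by decide)))
      (h1 _ _ (by decide))) (h1 _ _ (by decide)))
    _ _ _ _ k04 k14 k24 k34 (mul_ne_zero (mul_ne_zero (mul_ne_zero (h1 _ _ (by decide))
      (h1 _ _ (by decide))) (h1 _ _ (by decide))) (h1 _ _ (by decide)))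
  rw [← e] at h
  exact ⟨_, hi, rfl, h⟩

/-- a candidate image of the generator matrix -/
def hm (d1 d2 d3 t0 t1 t2 t3 t4 : ZMod 3) (m : Fin 5) (i : Ix) : ZMod 3 :=
  ![gm 0 i + t0 * gm 4 i, d1 * gm 1 i + t1 * gm 4 i, d2 * gm 2 i + t2 * gm 4 i,
    d3 * gm 3 i + t3 * gm 4 i, t4 * gm 4 i] m

set_option synthInstance.maxSize 4096 in
set_option synthInstance.maxHeartbeats 400000 in
theorem rig_key : ∀ d1 d2 d3 : ZMod 3, d1 * d2 * d3 ≠ 0 → ∀ t4 : ZMod 3, t4 ≠ 0 → ∀ t0 t1 t2 t3 : ZMod 3,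
    (∃ q, ∀ m : Fin 5, m ≠ 4 → hm d1 d2 d3 t0 t1 t2 t3 t4 m q = 0 ∧ gm 4 q ≠ 0) →
    (∃ q, ∃ δ : ZMod 3, δ ≠ 0 ∧ ∀ m, hm d1 d2 d3 t0 t1 t2 t3 t4 m q = δ * gm m (some (.inr 4))) →
    (∃ q, ∃ δ : ZMod 3, δ ≠ 0 ∧ ∀ m, hm d1 d2 d3 t0 t1 t2 t3 t4 m q = δ * gm m none) →
    (∃ q, ∃ δ : ZMod 3, δ ≠ 0 ∧ ∀ m, hm d1 d2 d3 t0 t1 t2 t3 t4 m q = δ * gm m (some (.inr 0))) →
    ∀ m i, hm d1 d2 d3 t0 t1 t2 t3 t4 m i = gm m i := by
  decide +kernel

theorem col_key : ∀ i q : Ix, ∀ δ : ZMod 3, (∀ m, gm m q = δ * gm m i) → q = i ∧ δ = 1 := by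
  decide +kernel

theorem rigid11 (p : Ix → Ix) (d : Ix → ZMod 3) (hd : ∀ i, d i ≠ 0)
    (h : ∀ a, ∃ b, ∀ i, cw11 b (p i) = d i * cw11 a i)
    (hp : ∀ n : Fin 5, n ≠ 4 → p (some (.inl n)) = some (.inl n)) (h0 : d (some (.inl 0)) = 1) (i : Ix) :
    p i = i ∧ d i = 1 := by
  choose b hb using fun m => h (Pi.single m 1)
  simp only [cw11_single] at hb
  have e : ∀ m n, n ≠ 4 → b m n = d (some (.inl n)) * if m = n then 1 else 0 := fun m n hn => by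
    have := hb m (some (.inl n))
    rwa [hp n hn, cw11_inl] at this
  have k : ∀ m q, cw11 (b m) q = hm (d (some (.inl 1))) (d (some (.inl 2))) (d (some (.inl 3)))
      (b 0 4) (b 1 4) (b 2 4) (b 3 4) (b 4 4) m q := fun m q => by
    rw [cw11, Fin.sum_univ_five, e m 0 (by decide), e m 1 (by decide), e m 2 (by decide),
      e m 3 (by decide), h0]
    fin_cases m <;> simp [hm]
  simp only [k] at hb
  have : Fact (Nat.Prime 3) := ⟨by norm_num⟩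
  have h4 : b 4 4 * gm 4 (p (some (.inl 4))) ≠ 0 := by
    have := hb 4 (some (.inl 4))
    simp only [gm, if_true, mul_one] at this
    exact fun e => hd _ (this.symm.trans e)
  have := rig_key _ _ _ (mul_ne_zero (mul_ne_zero (hd _) (hd _)) (hd _)) _ (left_ne_zero_of_mul h4)
    _ _ _ _ ⟨p (some (.inl 4)), fun m hm => ⟨by rw [hb]; simp [gm, hm], right_ne_zero_of_mul h4⟩⟩
    ⟨_, _, hd _, fun m => hb m _⟩
    ⟨_, _, hd _, fun m => hb m _⟩ ⟨_, _, hd _, fun m => hb m _⟩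
  simp only [this] at hb
  exact col_key _ _ _ fun m => hb m i

end Cfsg.Agent.Stn
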