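import Cfsg.Agent.Stn.C11

set_option autoImplicit false

namespace Cfsg.Agent.Stn
open Finset

variable {I : Type*} [Fintype I] [DecidableEq I]

theorem z3_sq : ∀ a : ZMod 3, a ≠ 0 → a * a = 1 := by decide
theorem z3_or : ∀ a b : ZMod 3, a ≠ 0 → b ≠ 0 → a + b = 0 ∨ a - b = 0 := by decide
theorem f5_third : ∀ m n : Fin 5, ∃ k, k ≠ m ∧ k ≠ n := by decide

omit [DecidableEq I] in
theorem dot_self3 (x : I → ZMod 3) : ∑ i, x i * x i = (hammingNorm x : ZMod 3) := by
  rw [hammingNorm, card_filter]
  push_cast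
  refine sum_congr rfl fun i _ => ?_
  generalize x i = a
  revert a
  decide

theorem code_lin (hI : Fintype.card I = 11) {C : Finset (I → ZMod 3)} (hC : C.card = 243)
    (h0 : 0 ∈ C) (hd : ∀ x ∈ C, ∀ y ∈ C, 3 ∣ hammingDist x y) :
    (∀ x ∈ C, ∀ y ∈ C, ∑ i, x i * y i = 0) ∧
      ∃ W : Submodule (ZMod 3) (I → ZMod 3), ∀ x, x ∈ W ↔ x ∈ C := by
  have : Fact (Nat.Prime 3) := ⟨by norm_num⟩
  have n0 : ∀ x ∈ C, ∀ y ∈ C, ∑ i, (x - y) i * (x - y) i = 0 := fun x hx y hy => by
    rw [dot_self3, show hammingNorm (x - y) = hammingDist x y by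
      simp only [hammingNorm, hammingDist, Pi.sub_apply, ne_eq, sub_eq_zero]]
    exact (ZMod.natCast_eq_zero_iff _ _).2 (hd x hx y hy)
  have dt : ∀ x ∈ C, ∀ y ∈ C, ∑ i, x i * y i = 0 := fun x hx y hy => by
    have a := n0 x hx 0 h0
    have b := n0 y hy 0 h0
    have c := n0 x hx y hy
    rw [sub_zero] at a b
    have e : ∑ i, (x - y) i * (x - y) i = ∑ i, (x i * x i + y i * y i + x i * y i) :=
      sum_congr rfl fun i _ => by
        have : (3 : ZMod 3) = 0 := rfl
        simp only [Pi.sub_apply]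
        linear_combination (-(x i * y i)) * this
    rw [e, sum_add_distrib, sum_add_distrib, a, b] at c
    simpa using c
  refine ⟨dt, Submodule.span (ZMod 3) (C : Set (I → ZMod 3)), ?_⟩
  set W := Submodule.span (ZMod 3) (C : Set (I → ZMod 3))
  let B : LinearMap.BilinForm (ZMod 3) (I → ZMod 3) := Matrix.toBilin' 1
  have hB : ∀ x y, B x y = ∑ i, x i * y i := fun x y => by
    simp [B, Matrix.toBilin'_apply', dotProduct]
  have nd : B.Nondegenerate := Matrix.nondegenerate_toBilin'_iff.2 (Matrix.nondegenerate_of_det_ne_zero (by simp))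
  have le : W ≤ B.orthogonal W := by
    refine Submodule.span_le.2 fun y hy x hx => ?_
    refine Submodule.span_induction (p := fun x _ => B x y = 0) (fun x hx => ?_) (by simp)
      (fun a b _ _ ha hb => by simp [ha, hb]) (fun c a _ ha => by simp [ha]) hx
    rw [hB]; exact dt x hx y hy
  have f1 := Submodule.finrank_mono le
  rw [LinearMap.BilinForm.finrank_orthogonal nd, Module.finrank_fintype_fun_eq_card, hI] at f1
  have f2 : Nat.card W ≤ 243 := by
    rw [Module.natCard_eq_pow_finrank (K := ZMod 3), Nat.card_zmod]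
    exact Nat.pow_le_pow_right (by norm_num) (show _ ≤ 5 by omega)
  have : (C : Set (I → ZMod 3)) = W := Set.eq_of_subset_of_ncard_le Submodule.subset_span
    (by rw [Set.ncard_coe_finset, hC]; exact f2)
  exact fun x => (Set.ext_iff.1 this x).symm

theorem code_info (hI : Fintype.card I = 11) {C : Finset (I → ZMod 3)} (hC : C.card = 243)
    (hn : ∀ x ∈ C, -x ∈ C) (hw : ∀ x ∈ C, x ≠ 0 → 6 ≤ hammingNorm x) (i0 : I) :
    ∃ j : Fin 5 → I, Function.Injective j ∧ j 0 = i0 ∧ ∀ x ∈ C, (∀ m, x (j m) = 0) → x = 0 := by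
  let Z : (I → ZMod 3) → Finset I := fun x => univ.filter fun i => x i = 0
  have h1 : 2 * ((C.erase 0).image Z).card ≤ (C.erase 0).card := by
    refine mul_card_image_le_card _ 2 fun s hs => ?_
    obtain ⟨x, hx, rfl⟩ := mem_image.1 hs
    have hx' := mem_erase.1 hx
    refine one_lt_card.2 ⟨x, by simp [hx'.1, hx'.2], -x, ?_, fun e => hx'.1 ?_⟩
    · simp [Z, hx'.1, hn x hx'.2]
    · ext i
      have := congrFun e i
      simp only [Pi.neg_apply, Pi.zero_apply] at this ⊢
      revert this
      generalize x i = a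
      revert a
      decide
  have h2 : (((univ.erase i0).powersetCard 4).image (insert i0)).card = 210 := by
    rw [card_image_of_injOn, card_powersetCard, card_erase_of_mem (mem_univ _), card_univ, hI]
    · rfl
    · intro s hs t ht e
      have hs' : i0 ∉ s := fun h => by simpa using (mem_powersetCard.1 hs).1 h
      have ht' : i0 ∉ t := fun h => by simpa using (mem_powersetCard.1 ht).1 h
      rw [← erase_insert hs', e, erase_insert ht']
  have h3 := card_erase_le (s := C) (a := 0)
  obtain ⟨J, hJ, hJ'⟩ := exists_mem_notMem_of_card_lt_card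
    (s := (C.erase 0).image Z) (t := ((univ.erase i0).powersetCard 4).image (insert i0)) (by omega)
  obtain ⟨s, hs, rfl⟩ := mem_image.1 hJ
  obtain ⟨hs1, hs2⟩ := mem_powersetCard.1 hs
  have hs' : i0 ∉ s := fun h => by simpa using hs1 h
  let f : Fin 4 ≃ s := (s.equivFinOfCardEq hs2).symm
  refine ⟨Fin.cons i0 fun k => f k, Fin.cons_injective_iff.2 ⟨?_, Subtype.val_injective.comp f.injective⟩,
    rfl, fun x hx h => ?_⟩
  · rintro ⟨k, e⟩
    exact hs' (e ▸ (f k).2)
  by_contra hne
  refine hJ' (mem_image.2 ⟨x, mem_erase.2 ⟨hne, hx⟩, (eq_of_subset_of_card_le (fun i hi => ?_) ?_).symm⟩)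
  · simp only [Z, mem_filter, mem_univ, true_and]
    rcases mem_insert.1 hi with rfl | hi
    · exact h 0
    · have := h (f.symm ⟨i, hi⟩).succ
      simpa using this
  · have := hw x hx hne
    have e := card_filter_add_card_filter_not (s := univ) (fun i => x i = 0)
    rw [card_univ, hI] at e
    rw [card_insert_of_notMem hs', hs2]
    simp only [hammingNorm, ne_eq] at this
    simp only [Z]
    omega

theorem code_uniq (hI : Fintype.card I = 11) {C : Finset (I → ZMod 3)} (hC : C.card = 243)
    (h0 : 0 ∈ C) (hd : ∀ x ∈ C, ∀ y ∈ C,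
      hammingDist x y = 0 ∨ hammingDist x y = 6 ∨ hammingDist x y = 9) (i0 : I) :
    ∃ (e : Ix ≃ I) (d : Ix → ZMod 3), e (some (.inl 0)) = i0 ∧ d (some (.inl 0)) = 1 ∧
      (∀ i, d i * d i = 1) ∧ ∀ a, ∃ x ∈ C, ∀ i, x (e i) = d i * cw11 a i := by
  have : Fact (Nat.Prime 3) := ⟨by norm_num⟩
  obtain ⟨dt, W, hW⟩ := code_lin hI hC h0 fun x hx y hy => by
    rcases hd x hx y hy with e | e | e <;> rw [e] <;> norm_num
  have hw : ∀ x ∈ C, x ≠ 0 → hammingNorm x = 6 ∨ hammingNorm x = 9 := fun x hx h => by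
    have := hd x hx 0 h0
    rw [hammingDist_zero_right, hammingNorm_eq_zero] at this
    tauto
  have hz : ∀ x ∈ C, x ≠ 0 → (univ.filter fun i => x i = 0).card = 5 ∨
      (univ.filter fun i => x i = 0).card = 2 := fun x hx h => by
    have := hw x hx h
    have e := card_filter_add_card_filter_not (s := univ) (fun i => x i = 0)
    rw [card_univ, hI] at e
    simp only [hammingNorm, ne_eq] at this
    omega
  have sq := z3_sq
  obtain ⟨j, ji, j0, hj⟩ := code_info hI hC (fun x hx => (hW _).1 (W.neg_mem ((hW _).2 hx)))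
    (fun x hx h => by have := hw x hx h; omega) i0
  have sur : ∀ v : Fin 5 → ZMod 3, ∃ x ∈ C, (fun m => x (j m)) = v := fun v => by
    obtain ⟨x, hx, e⟩ := surj_on_of_inj_on_of_card_le (s := C) (t := univ)
      (fun x _ => fun m => x (j m)) (fun _ _ => mem_univ _) (fun x y hx hy e => sub_eq_zero.1
        (hj _ ((hW _).1 (W.sub_mem ((hW _).2 hx) ((hW _).2 hy))) fun m => sub_eq_zero.2 (congrFun e m)))
      (by simp [hC]) v (mem_univ _)
    exact ⟨x, hx, e.symm⟩
  choose x hx hxj using fun m => sur (Pi.single m 1)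
  have xj : ∀ m n, x m (j n) = if m = n then 1 else 0 := fun m n => by
    rw [congrFun (hxj m) n, Pi.single_apply]; simp only [eq_comm]
  have x0 : ∀ m, x m ≠ 0 := fun m e => by simpa [e] using xj m m
  have ez : ∀ m, ∃ z, (∀ n, z ≠ j n) ∧ x m z = 0 ∧ ∀ i, (∀ n, i ≠ j n) → i ≠ z → x m i ≠ 0 := by
    intro m
    have s1 : (univ.erase m).image j ⊆ univ.filter fun i => x m i = 0 := fun i hi => by
      obtain ⟨n, hn, rfl⟩ := mem_image.1 hi
      simp [xj, (mem_erase.1 hn).1.symm]
    have c1 : ((univ.erase m).image j).card = 4 := by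
      rw [card_image_of_injective _ ji, card_erase_of_mem (mem_univ _)]; rfl
    have c2 := card_le_card s1
    have c3 := hz _ (hx m) (x0 m)
    obtain ⟨z, hz⟩ := card_eq_one.1 (show ((univ.filter fun i => x m i = 0) \
      (univ.erase m).image j).card = 1 by rw [card_sdiff_of_subset s1]; omega)
    have k : ∀ i, (x m i = 0 ∧ ∀ n, n ≠ m → j n ≠ i) ↔ i = z := fun i => by
      simpa using Finset.ext_iff.1 hz i
    have hz' := (k z).2 rfl
    refine ⟨z, fun n e => ?_, hz'.1, fun i hi h e => h ((k i).1 ⟨e, fun n _ => (hi n).symm⟩)⟩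
    by_cases h : n = m
    · rw [e, xj, if_pos h.symm] at hz'
      exact one_ne_zero hz'.1
    · exact hz'.2 n h e.symm
  choose z zj xz xn using ez
  have zi : Function.Injective z := fun m n e => by
    by_contra h
    obtain ⟨k, km, kn⟩ := f5_third m n
    have u := hz _ ((hW _).1 (W.add_mem ((hW _).2 (hx m)) ((hW _).2 (hx n)))) fun e => by
      simpa [xj, Ne.symm h] using congrFun e (j m)
    have v := hz _ ((hW _).1 (W.sub_mem ((hW _).2 (hx m)) ((hW _).2 (hx n)))) fun e => by
      simpa [xj, Ne.symm h] using congrFun e (j m)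
    have c1 := card_union_add_card_inter (univ.filter fun i => (x m + x n) i = 0)
      (univ.filter fun i => (x m - x n) i = 0)
    have c2 : ({j m, j n}ᶜ : Finset I).card ≤ _ := card_le_card (t := (univ.filter fun i => (x m + x n) i = 0) ∪
      (univ.filter fun i => (x m - x n) i = 0)) fun i hi => by
        simp only [mem_compl, mem_insert, mem_singleton, not_or] at hi
        simp only [mem_union, mem_filter, mem_univ, true_and, Pi.add_apply, Pi.sub_apply]
        by_cases h1 : ∃ l, i = j l
        · obtain ⟨l, rfl⟩ := h1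
          rw [xj, xj, if_neg (fun e => hi.1 (by rw [e])), if_neg (fun e => hi.2 (by rw [e]))]
          simp
        by_cases h2 : i = z m
        · rw [h2, xz, e, xz]; simp
        · exact z3_or _ _ (xn m i (fun l e => h1 ⟨l, e⟩) h2) (xn n i (fun l e => h1 ⟨l, e⟩) (e ▸ h2))
    have c3 : ({z m, j k} : Finset I).card ≤ _ := card_le_card (t := (univ.filter fun i => (x m + x n) i = 0) ∩
      (univ.filter fun i => (x m - x n) i = 0)) fun i hi => by
        simp only [mem_inter, mem_filter, mem_univ, true_and, Pi.add_apply, Pi.sub_apply]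
        rcases mem_insert.1 hi with rfl | hi
        · rw [xz, e, xz]; simp
        · rw [mem_singleton.1 hi, xj, xj, if_neg km.symm, if_neg kn.symm]; simp
    rw [card_compl, card_pair (ji.ne h), hI] at c2
    rw [card_pair (zj m k)] at c3
    omega
  obtain ⟨k0, -, hk0⟩ := exists_mem_notMem_of_card_lt_card (s := univ.image j ∪ univ.image z)
    (t := univ) (lt_of_le_of_lt (card_union_le _ _) (by
      rw [card_image_of_injective _ ji, card_image_of_injective _ zi, card_univ, card_univ, hI]; decide))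
  have kj : ∀ n, k0 ≠ j n := fun n e => hk0 (by simp [e])
  have kz : ∀ n, k0 ≠ z n := fun n e => hk0 (by simp [e])
  have mk : ∀ π : Fin 5 → Fin 5, Function.Injective π → ∃ e : Ix ≃ I, e none = k0 ∧
      (∀ n, e (some (.inl n)) = j (π n)) ∧ ∀ n, e (some (.inr n)) = z (π n) := fun π hπ => by
    refine ⟨Equiv.ofBijective (fun i => i.elim k0 (Sum.elim (j ∘ π) (z ∘ π)))
      ((Fintype.bijective_iff_injective_and_card _).2 ⟨?_, by rw [hI]; rfl⟩), rfl, fun _ => rfl,
      fun _ => rfl⟩
    rintro (_ | a | a) (_ | b | b) h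
    · rfl
    · exact absurd h (kj _)
    · exact absurd h (kz _)
    · exact absurd h.symm (kj _)
    · rw [hπ (ji h)]
    · exact absurd h.symm (zj _ _)
    · exact absurd h.symm (kz _)
    · exact absurd h (zj _ _)
    · rw [hπ (zi h)]
  have r0 : ∀ m, x m k0 ≠ 0 := fun m => xn m k0 kj (kz m)
  have z0 : ∀ m n, m ≠ n → x m (z n) ≠ 0 := fun m n h => xn m _ (zj n) (zi.ne h.symm)
  let c : Fin 5 → ZMod 3 := fun n => if n = 0 then x 1 k0 * x 1 (z 0) else x 0 k0 * x 0 (z n)
  have c0 : ∀ n, c n * c n = 1 := fun n => sq _ (by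
    simp only [c]
    split_ifs with h
    · exact mul_ne_zero (r0 _) (z0 _ _ (by decide))
    · exact mul_ne_zero (r0 _) (z0 _ _ (Ne.symm h)))
  obtain ⟨π, hπ, π0, hM⟩ := M0_uniq (fun m n => c n * (x m k0 * x m (z n))) (fun m => by simp [xz])
    (fun m n h => mul_ne_zero (left_ne_zero_of_mul_eq_one (c0 n)) (mul_ne_zero (r0 _) (z0 _ _ h)))
    (fun n h => by simpa only [c, if_neg h] using c0 n) (by simpa only [c, if_true] using c0 0)
    (fun m n h => by
      obtain ⟨e, e1, e2, e3⟩ := mk id Function.injective_id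
      have := dt _ (hx m) _ (hx n)
      rw [← e.sum_comp, Fintype.sum_option, Fintype.sum_sum_type] at this
      simp only [e1, e2, e3, id, xj] at this
      rw [sum_eq_zero (fun k _ => by
        by_cases h' : m = k
        · rw [if_neg (fun e : n = k => h (h'.trans e.symm)), mul_zero]
        · rw [if_neg h', zero_mul]), zero_add] at this
      have e4 : ∑ k, c k * (x m k0 * x m (z k)) * (c k * (x n k0 * x n (z k))) =
          x m k0 * x n k0 * ∑ k, x m (z k) * x n (z k) := by
        rw [mul_sum]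
        refine sum_congr rfl fun k _ => ?_
        linear_combination (x m k0 * x n k0 * (x m (z k) * x n (z k))) * c0 k
      rw [e4]
      linear_combination (x m k0 * x n k0) * this - sq _ (mul_ne_zero (r0 m) (r0 n)))
  obtain ⟨e, e1, e2, e3⟩ := mk π hπ
  refine ⟨e, fun i => x 0 k0 * i.elim 1 (Sum.elim (fun n => x (π n) k0) (fun n => c (π n))),
    by rw [e2, π0, j0], by simpa [π0] using sq _ (r0 0), ?_, fun a => ⟨∑ m, (x 0 k0 * a m * x (π m) k0) • x (π m),
      (hW _).1 (W.sum_mem fun m _ => W.smul_mem _ ((hW _).2 (hx _))), ?_⟩⟩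
  · rintro (_ | n | n)
    · simpa using sq _ (r0 0)
    · exact sq _ (mul_ne_zero (r0 _) (r0 _))
    · exact sq _ (mul_ne_zero (r0 _) (left_ne_zero_of_mul_eq_one (c0 _)))
  · intro i
    rw [cw11, mul_sum, Finset.sum_apply]
    refine sum_congr rfl fun m _ => ?_
    rcases i with _ | n | n
    · simp only [e1, gm, Option.elim, Pi.smul_apply, smul_eq_mul]
      linear_combination (x 0 k0 * a m) * sq _ (r0 (π m))
    · simp only [e2, gm, Option.elim, Pi.smul_apply, smul_eq_mul, xj, hπ.eq_iff, Sum.elim_inl]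
      split_ifs with h
      · rw [h]; ring
      · ring
    · simp only [e3, gm, Option.elim, Pi.smul_apply, smul_eq_mul, Sum.elim_inr, ← hM]
      linear_combination (-(x 0 k0 * a m * x (π m) k0 * x (π m) (z (π n)))) * c0 (π n)

end Cfsg.Agent.Stn
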