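import Cfsg.Agent.Stn.T276
import Cfsg.Agent.Stn.S77
import Cfsg.Agent.Stn.Rank3

set_option autoImplicit false

namespace Cfsg.Agent.Stn
open Finset MulAction

theorem S0_tri (t : Std) : S0 (.inl (some (.inl 0), 0)) t + S0 (.inl (some (.inl 0), 1)) t +
    S0 (.inl (some (.inl 0), 2)) t = t.elim (fun _ => 3) fun _ => 1 := by
  rcases t with p | a
  · revert p; decide +kernel
  · simp only [S0, Sum.elim_inr]
    generalize cw11 a _ = x
    revert x; decide

theorem z3_third : ∀ x y : ZMod 3, x ≠ 0 → y ≠ 0 → y ≠ x → y = x * 2 := by decide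

theorem std_mono {ψ : Std → Std} (h : ∀ p q, S0 (ψ p) (ψ q) = S0 p q) (h0 : ψ (.inr 0) = .inr 0)
    (h1 : ∀ α, ψ (.inl (some (.inl 0), α)) = .inl (some (.inl 0), α)) :
    ∃ (p : Ix → Ix) (d : Ix → ZMod 3) (χ : (Fin 5 → ZMod 3) → Fin 5 → ZMod 3), (∀ i, d i ≠ 0) ∧
      (∀ i α, ψ (.inl (i, α)) = .inl (p i, d i * α)) ∧ (∀ a, ψ (.inr a) = .inr (χ a)) ∧
      ∀ a i, cw11 (χ a) (p i) = d i * cw11 a i := by
  have k : ∀ t, (ψ t).elim (fun _ => (3 : ℤ)) (fun _ => 1) = t.elim (fun _ => 3) fun _ => 1 :=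
    fun t => by rw [← S0_tri, ← S0_tri, ← h _ t, ← h _ t, ← h _ t, h1, h1, h1]
  have e1 : ∀ q, ∃ q', ψ (.inl q) = .inl q' := fun q => by
    have := k (.inl q)
    rcases e : ψ (.inl q) with q' | a
    · exact ⟨q', rfl⟩
    · simp [e] at this
  have e2 : ∀ q, ∃ q', ψ (.inr q) = .inr q' := fun q => by
    have := k (.inr q)
    rcases e : ψ (.inr q) with q' | a
    · simp [e] at this
    · exact ⟨a, rfl⟩
  choose P hP using e1
  choose χ hχ using e2
  have z : ∀ q, (P q).2 = 0 ↔ q.2 = 0 := fun q => by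
    have := h (.inl q) (.inr 0)
    rw [hP, h0] at this
    simp only [S0, cw11_zero] at this
    split_ifs at this with a b b
    · exact iff_of_true a.symm b.symm
    · exact iff_of_false (Ne.symm a) (Ne.symm b)
  have f : ∀ i α β, α ≠ β → (P (i, α)).1 = (P (i, β)).1 ∧ (P (i, α)).2 ≠ (P (i, β)).2 := fun i α β e => by
    have := h (.inl (i, α)) (.inl (i, β))
    rw [hP, hP] at this
    simp only [S0, Prod.mk.injEq, e, and_false, if_false, if_true] at this
    split_ifs at this with a b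
    exact ⟨b, fun c => a (Prod.ext b c)⟩
  have g : ∀ i α, P (i, α) = ((P (i, 0)).1, (P (i, 1)).2 * α) := fun i α => by
    have c3 : ∀ α : ZMod 3, α = 0 ∨ α = 1 ∨ α = 2 := by decide
    rcases c3 α with rfl | rfl | rfl
    · exact Prod.ext rfl (by rw [mul_zero, z])
    · exact Prod.ext (f i 1 0 (by decide)).1 (by rw [mul_one])
    · exact Prod.ext (f i 2 0 (by decide)).1 (z3_third _ _ ((z _).not.2 (by decide : (1 : ZMod 3) ≠ 0))
        ((z _).not.2 (by decide : (2 : ZMod 3) ≠ 0)) (f i 2 1 (by decide)).2)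
  refine ⟨fun i => (P (i, 0)).1, fun i => (P (i, 1)).2, χ, fun i => (z _).not.2 one_ne_zero,
    fun i α => by rw [hP, g], hχ, fun a i => ?_⟩
  have := h (.inl (i, cw11 a i)) (.inr a)
  rw [hP, hχ, g] at this
  simp only [S0, if_true] at this
  split_ifs at this with a
  exact a

theorem std_rigid {ψ : Std → Std} (h : ∀ p q, S0 (ψ p) (ψ q) = S0 p q) (h0 : ψ (.inr 0) = .inr 0)
    (h1 : ∀ α, ψ (.inl (some (.inl 0), α)) = .inl (some (.inl 0), α))
    (h2 : ∀ n : Fin 5, n ≠ 4 → ψ (.inl (some (.inl n), 0)) = .inl (some (.inl n), 0)) (t : Std) :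
    ψ t = t := by
  obtain ⟨p, d, χ, a, b, c, e⟩ := std_mono h h0 h1
  have := rigid11 p d a (fun a => ⟨χ a, e a⟩) (fun n hn => by
    have := h2 n hn
    rw [b] at this
    simpa using this) (by
    have := h1 1
    rw [b, mul_one] at this
    exact congrArg Prod.snd (Sum.inl.inj this))
  rcases t with ⟨i, α⟩ | t
  · rw [b, (this i).1, (this i).2, one_mul]
  · rw [c, cw11_inj (funext fun i => show cw11 (χ t) i = cw11 t i by
      rw [← one_mul (cw11 t i), ← (this i).2, ← e, (this i).1])]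

section gr
variable {V : Type*} [Fintype V] [DecidableEq V] (G : SimpleGraph V) [DecidableRel G.Adj]

/-- Gram matrix of the two-graph of a graph with an isolated point added -/
def sg : Option V → Option V → ℤ
  | none, none => 5
  | none, some _ => 1
  | some _, none => 1
  | some u, some v => 4 * (if u = v then 1 else 0) + (-2) * ad G u v + 1 * 1

/-- switching signs -/
def ep (a b c : V) (t : Option V) : ℤ :=
  if 0 < sg G a t + sg G b t - sg G c t then 1 else -1

/-- switched Gram matrix -/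
def st (a b c : V) (u v : Option V) : ℤ := ep G a b c u * ep G a b c v * sg G u v

variable {G}

omit [Fintype V] in
theorem sg_adj {u v : V} : sg G u v = -1 ↔ G.Adj u v := by
  simp only [sg, ad]
  split_ifs with h h' h' <;> simp [h']
  exact h'.ne h

theorem t276 (hG : G.IsSRGWith 275 112 30 56) : T276 (sg G) := by
  have k : ∀ y : V, ∑ t : V, sg G y t = 55 := fun y => by
    simp only [sg, sum_add_distrib, ← mul_sum, ad_sum hG, sum_ite_eq, mem_univ, if_true, sum_const,
      card_univ, hG.card]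
    rfl
  refine ⟨by simp [hG.card], ?_, ?_, ?_, ?_⟩
  · rintro (_ | y) (_ | z) <;> try rfl
    simp only [sg, ad_comm y, eq_comm (a := y)]
  · rintro (_ | y) <;> simp [sg, ad_self]
  · rintro (_ | y) (_ | z) h
    · exact absurd rfl h
    · exact Or.inl rfl
    · exact Or.inl rfl
    · simp only [sg]
      rw [if_neg (fun e => h (by rw [e]))]
      have := ad_cases (G := G) y z
      omega
  · rintro (_ | y) (_ | z) <;> rw [Fintype.sum_option]
    · simp [sg, hG.card]
    · simp only [show ∀ t : V, sg G none t = 1 from fun _ => rfl, one_mul, k]; rfl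
    · simp only [show ∀ t : V, sg G none t = 1 from fun _ => rfl, mul_one, k]; rfl
    · have : ∑ t : V, sg G y t * sg G z t = ∑ t : V, (4 * (if z = t then sg G y t else 0) +
          sg G y t - 8 * (if y = t then ad G z t else 0) + 4 * (ad G y t * ad G z t) - 2 * ad G z t) :=
        sum_congr rfl fun t _ => by simp only [sg]; split_ifs <;> ring
      rw [this]
      simp only [sum_add_distrib, sum_sub_distrib, ← mul_sum, k, sum_ite_eq, mem_univ, if_true,
        ad_ad hG, ad_sum hG]
      simp only [sg, ad_comm z y]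
      push_cast
      ring

omit [Fintype V] in
theorem ep_val (a b c : V) (t : Option V) : ep G a b c t = 1 ∨ ep G a b c t = -1 := by
  unfold ep; split_ifs <;> simp

omit [Fintype V] in
theorem ep_none (a b c : V) : ep G a b c none = 1 := rfl

omit [Fintype V] in
theorem adj_st (a b c u v : V) : G.Adj u v ↔
    st G a b c none u * st G a b c none v * st G a b c u v = -1 := by
  rw [← sg_adj]
  simp only [st, ep_none, show ∀ t : V, sg G none t = 1 from fun _ => rfl]
  rcases ep_val (G := G) a b c u with e | e <;> rcases ep_val (G := G) a b c v with e' | e' <;>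
    simp [e, e']

theorem gr_model (hG : G.IsSRGWith 275 112 30 56) {a b c : V} (ab : G.Adj a b) (ac : ¬ G.Adj a c)
    (bc : ¬ G.Adj b c) : ∃ Ψ : Std ≃ Option V, Ψ (.inr 0) = none ∧
      Ψ (.inl (some (.inl 0), 0)) = c ∧ Ψ (.inl (some (.inl 0), 1)) = a ∧
      Ψ (.inl (some (.inl 0), 2)) = b ∧ ∀ p q, st G a b c (Ψ p) (Ψ q) = S0 p q := by
  have H := t276 hG
  have h1 : sg G a b = -1 := sg_adj.2 ab
  have h2 : sg G a c = 1 := (H.off a c fun e => bc (Option.some.inj e ▸ ab.symm)).resolve_right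
    fun e => ac (sg_adj.1 e)
  have h3 : sg G b c = 1 := (H.off b c fun e => ac (Option.some.inj e ▸ ab)).resolve_right
    fun e => bc (sg_adj.1 e)
  have ea : ep G a b c a = 1 := if_pos (by rw [H.diag, H.symm b, H.symm c, h1, h2]; norm_num)
  have eb : ep G a b c b = 1 := if_pos (by rw [H.diag, H.symm c, h1, h3]; norm_num)
  have ec : ep G a b c c = -1 := if_neg (by rw [H.diag, h2, h3]; norm_num)
  have od : ∀ u v, sg G u v = 5 ∨ sg G u v = 1 ∨ sg G u v = -1 := fun u v => by
    by_cases e : u = v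
    · rw [e]; exact Or.inl (H.diag _)
    · exact Or.inr (H.off _ _ e)
  refine T276.model (H.switch (ep_val a b c)) (by simp [ea, eb, h1]) (by simp [ea, ec, h2])
    (by simp [eb, ec, h3]) (fun t => ?_) ?_ (by simp [ec, ep_none, sg])
  · simp only [ea, eb, ec]
    have := od a t
    have := od b t
    have := od c t
    unfold ep
    split_ifs <;> omega
  · simp [T276.mem_DD, ea, eb, ec, ep_none, sg]

theorem card_cfg (hG : G.IsSRGWith 275 112 30 56) :
    (univ.filter fun p : V × V × V => G.Adj p.1 p.2.1 ∧ ¬ G.Adj p.1 p.2.2 ∧ ¬ G.Adj p.2.1 p.2.2).card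
      = 2494800 := by
  rw [card_filter, Fintype.sum_prod_type, sum_congr rfl (g := fun _ => 112 * 81)]
  · simp [hG.card]
  intro x _
  rw [Fintype.sum_prod_type, sum_congr rfl (g := fun y => if G.Adj x y then 81 else 0)]
  · rw [← sum_filter, sum_const, ← srg_deg hG x]
    congr 2; ext; simp
  intro y _
  split_ifs with h
  · have h1 := card_union_add_card_inter (G.neighborFinset x) (G.neighborFinset y)
    have h2 := card_add_card_compl (G.neighborFinset x ∪ G.neighborFinset y)
    rw [srg_lam hG h, srg_deg hG, srg_deg hG] at h1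
    rw [hG.card] at h2
    rw [← card_filter, show 81 = (G.neighborFinset x ∪ G.neighborFinset y)ᶜ.card by omega]
    congr 1; ext; simp [h]
  · simp [h]

theorem exists_cfg (hG : G.IsSRGWith 275 112 30 56) :
    ∃ a b c, G.Adj a b ∧ ¬ G.Adj a c ∧ ¬ G.Adj b c := by
  obtain ⟨p, hp⟩ := card_pos.1 ((card_cfg hG).symm ▸ (by norm_num : 0 < 2494800))
  exact ⟨_, _, _, (mem_filter.1 hp).2⟩

omit [Fintype V] in
theorem sg_aut (φ : G ≃g G) (u v : Option V) : sg G (u.map φ) (v.map φ) = sg G u v := by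
  rcases u with _ | u <;> rcases v with _ | v <;> try rfl
  simp only [Option.map_some, sg, ad, φ.map_rel_iff, EmbeddingLike.apply_eq_iff_eq]

omit [Fintype V] in
theorem st_aut (φ : G ≃g G) {a b c : V} (ha : φ a = a) (hb : φ b = b) (hc : φ c = c)
    (u v : Option V) : st G a b c (u.map φ) (v.map φ) = st G a b c u v := by
  have : ∀ u : Option V, ep G a b c (u.map φ) = ep G a b c u := fun u => by
    simp only [ep, ← sg_aut φ a u, ← sg_aut φ b u, ← sg_aut φ c u, Option.map_some, ha, hb, hc]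
  rw [st, st, this, this, sg_aut]

theorem card_aut275 (hG : G.IsSRGWith 275 112 30 56) : Nat.card (G ≃g G) ≤ 1796256000 := by
  obtain ⟨a, b, c, ab, ac, bc⟩ := exists_cfg hG
  obtain ⟨Ψ, p0, pc, pa, pb, hΨ⟩ := gr_model hG ab ac bc
  rw [← Subgroup.index_mul_card (stabilizer (G ≃g G) (a, b, c)), index_stabilizer]
  refine le_trans (Nat.mul_le_mul ?_ ?_) (show 2494800 * 720 ≤ _ by norm_num)
  · rw [← card_cfg hG, ← Set.ncard_coe_finset]
    refine Set.ncard_le_ncard ?_
    rintro _ ⟨φ, rfl⟩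
    simp [φ.map_rel_iff, ab, ac, bc]
  let ψ : stabilizer (G ≃g G) (a, b, c) → Std → Std := fun φ t => Ψ.symm ((Ψ t).map φ.1)
  have fx : ∀ φ : stabilizer (G ≃g G) (a, b, c), φ.1 a = a ∧ φ.1 b = b ∧ φ.1 c = c := fun φ => by
    have : (φ.1 a, φ.1 b, φ.1 c) = (a, b, c) := φ.2
    simpa using this
  have h : ∀ φ p q, S0 (ψ φ p) (ψ φ q) = S0 p q := fun φ p q => by
    simp only [ψ, ← hΨ, Equiv.apply_symm_apply, st_aut φ.1 (fx φ).1 (fx φ).2.1 (fx φ).2.2]
  have h0 : ∀ φ, ψ φ (.inr 0) = .inr 0 := fun φ => by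
    simp only [ψ, p0, Option.map_none, Equiv.symm_apply_eq]
  have h1 : ∀ φ α, ψ φ (.inl (some (.inl 0), α)) = .inl (some (.inl 0), α) := fun φ α => by
    have c3 : ∀ α : ZMod 3, α = 0 ∨ α = 1 ∨ α = 2 := by decide
    rcases c3 α with rfl | rfl | rfl <;>
      simp only [ψ, pa, pb, pc, Option.map_some, Equiv.symm_apply_eq, fx φ]
  have hm : ∀ φ φ' t, ψ (φ * φ') t = ψ φ (ψ φ' t) := fun φ φ' t => by
    simp only [ψ, Equiv.apply_symm_apply, Option.map_map]; rfl
  have hi : ∀ φ, (∀ t, ψ φ t = t) → φ = 1 := fun φ e => Subtype.ext (RelIso.ext fun x => by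
    have := e (Ψ.symm x)
    simpa [ψ] using this)
  have ho : ∀ t, ψ 1 t = t := fun t => by
    simp only [ψ, Equiv.symm_apply_eq]; cases Ψ t <;> rfl
  choose p d χ hd hp hχ hc using fun φ => std_mono (h φ) (h0 φ) (h1 φ)
  have pi : ∀ φ, Function.Injective (p φ) := fun φ i j e => by
    have := h φ (.inl (i, 0)) (.inl (j, 0))
    rw [hp, hp, mul_zero, mul_zero, e] at this
    simp only [S0, if_true] at this
    by_contra hn
    rw [if_neg (fun e => hn (congrArg Prod.fst e)), if_neg hn] at this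
    omega
  have p0 : ∀ φ, p φ (some (.inl 0)) = some (.inl 0) := fun φ => by
    have := h1 φ 0
    rw [hp] at this
    exact congrArg Prod.fst (Sum.inl.inj this)
  let T : Finset (Ix × Ix × Ix) := univ.filter fun q => q.1 ≠ some (.inl 0) ∧ q.2.1 ≠ some (.inl 0) ∧
    q.2.2 ≠ some (.inl 0) ∧ q.1 ≠ q.2.1 ∧ q.1 ≠ q.2.2 ∧ q.2.1 ≠ q.2.2
  have cT : T.card = 720 := by decide +kernel
  rw [← cT, ← Fintype.card_coe, ← Nat.card_eq_fintype_card]
  refine Nat.card_le_card_of_injective (fun φ => ⟨(p φ (some (.inl 1)), p φ (some (.inl 2)),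
    p φ (some (.inl 3))), ?_⟩) fun φ φ' e => ?_
  · simp only [T, mem_filter, mem_univ, true_and]
    refine ⟨?_, ?_, ?_, (pi φ).ne (by decide), (pi φ).ne (by decide), (pi φ).ne (by decide)⟩ <;>
      exact fun e => absurd (pi φ (e.trans (p0 φ).symm)) (by decide)
  · simp only [Subtype.mk.injEq, Prod.mk.injEq] at e
    refine (inv_mul_eq_one.1 (hi _ (std_rigid (h _) (h0 _) (h1 _) fun n hn => ?_)))
    refine Eq.trans ?_ (ho _)
    rw [hm, ← inv_mul_cancel φ, hm]
    congr 1
    rw [hp, hp, mul_zero, mul_zero]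
    fin_cases n
    · exact congrArg (fun x => Sum.inl (x, 0)) ((p0 _).trans (p0 _).symm)
    · exact congrArg (fun x => Sum.inl (x, 0)) e.1.symm
    · exact congrArg (fun x => Sum.inl (x, 0)) e.2.1.symm
    · exact congrArg (fun x => Sum.inl (x, 0)) e.2.2.symm
    · exact absurd rfl hn

end gr

theorem srg275_iso {V W : Type*} [Fintype V] [Fintype W] {G : SimpleGraph V} {H : SimpleGraph W}
    [DecidableRel G.Adj] [DecidableRel H.Adj] (hG : G.IsSRGWith 275 112 30 56)
    (hH : H.IsSRGWith 275 112 30 56) : Nonempty (G ≃g H) := by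
  classical
  obtain ⟨a, b, c, ab, ac, bc⟩ := exists_cfg hG
  obtain ⟨Ψ, p0, -, -, -, hΨ⟩ := gr_model hG ab ac bc
  obtain ⟨a', b', c', ab', ac', bc'⟩ := exists_cfg hH
  obtain ⟨Ψ', p0', -, -, -, hΨ'⟩ := gr_model hH ab' ac' bc'
  let e := Ψ.symm.trans Ψ'
  have e0 : e none = none := by rw [← p0, ← p0']; simp [e]
  have e1 : ∀ x, some (e.removeNone x) = e (some x) := fun x => e.removeNone_some (by
    rcases h : e (some x) with _ | y
    · exact absurd (e.injective (h.trans e0.symm)) (by simp)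
    · exact ⟨y, rfl⟩)
  have e2 : ∀ u v, st H a' b' c' (e u) (e v) = st G a b c u v := fun u v => by
    simp only [e, Equiv.trans_apply, hΨ', ← hΨ, Equiv.apply_symm_apply]
  refine ⟨⟨e.removeNone, fun {u v} => ?_⟩⟩
  rw [adj_st a b c, adj_st a' b' c', e1, e1, ← e0, e2, e2, e2]

theorem iso_of_le_two {A H K : Type*} [Group A] [Group H] [Group K] [Finite A] {f : H →* A}
    {g : K →* A} (hf : Function.Injective f) (hg : Function.Injective g)
    (h : Nat.card H = Nat.card K) (h' : Nat.card A ≤ 2 * Nat.card K) [IsSimpleGroup K]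
    (h2 : 2 < Nat.card K) : Nonempty (H ≃* K) := by
  obtain ⟨m, hm⟩ := Subgroup.card_dvd_of_injective g hg
  have := Nat.card_pos (α := A)
  have h3 : m ≤ 2 := by
    rw [hm, mul_comm] at h'
    exact Nat.le_of_mul_le_mul_right h' (by omega)
  have : Finite H := Finite.of_injective f hf
  have : Finite K := Finite.of_injective g hg
  interval_cases m
  · omega
  · exact ⟨(MulEquiv.ofBijective f ((Nat.bijective_iff_injective_and_card f).2 ⟨hf, by omega⟩)).trans
      (MulEquiv.ofBijective g ((Nat.bijective_iff_injective_and_card g).2 ⟨hg, by omega⟩)).symm⟩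
  · exact iso_of_index_two hf hg (by omega) (by omega) h2

end Cfsg.Agent.Stn
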