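import Cfsg.Agent.Stn.C11b
import Cfsg.Agent.Stn.G60

set_option autoImplicit false

namespace Cfsg.Agent.Stn
open Finset

/-- points of the standard two-graph -/
abbrev Std : Type := (Ix × ZMod 3) ⊕ (Fin 5 → ZMod 3)

/-- standard Gram matrix -/
def S0 : Std → Std → ℤ
  | .inl p, .inl q => if p = q then 5 else if p.1 = q.1 then -1 else 1
  | .inl p, .inr a => if cw11 a p.1 = p.2 then -1 else 1
  | .inr a, .inl p => if cw11 a p.1 = p.2 then -1 else 1
  | .inr a, .inr b => 5 - 2 * ((hammingDist (cw11 a) (cw11 b) : ℤ) / 3)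

variable {X : Type*} [Fintype X] [DecidableEq X]

/-- Gram matrix of 276 equiangular lines -/
structure T276 (s : X → X → ℤ) : Prop where
  card : Fintype.card X = 276
  symm : ∀ y z, s y z = s z y
  diag : ∀ y, s y y = 5
  off : ∀ y z, y ≠ z → s y z = 1 ∨ s y z = -1
  dot : ∀ y z, ∑ t, s y t * s z t = 60 * s y z

namespace T276
variable {s : X → X → ℤ} (H : T276 s)
include H

omit [DecidableEq X] in
theorem switch {ε : X → ℤ} (h : ∀ t, ε t = 1 ∨ ε t = -1) : T276 fun u v => ε u * ε v * s u v := by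
  have h2 : ∀ t, ε t * ε t = 1 := fun t => by rcases h t with e | e <;> simp [e]
  refine ⟨H.card, fun y z => by rw [H.symm, mul_comm (ε y)], fun y => by rw [h2, H.diag]; rfl,
    fun y z hyz => ?_, fun y z => ?_⟩
  · rcases h y with e | e <;> rcases h z with e' | e' <;> rcases H.off y z hyz with e'' | e'' <;>
      simp [e, e', e'']
  · rw [sum_congr rfl (g := fun t => ε y * ε z * (s y t * s z t)), ← mul_sum, H.dot]
    · ring
    · intro t _
      linear_combination (ε y * ε z * (s y t * s z t)) * h2 t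

theorem sum_sq (y : X) (D : Finset X) (hy : y ∈ D) :
    ∑ t ∈ D, s y t * s y t = 24 + D.card := by
  rw [← add_sum_erase _ _ hy, H.diag, sum_congr rfl (g := fun _ => 1), sum_const,
    ← card_erase_add_one hy]
  · simp; ring
  · intro t ht
    rcases H.off y t (ne_of_mem_erase ht).symm with e | e <;> simp [e]

variable {a b c : X} (ab : s a b = -1) (ac : s a c = -1) (bc : s b c = -1)
  (pos : ∀ t, 0 < s a t + s b t + s c t)
include ab ac bc

omit [DecidableEq X] in
theorem sg_dot (u : X) : ∑ t, (s a t + s b t + s c t) * s u t = 60 * (s a u + s b u + s c u) := by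
  simp only [add_mul, sum_add_distrib, H.dot]; ring

omit [DecidableEq X] in
theorem sg_sq : ∑ t, (s a t + s b t + s c t) * (s a t + s b t + s c t) = 540 := by
  simp only [mul_add, sum_add_distrib, H.sg_dot ab ac bc, H.diag, H.symm b a, H.symm c a,
    H.symm c b, ab, ac, bc]
  rfl

include pos

omit [DecidableEq X] in
theorem sg_val (t : X) : s a t + s b t + s c t = 1 ∨ s a t + s b t + s c t = 3 := by
  have := pos t
  by_cases h1 : a = t
  · subst h1; rw [H.diag, H.symm b, H.symm c, ab, ac]; simp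
  by_cases h2 : b = t
  · subst h2; rw [H.diag, H.symm c, ab, bc]; simp
  by_cases h3 : c = t
  · subst h3; rw [H.diag, ac, bc]; simp
  have := H.off a t h1
  have := H.off b t h2
  have := H.off c t h3
  omega

omit H ab ac bc pos in
/-- the eleven triangles -/
def DD (s : X → X → ℤ) (a b c : X) : Finset X := univ.filter fun t => s a t + s b t + s c t = 3

omit H ab ac bc pos [DecidableEq X] in
theorem mem_DD {t : X} : t ∈ DD s a b c ↔ s a t + s b t + s c t = 3 := by simp [DD]

omit [DecidableEq X] in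
theorem card_DD : (DD s a b c).card = 33 := by
  have e := H.sg_sq ab ac bc
  rw [sum_congr rfl (g := fun t => 1 + 8 * if s a t + s b t + s c t = 3 then 1 else 0)
    (fun t _ => by rcases H.sg_val ab ac bc pos t with e | e <;> simp [e]),
    sum_add_distrib, ← mul_sum, sum_boole, sum_const, card_univ, H.card] at e
  simp only [DD]
  norm_num at e
  omega

theorem frame (u v : X) : ∑ t ∈ DD s a b c, s t u * s t v =
    3 * ((s a u + s b u + s c u) * (s a v + s b v + s c v)) + 6 * s u v := by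
  set σ : X → ℤ := fun t => s a t + s b t + s c t with hσ
  have cD := H.card_DD ab ac bc pos
  have mD : ∀ t ∈ DD s a b c, σ t = 3 := fun t ht => mem_DD.1 ht
  have d1 : ∀ u, ∑ t, σ t * s u t = 60 * σ u := H.sg_dot ab ac bc
  have d2 : ∑ t, σ t * σ t = 540 := H.sg_sq ab ac bc
  have r1 : ∀ f g : X → ℤ, ∑ p : X × X, f p.1 * f p.2 * (g p.1 * g p.2) =
      (∑ u, f u * g u) * (∑ u, f u * g u) := fun f g => by
    rw [sum_mul_sum, Fintype.sum_prod_type]
    exact sum_congr rfl fun u _ => sum_congr rfl fun v _ => by ring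
  have r2 : ∀ f : X → ℤ, ∀ k : ℤ, (∀ u, ∑ t, f t * s u t = 60 * f u) → ∑ t, f t * f t = k →
      ∑ p : X × X, f p.1 * f p.2 * s p.1 p.2 = 60 * k := fun f k h h' => by
    rw [Fintype.sum_prod_type, ← h', mul_sum]
    refine sum_congr rfl fun u _ => ?_
    rw [mul_comm 60, mul_assoc, mul_comm (f u) 60, ← h u, mul_sum]
    exact sum_congr rfl fun v _ => by ring
  let P : X × X → ℤ := fun p => ∑ t ∈ DD s a b c, s t p.1 * s t p.2
  have PP : ∑ p, P p * P p = 3600 * 1881 := by
    simp only [P, sum_mul_sum]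
    rw [sum_comm, sum_congr rfl (g := fun _ => 3600 * 57), sum_const, cD]
    · rfl
    intro t ht
    rw [sum_comm]
    simp only [r1, H.dot]
    have := H.sum_sq t _ ht
    rw [cD] at this
    rw [sum_congr rfl (g := fun y => 3600 * (s t y * s t y)) (fun y _ => by ring), ← mul_sum, this]
    rfl
  have PQ : ∑ p, P p * (σ p.1 * σ p.2) = 3600 * 297 := by
    simp only [P, sum_mul]
    rw [sum_comm, sum_congr rfl (g := fun _ => 3600 * 9), sum_const, cD]
    · rfl
    intro t ht
    have := d1 t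
    rw [mD t ht, sum_congr rfl (fun u _ => mul_comm _ _)] at this
    rw [r1, this]
    rfl
  have PR : ∑ p, P p * s p.1 p.2 = 3600 * 165 := by
    simp only [P, sum_mul]
    rw [sum_comm, sum_congr rfl (g := fun _ => 3600 * 5), sum_const, cD]
    · rfl
    intro t _
    rw [r2 (s t) 300 (fun u => H.dot t u) (by rw [H.dot, H.diag]; rfl)]
    rfl
  have QQ := r1 σ σ
  have QR := r2 σ 540 d1 d2
  have RR : ∑ p : X × X, s p.1 p.2 * s p.1 p.2 = 3600 * 23 := by
    simp only [Fintype.sum_prod_type, H.dot, H.diag, sum_const, card_univ, H.card]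
    rfl
  rw [d2] at QQ
  have e : ∑ p : X × X, (P p - 3 * (σ p.1 * σ p.2) - 6 * s p.1 p.2) ^ 2 = ∑ p : X × X,
      (P p * P p + 9 * (σ p.1 * σ p.2 * (σ p.1 * σ p.2)) + 36 * (s p.1 p.2 * s p.1 p.2)
        - 6 * (P p * (σ p.1 * σ p.2)) - 12 * (P p * s p.1 p.2) + 36 * (σ p.1 * σ p.2 * s p.1 p.2)) :=
    sum_congr rfl fun p _ => by ring
  simp only [sum_add_distrib, sum_sub_distrib, ← mul_sum, PP, PQ, PR, QQ, QR, RR] at e
  have := sq_zero (e.trans (by norm_num)) (u, v)
  simp only [P] at this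
  simp only [σ] at this
  omega

theorem sum_DD (u : X) : ∑ t ∈ DD s a b c, s t u = 11 * (s a u + s b u + s c u) := by
  have h1 := H.frame ab ac bc pos u a
  have h2 := H.frame ab ac bc pos u b
  have h3 := H.frame ab ac bc pos u c
  have : ∑ t ∈ DD s a b c, (s t u * s t a + s t u * s t b + s t u * s t c) =
      ∑ t ∈ DD s a b c, 3 * s t u := sum_congr rfl fun t ht => by
    rw [← mem_DD.1 ht, H.symm a, H.symm b, H.symm c]; ring
  rw [sum_add_distrib, sum_add_distrib, h1, h2, h3, ← mul_sum] at this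
  simp only [H.diag, H.symm b a, H.symm c a, H.symm c b, ab, ac, bc, H.symm u] at this
  omega

theorem tri_sum {x y z : X} (hx : x ∈ DD s a b c) (hy : y ∈ DD s a b c) (hz : z ∈ DD s a b c)
    (xy : s x y = -1) (xz : s x z = -1) (yz : s y z = -1) (u : X) :
    s x u + s y u + s z u = s a u + s b u + s c u := by
  have e : ∑ t, ((s x t + s y t + s z t) - (s a t + s b t + s c t)) ^ 2 = ∑ t,
      ((s x t + s y t + s z t) * (s x t + s y t + s z t) +
        (s a t + s b t + s c t) * (s a t + s b t + s c t) - 2 * ((s a t + s b t + s c t) * s x t +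
        (s a t + s b t + s c t) * s y t + (s a t + s b t + s c t) * s z t)) :=
    sum_congr rfl fun t _ => by ring
  rw [sum_sub_distrib, sum_add_distrib, H.sg_sq ab ac bc, H.sg_sq xy xz yz, ← mul_sum,
    sum_add_distrib, sum_add_distrib, H.sg_dot ab ac bc, H.sg_dot ab ac bc, H.sg_dot ab ac bc,
    mem_DD.1 hx, mem_DD.1 hy, mem_DD.1 hz] at e
  have := sq_zero (e.trans (by norm_num)) u
  omega

theorem exists_tri {x : X} (hx : x ∈ DD s a b c) :
    ∃ y ∈ DD s a b c, ∃ z ∈ DD s a b c, s x y = -1 ∧ s x z = -1 ∧ s y z = -1 := by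
  have cD := H.card_DD ab ac bc pos
  obtain ⟨y, hy, xy⟩ : ∃ y ∈ DD s a b c, s x y = -1 := by
    by_contra hn
    have := H.sum_DD ab ac bc pos x
    rw [← add_sum_erase _ _ hx, H.diag, sum_congr rfl (g := fun _ => 1), sum_const,
      card_erase_of_mem hx, cD, mem_DD.1 hx] at this
    · norm_num at this
    · intro t ht
      rw [H.symm]
      exact (H.off x t (ne_of_mem_erase ht).symm).resolve_right fun e => hn ⟨t, mem_of_mem_erase ht, e⟩
  have ne : x ≠ y := fun e => by rw [e, H.diag] at xy; omega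
  by_contra hn
  have e : ∑ t ∈ DD s a b c, (s t x - 1) * (s t y - 1) =
      ∑ t ∈ DD s a b c, (s t x * s t y - s t x - s t y + 1) := sum_congr rfl fun t _ => by ring
  rw [sum_add_distrib, sum_sub_distrib, sum_sub_distrib, H.frame ab ac bc pos, H.sum_DD ab ac bc pos,
    H.sum_DD ab ac bc pos, mem_DD.1 hx, mem_DD.1 hy, sum_const, cD, ← add_sum_erase _ _ hx,
    ← add_sum_erase _ _ (mem_erase.2 ⟨ne.symm, hy⟩), sum_eq_zero, H.diag, H.diag, H.symm y, xy] at e
  · norm_num at e
  · intro t ht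
    obtain ⟨ty, ht⟩ := mem_erase.1 ht
    obtain ⟨tx, ht⟩ := mem_erase.1 ht
    rcases H.off t x tx with e | e
    · rw [e]; ring
    rcases H.off t y ty with e' | e'
    · rw [e']; ring
    exact absurd ⟨y, hy, t, ht, xy, H.symm x t ▸ e, H.symm y t ▸ e'⟩ hn

theorem model {o : X} (ho : o ∉ DD s a b c) (oc : s o c = -1) : ∃ Ψ : Std ≃ X,
    Ψ (.inr 0) = o ∧ Ψ (.inl (some (.inl 0), 0)) = c ∧ Ψ (.inl (some (.inl 0), 1)) = a ∧
    Ψ (.inl (some (.inl 0), 2)) = b ∧ ∀ p q, s (Ψ p) (Ψ q) = S0 p q := by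
  have cD := H.card_DD ab ac bc pos
  have ha : a ∈ DD s a b c := mem_DD.2 (by rw [H.diag, H.symm b, H.symm c, ab, ac]; rfl)
  have hb : b ∈ DD s a b c := mem_DD.2 (by rw [H.diag, H.symm c, ab, bc]; rfl)
  have hc : c ∈ DD s a b c := mem_DD.2 (by rw [H.diag, ac, bc]; rfl)
  have out : ∀ u ∉ DD s a b c, s a u + s b u + s c u = 1 := fun u hu =>
    (H.sg_val ab ac bc pos u).resolve_right fun e => hu (mem_DD.2 e)
  have offD : ∀ u ∉ DD s a b c, ∀ t ∈ DD s a b c, s t u = 1 ∨ s t u = -1 := fun u hu t ht =>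
    H.off t u fun e => hu (e ▸ ht)
  let Z := (DD s a b c).filter fun t => s t o = -1
  have cZ : Fintype.card Z = 11 := by
    have := H.sum_DD ab ac bc pos o
    rw [out o ho, sum_congr rfl (g := fun t => 1 - 2 * if s t o = -1 then 1 else 0)
      (fun t ht => by rcases offD o ho t ht with e | e <;> simp [e]), sum_sub_distrib, ← mul_sum,
      sum_boole, sum_const, cD] at this
    rw [Fintype.card_coe]
    norm_num at this
    simp only [Z]
    omega
  have ex : ∀ z : Z, ∃ y ∈ DD s a b c, ∃ y' ∈ DD s a b c, s z y = -1 ∧ s z y' = -1 ∧ s y y' = -1 ∧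
      ((z : X) = c → y = a ∧ y' = b) := fun z => by
    by_cases h : (z : X) = c
    · exact ⟨a, ha, b, hb, by rw [h, H.symm, ac], by rw [h, H.symm, bc], ab, fun _ => ⟨rfl, rfl⟩⟩
    · obtain ⟨y, hy, y', hy', h1, h2, h3⟩ := H.exists_tri ab ac bc pos (mem_filter.1 z.2).1
      exact ⟨y, hy, y', hy', h1, h2, h3, fun e => absurd e h⟩
  choose y hy y' hy' zy zy' yy' yc using ex
  have hz : ∀ z : Z, (z : X) ∈ DD s a b c := fun z => (mem_filter.1 z.2).1
  have zo : ∀ z : Z, s z o = -1 := fun z => (mem_filter.1 z.2).2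
  let ℓ : Z → ZMod 3 → X := fun z α => if α = 0 then z else if α = 1 then y z else y' z
  have l0 : ∀ z, ℓ z 0 = z := fun z => rfl
  have l1 : ∀ z, ℓ z 1 = y z := fun z => rfl
  have l2 : ∀ z, ℓ z 2 = y' z := fun z => rfl
  have c3 : ∀ α : ZMod 3, α = 0 ∨ α = 1 ∨ α = 2 := by decide
  have s3 : ∀ f : ZMod 3 → ℤ, ∑ α, f α = f 0 + f 1 + f 2 := fun f => Fin.sum_univ_three f
  have lD : ∀ z α, ℓ z α ∈ DD s a b c := fun z α => by
    rcases c3 α with rfl | rfl | rfl
    exacts [hz z, hy z, hy' z]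
  have ts : ∀ (z : Z) u, s z u + s (y z) u + s (y' z) u = s a u + s b u + s c u := fun z u =>
    H.tri_sum ab ac bc pos (hz z) (hy z) (hy' z) (zy z) (zy' z) (yy' z) u
  have l_same : ∀ z α β, s (ℓ z α) (ℓ z β) = if α = β then 5 else -1 := fun z α β => by
    have := zy z
    have := zy' z
    have := yy' z
    rcases c3 α with rfl | rfl | rfl <;> rcases c3 β with rfl | rfl | rfl <;>
      simp only [l0, l1, l2, H.diag, if_true] <;> rw [if_neg (by decide)] <;>
      first | assumption | (rw [H.symm]; assumption)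
  have l_out : ∀ z u, u ∈ DD s a b c → (∀ α, ℓ z α ≠ u) → ∀ α, s (ℓ z α) u = 1 := fun z u hu h α => by
    have e := ts z u
    rw [mem_DD.1 hu] at e
    have h0 := H.off _ _ (h 0)
    have h1 := H.off _ _ (h 1)
    have h2 := H.off _ _ (h 2)
    simp only [l0, l1, l2] at h0 h1 h2
    rcases c3 α with rfl | rfl | rfl <;> simp only [l0, l1, l2] <;> omega
  have l_diff : ∀ z z' α β, z ≠ z' → s (ℓ z α) (ℓ z' β) = 1 := fun z z' α β h => by
    refine l_out z _ (lD z' β) (fun γ e => ?_) α
    have h1 : ∀ δ, ℓ z δ ≠ z' := fun δ e => by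
      have e1 := ts z o
      have e2 := zo z
      have e3 := zo z'
      have e4 := offD o ho _ (hy z)
      have e5 := offD o ho _ (hy' z)
      rw [out o ho] at e1
      rcases c3 δ with rfl | rfl | rfl
      · exact h (Subtype.ext e)
      · rw [← e, l1] at e3; omega
      · rw [← e, l2] at e3; omega
    have h2 := l_out z z' (hz z') h1 γ
    rw [e, ← l0 z', l_same] at h2
    split_ifs at h2 <;> omega
  let w : X → Z → ZMod 3 := fun u z => if s z u = -1 then 0 else if s (y z) u = -1 then 1 else 2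
  have hw : ∀ u ∉ DD s a b c, ∀ z α, s (ℓ z α) u = if w u z = α then -1 else 1 := fun u hu z α => by
    have e1 := ts z u
    have e2 := offD u hu _ (hz z)
    have e4 := offD u hu _ (hy z)
    have e5 := offD u hu _ (hy' z)
    rw [out u hu] at e1
    have n1 : (0 : ZMod 3) ≠ 1 := by decide
    have n2 : (0 : ZMod 3) ≠ 2 := by decide
    have n3 : (1 : ZMod 3) ≠ 2 := by decide
    rcases c3 α with rfl | rfl | rfl <;> simp only [l0, l1, l2, w] <;> split_ifs <;>
      first | omega | contradiction | (exfalso; simp_all)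
  have li : Function.Injective fun p : Z × ZMod 3 => ℓ p.1 p.2 := fun p q e => by
    have e' : s (ℓ p.1 p.2) (ℓ q.1 q.2) = 5 := by rw [show ℓ p.1 p.2 = ℓ q.1 q.2 from e, H.diag]
    by_cases h : p.1 = q.1
    · rw [← h, l_same] at e'
      split_ifs at e' with h'
      · exact Prod.ext h h'
    · rw [l_diff _ _ _ _ h] at e'
      omega
  have lim : univ.image (fun p : Z × ZMod 3 => ℓ p.1 p.2) = DD s a b c :=
    eq_of_subset_of_card_le (fun t ht => by
      obtain ⟨p, -, rfl⟩ := mem_image.1 ht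
      exact lD _ _) (by rw [card_image_of_injective _ li, card_univ, Fintype.card_prod, cZ, cD]; rfl)
  have dist : ∀ u ∉ DD s a b c, ∀ v ∉ DD s a b c,
      6 * s u v = 30 - 4 * (hammingDist (w u) (w v) : ℤ) := fun u hu v hv => by
    have := H.frame ab ac bc pos u v
    rw [out u hu, out v hv, ← lim, sum_image (fun p _ q _ e => li e), Fintype.sum_prod_type,
      sum_congr rfl (g := fun z => 3 - 4 * if w u z ≠ w v z then 1 else 0), sum_sub_distrib,
      ← mul_sum, sum_boole, sum_const, card_univ, cZ] at this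
    · rw [hammingDist]
      norm_num at this ⊢
      omega
    · intro z _
      simp only [hw u hu, hw v hv]
      generalize w u z = α, w v z = β
      revert α β
      decide
  have wi : Set.InjOn w ((DD s a b c)ᶜ : Finset X) := fun u hu v hv e => by
    have := dist u (mem_compl.1 hu) v (mem_compl.1 hv)
    rw [e, hammingDist_self] at this
    by_contra h
    have := H.off u v h
    omega
  have w0 : w o = 0 := funext fun z => if_pos (zo z)
  obtain ⟨e, d, e0, d0, dd, hC⟩ := code_uniq cZ (C := (DD s a b c)ᶜ.image w)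
    (by rw [card_image_of_injOn wi, card_compl, cD, H.card])
    (mem_image.2 ⟨o, mem_compl.2 ho, w0⟩) (fun x hx x' hx' => by
      obtain ⟨u, hu, rfl⟩ := mem_image.1 hx
      obtain ⟨v, hv, rfl⟩ := mem_image.1 hx'
      have := dist u (mem_compl.1 hu) v (mem_compl.1 hv)
      by_cases h : u = v
      · rw [h, hammingDist_self]; simp
      · have := H.off u v h
        omega) ⟨c, mem_filter.2 ⟨hc, H.symm o c ▸ oc⟩⟩
  have ex : ∀ a' : Fin 5 → ZMod 3, ∃ u ∉ DD s a b c, ∀ i, w u (e i) = d i * cw11 a' i := fun a' => by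
    obtain ⟨x, hx, h⟩ := hC a'
    obtain ⟨u, hu, rfl⟩ := mem_image.1 hx
    exact ⟨u, mem_compl.1 hu, h⟩
  choose ψ hψ hψ' using ex
  have dc : ∀ i (α β : ZMod 3), d i * α = d i * β ↔ α = β := fun i α β =>
    ⟨fun h => by linear_combination (d i) * h - (α - β) * dd i, fun h => by rw [h]⟩
  have hd : ∀ a' b', hammingDist (w (ψ a')) (w (ψ b')) = hammingDist (cw11 a') (cw11 b') :=
    fun a' b' => by
      refine (card_equiv e fun i => ?_).symm
      simp only [mem_filter, mem_univ, true_and, hψ', ne_eq, dc]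
  let f : Std → X := Sum.elim (fun p => ℓ (e p.1) (d p.1 * p.2)) ψ
  have hf : ∀ p q, s (f p) (f q) = S0 p q := by
    rintro (p | p) (q | q)
    · simp only [f, Sum.elim_inl, S0]
      by_cases h : p.1 = q.1
      · rw [← h, l_same, if_pos rfl]
        simp only [dc, Prod.ext_iff, h, true_and]
      · rw [l_diff _ _ _ _ (e.injective.ne h), if_neg h, if_neg (fun e => h (by rw [e]))]
    · simp only [f, Sum.elim_inl, Sum.elim_inr, S0, hw _ (hψ q), hψ', dc]
    · rw [H.symm]
      simp only [f, Sum.elim_inl, Sum.elim_inr, S0, hw _ (hψ p), hψ', dc]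
    · have := dist _ (hψ p) _ (hψ q)
      rw [hd] at this
      simp only [f, Sum.elim_inr, S0]
      omega
  have fi : Function.Injective f := by
    rintro (p | p) (q | q) h
    · have := li (a₁ := (e p.1, d p.1 * p.2)) (a₂ := (e q.1, d q.1 * q.2)) h
      simp only [Prod.mk.injEq, EmbeddingLike.apply_eq_iff_eq] at this
      rw [Prod.ext this.1 ((dc _ _ _).1 (this.2.trans (by rw [this.1])))]
    · exact absurd (h ▸ lD _ _ : f (.inr q) ∈ _) (hψ q)
    · exact absurd (h ▸ lD _ _ : f (.inr p) ∈ _) (hψ p)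
    · have := hd p q
      rw [show ψ p = ψ q from h, hammingDist_self] at this
      rw [cw11_inj (hammingDist_eq_zero.1 this.symm)]
  refine ⟨Equiv.ofBijective f ((Fintype.bijective_iff_injective_and_card _).2
    ⟨fi, by rw [H.card]; simp⟩), ?_, ?_, ?_, ?_, hf⟩
  · refine wi (mem_compl.2 (hψ 0)) (mem_compl.2 ho) (funext fun z => ?_)
    obtain ⟨i, rfl⟩ := e.surjective z
    rw [w0]
    exact (hψ' 0 i).trans (by rw [cw11_zero, mul_zero]; rfl)
  · show ℓ (e (some (.inl 0))) (d (some (.inl 0)) * 0) = _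
    rw [e0, mul_zero]
    rfl
  · show ℓ _ _ = _
    rw [e0, d0, mul_one, l1]
    exact (yc _ rfl).1
  · show ℓ _ _ = _
    rw [e0, d0, one_mul, l2]
    exact (yc _ rfl).2

end T276

end Cfsg.Agent.Stn
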